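/-
The kernel of the action on the hexads through two commuting members of a group of type M(22).

Main results (namespace `Cfsg.Agent.FischerM22`):
* `pairKer`, `pairKer_card` : the kernel of `rho`, of order 1024; `pairKer_sq`, `pairKer_comm` : elementary
  abelian modulo `{1, a, b, a b}`;
* `exists_shift` : translations realising `s * hf y z`;
* `pairKer_normal` : normal in the centraliser of `a b`;
* `center_pairFix` : the centre of `C(a) ∩ C(b)` is `{1, a, b, a b}`.
-/
import Cfsg.Agent.Lib.FischerM22.PairModel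

set_option autoImplicit false

namespace Cfsg.Agent.FischerM22

open Cfsg.Agent.Unitary Cfsg.Agent.U62Cover Cfsg.Agent.ThreeTrans Cfsg.Agent.ThreeTransSU

section Vectors

variable {F : Type*} [Field F] [Fintype F]

/-- A linear functional vanishing on the isotropic vectors vanishes. -/
theorem eq_zero_of_iso (hF : Fintype.card F = 4) (f : (Fin 4 → F) →ₗ[F] F)
    (h : ∀ y, Iso y → f y = 0) : f = 0 := by
  obtain ⟨ω, hω0, hω⟩ := exists_omega hF
  refine LinearMap.pi_ext' fun i => LinearMap.ext_ring ?_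
  obtain ⟨j, hj⟩ := exists_ne i
  have ho := single_orthonormal (F := F) (card_sq hF) 4
  have hiso : ∀ s : F, s ≠ 0 → f ((Pi.single i 1 : Fin 4 → F) + s • Pi.single j 1) = 0 := fun s hs => by
    refine h _ ⟨fun e => ?_, ?_⟩
    · have := congrFun e i
      simp [hj] at this
    · simp only [hf_add_left hF, hf_add_right hF, hf_smul_left hF, hf_smul_right hF]
      rw [show hf (Pi.single i (1 : F)) (Pi.single i 1) = 1 from ho.1 i,
        show hf (Pi.single j (1 : F)) (Pi.single j 1) = 1 from ho.1 j,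
        show hf (Pi.single i (1 : F)) (Pi.single j 1) = 0 from ho.2 hj.symm,
        show hf (Pi.single j (1 : F)) (Pi.single i 1) = 0 from ho.2 hj]
      linear_combination mul_sq_self hF hs + two_eq_zero hF
  have h1 := hiso 1 one_ne_zero
  have h2 := hiso ω hω0
  rw [map_add, map_smul, smul_eq_mul] at h1 h2
  have hω1 : ω - 1 ≠ 0 := fun e => by
    rw [sub_eq_zero.1 e] at hω; exact one_ne_zero (show (1 : F) = 0 by linear_combination -hω)
  have h3 : f (Pi.single j 1) = 0 :=
    (mul_eq_zero.1 (show (ω - 1) * f (Pi.single j 1) = 0 by linear_combination h2 - h1)).resolve_left hω1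
  simpa [h3] using h1

/-- An element fixing `v0` and its orthogonal is `1` or the transvection of `v0`. -/
theorem eq_one_or_tv (hF : Fintype.card F = 4) {A : Cfsg.SU 6 F 2} (hv : act A v0 = v0)
    (hl : ∀ y, act A (low y) = low y) : A = 1 ∨ A = tv hF v0 := by
  obtain ⟨r, hr, hvr⟩ := exists_iso_not_orth hF (v0_iso hF)
  have hrv := hf_eq_one_symm hF hvr
  -- the difference at r
  set d := act A r + r with hd
  have hdv : hf d v0 = 0 := by
    rw [hd, hf_add_left hF, hrv, show hf (act A r) v0 = 1 by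
      conv_lhs => rw [← hv]
      rw [act_hf, hrv]]
    linear_combination two_eq_zero hF
  have hdl : ∀ y, hf d (low y) = 0 := fun y => by
    rw [hd, hf_add_left hF, show hf (act A r) (low y) = hf r (low y) by
      conv_lhs => rw [← hl y]
      rw [act_hf]]
    linear_combination hf r (low y) * two_eq_zero hF
  have e := perp_decomp hF hdv
  set z : Fin 4 → F := fun i => d (Fin.natAdd 2 i)
  have hz : z = 0 := funext fun i => by
    have := hdl (Pi.single i 1)
    rw [e, hf_add_left hF, hf_smul_left hF, hf_v0_low, hf_low_low, mul_zero, zero_add] at this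
    exact (hermForm_single_right (card_sq hF) z i).symm.trans this
  rw [hz, low_zero, add_zero] at e
  have hAr : act A r = d 0 • v0 + r := by rw [← e, hd, vadd_cancel hF]
  have h0 : d 0 + d 0 ^ 2 = 0 := by
    have := act_hf A r r
    simp only [hAr, hf_add_left hF, hf_add_right hF, hf_smul_left hF, hf_smul_right hF, hf_v0_v0 hF, hvr,
      hrv, hr.2] at this
    linear_combination this
  -- agreement on a spanning set
  have span : ∀ x, ∃ β γ : F, ∃ y, x = β • r + γ • v0 + low y := fun x => by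
    refine ⟨hf x v0, ?_⟩
    have e' := perp_decomp hF (x := x + hf x v0 • r) (by
      rw [hf_add_left hF, hf_smul_left hF, hrv, mul_one]; linear_combination hf x v0 * two_eq_zero hF)
    exact ⟨_, _, by rw [add_assoc, ← e', add_comm x, ← add_assoc, vadd_self hF, zero_add]⟩
  have agree : ∀ B : Cfsg.SU 6 F 2, act B v0 = v0 → (∀ y, act B (low y) = low y) → act B r = d 0 • v0 + r →
      A = B := fun B hBv hBl hBr => act_ext fun x => by
    obtain ⟨β, γ, y, rfl⟩ := span x
    simp only [act_add, act_smul, hv, hl, hAr, hBv, hBl, hBr]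
  by_cases h : d 0 = 0
  · exact Or.inl (agree 1 (act_one _) (fun y => act_one _) (by rw [act_one, h, zero_smul, zero_add]))
  · have h1 : d 0 = 1 := fixed_eq_one hF (by linear_combination h0 - d 0 * two_eq_zero hF) h
    refine Or.inr (agree _ (act_tv_self hF (hf_v0_v0 hF)) (fun y => ?_) ?_)
    · exact act_tv_of_orth hF (hf_v0_v0 hF) (hf_low_v0 y)
    · rw [act_tv hF (hf_v0_v0 hF), hrv, h1, add_comm]

/-- Two transvections with the same image modulo `v0`. -/
theorem act_tv_tv (hF : Fintype.card F = 4) (s : F) {z : Fin 4 → F} (hz : Iso z) (y : Fin 4 → F) :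
    act (tv hF (s • v0 + low z) * tv hF ((0 : F) • v0 + low z)) (low y) = (s * hf y z) • v0 + low y := by
  have e : ∀ u : F, ∀ x : Fin 4 → F, hf (low x) (u • v0 + low z) = hf x z := fun u x => by
    have := hf_comb hF 0 u x z
    rwa [zero_smul, zero_add] at this
  have hw0 := comb_iso hF 0 hz
  have hw := comb_iso hF s hz
  rw [act_mul, act_tv hF hw0.2, act_add, act_smul, act_tv hF hw.2, e, e,
    act_tv hF hw.2, hf_comb hF, hz.2, zero_smul, zero_smul, zero_add, add_zero, smul_add, smul_smul,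
    mul_comm (hf y z) s]
  rw [show low y + ((s * hf y z) • v0 + hf y z • low z) + hf y z • low z
    = (s * hf y z) • v0 + low y + (hf y z • low z + hf y z • low z) by abel, vadd_self hF, add_zero]

end Vectors

variable {G : Type*} [Group G] {D : Set G} {F : Type*} [Field F] [Fintype F] {a b : G}
  {pt : (Fin 6 → F) → G}

namespace PairModel

/-- The translation part. -/
noncomputable def shift (P : PairModel D a b pt) (k : ↥(pairFix a b)) : (Fin 4 → F) →ₗ[F] F where
  toFun y := act (P.psi k) (low y) 0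
  map_add' x y := by simp [low_add, act_add]
  map_smul' c y := by simp [low_smul, act_smul]

theorem conj_Q' (P : PairModel D a b pt) {k : ↥(pairFix a b)} (h : P.rho k = 1) (t : F) {y : Fin 4 → F}
    (hy : Iso y) : (k : G) * Q pt t y * (k : G)⁻¹ = Q pt (t + P.shift k y) y := by
  rw [P.conj_Q k t hy, h, act_one]; rfl

theorem psi_low (P : PairModel D a b pt) {k : ↥(pairFix a b)} (h : P.rho k = 1) (y : Fin 4 → F) :
    act (P.psi k) (low y) = P.shift k y • v0 + low y := by
  obtain ⟨c, hc⟩ := P.rho_spec k y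
  rw [h, act_one] at hc
  rw [show P.shift k y = c by simp [shift, hc, v0_zero, low_zero_apply], hc]

theorem shift_mul (P : PairModel D a b pt) (k : ↥(pairFix a b)) {l : ↥(pairFix a b)} (hl : P.rho l = 1) :
    P.shift (k * l) = P.shift k + P.shift l := by
  refine LinearMap.ext fun y => ?_
  show act (P.psi (k * l)) (low y) 0 = P.shift k y + P.shift l y
  rw [map_mul, act_mul, P.psi_low hl, act_add, act_smul, (P.psi_spec k).1]
  simp [shift, v0_zero, add_comm]

theorem acts_self_one [Finite G] (P : PairModel D a b pt) : Acts pt a (1 : Cfsg.SU 6 F 2) :=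
  (P.acts_one_iff (Commute.refl a)).2 (Or.inr rfl)

theorem a_fix (P : PairModel D a b pt) : a ∈ pairFix a b :=
  mem_pairFix.2 ⟨Commute.refl a, P.hbadj.2.2⟩

theorem b_fix (P : PairModel D a b pt) : b ∈ pairFix a b :=
  mem_pairFix.2 ⟨P.hbadj.2.2.symm, Commute.refl b⟩

theorem rho_a [Finite G] (P : PairModel D a b pt) : P.rho ⟨a, P.a_fix⟩ = 1 :=
  P.rho_eq P.acts_self_one blockOf_one

theorem rho_b (P : PairModel D a b pt) : P.rho ⟨b, P.b_fix⟩ = 1 :=
  P.rho_eq P.acts_b fun y => ⟨0, by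
    rw [act_tv_of_orth P.M.card (hf_v0_v0 P.M.card) (hf_low_v0 y), zero_smul, zero_add, act_one]⟩

/-- A translation by zero is one of `1, a, b, a b`. -/
theorem mem_four [Finite G] (P : PairModel D a b pt) {k : ↥(pairFix a b)} (h : P.rho k = 1)
    (h0 : P.shift k = 0) : (k : G) ∈ Subgroup.closure ({a, b} : Set G) := by
  have hV : a ∈ Subgroup.closure ({a, b} : Set G) ∧ b ∈ Subgroup.closure ({a, b} : Set G) :=
    ⟨Subgroup.subset_closure (Set.mem_insert a _), Subgroup.subset_closure (Or.inr rfl)⟩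
  have ka := (mem_pairFix.1 k.2).1
  rcases eq_one_or_tv P.M.card (P.psi_spec k).1 fun y => by
      rw [P.psi_low h, h0, LinearMap.zero_apply, zero_smul, zero_add] with e | e
  · have := P.psi_spec k
    rw [e] at this
    rcases (P.acts_one_iff ka).1 this with e' | e' <;> rw [e']
    exacts [one_mem _, hV.1]
  · have h' := acts_mul (P.psi_spec k) P.acts_b
    rw [e, tv_sq P.M.card (hf_v0_v0 P.M.card)] at h'
    rw [← mul_mem_cancel_right hV.2]
    rcases (P.acts_one_iff (ka.mul_left P.hbadj.2.2.symm)).1 h' with e' | e' <;> rw [e']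
    exacts [one_mem _, hV.1]

/-- The kernel of `rho`, as a subgroup of `G`. -/
noncomputable def pairKer (P : PairModel D a b pt) : Subgroup G := P.rho.ker.map (pairFix a b).subtype

theorem mem_pairKer (P : PairModel D a b pt) {x : G} :
    x ∈ P.pairKer ↔ ∃ h : x ∈ pairFix a b, P.rho ⟨x, h⟩ = 1 := by
  constructor
  · rintro ⟨k, hk, rfl⟩; exact ⟨k.2, hk⟩
  · rintro ⟨h, hk⟩; exact ⟨⟨x, h⟩, hk, rfl⟩

theorem pairKer_le (P : PairModel D a b pt) : P.pairKer ≤ pairFix a b := Subgroup.map_subtype_le _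

theorem closure_le_pairKer [Finite G] (P : PairModel D a b pt) :
    Subgroup.closure ({a, b} : Set G) ≤ P.pairKer := by
  rw [Subgroup.closure_le]
  rintro x (rfl | rfl)
  exacts [P.mem_pairKer.2 ⟨P.a_fix, P.rho_a⟩, P.mem_pairKer.2 ⟨P.b_fix, P.rho_b⟩]

theorem pairFix_card [Finite G] (P : PairModel D a b pt) : Nat.card ↥(pairFix a b) = 26542080 := by
  rw [pairFix_eq_inf]; exact pair_fix_card P.S P.ha P.hbadj

theorem pairKer_card [Finite G] (P : PairModel D a b pt) : Nat.card ↥P.pairKer = 1024 := by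
  rw [pairKer, ← Nat.card_congr (Subgroup.equivMapOfInjective P.rho.ker _ (pairFix a b).subtype_injective).toEquiv]
  have h := Subgroup.card_eq_card_quotient_mul_card_subgroup P.rho.ker
  rw [Nat.card_congr (QuotientGroup.quotientKerEquivOfSurjective P.rho P.rho_surjective).toEquiv,
    card_SU4 P.M.card, P.pairFix_card] at h
  omega

theorem pairKer_sq [Finite G] (P : PairModel D a b pt) {x : G} (hx : x ∈ P.pairKer) :
    x ^ 2 ∈ Subgroup.closure ({a, b} : Set G) := by
  obtain ⟨k, hk, rfl⟩ := hx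
  refine P.mem_four (k := k ^ 2) (by rw [map_pow, show P.rho k = 1 from hk, one_pow]) ?_
  rw [pow_two, P.shift_mul k hk]
  exact LinearMap.ext fun y => by
    rw [LinearMap.add_apply, LinearMap.zero_apply]; linear_combination P.shift k y * two_eq_zero P.M.card

theorem pairKer_comm [Finite G] (P : PairModel D a b pt) {x y : G} (hx : x ∈ P.pairKer)
    (hy : y ∈ P.pairKer) : x * y * x⁻¹ * y⁻¹ ∈ Subgroup.closure ({a, b} : Set G) := by
  obtain ⟨k, hk, rfl⟩ := hx
  obtain ⟨l, hl, rfl⟩ := hy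
  have hk' : P.rho k = 1 := hk
  have hl' : P.rho l = 1 := hl
  have hki : P.rho k⁻¹ = 1 := by rw [map_inv, hk', inv_one]
  have hli : P.rho l⁻¹ = 1 := by rw [map_inv, hl', inv_one]
  have inv0 : ∀ {m : ↥(pairFix a b)}, P.rho m = 1 → P.shift m + P.shift m⁻¹ = 0 := fun {m} hm => by
    rw [← P.shift_mul m (by rw [map_inv, hm, inv_one]), mul_inv_cancel]
    refine LinearMap.ext fun y => ?_
    show act (P.psi 1) (low y) 0 = 0
    rw [map_one, act_one]; rfl
  refine P.mem_four (k := k * l * k⁻¹ * l⁻¹) (by simp [hk', hl']) ?_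
  rw [P.shift_mul _ hli, P.shift_mul _ hki, P.shift_mul _ hl',
    show P.shift k + P.shift l + P.shift k⁻¹ + P.shift l⁻¹
      = (P.shift k + P.shift k⁻¹) + (P.shift l + P.shift l⁻¹) by abel, inv0 hk', inv0 hl', add_zero]

/-- Translations by `s * hf y z`, as products of two members of a hexad. -/
theorem exists_shift (P : PairModel D a b pt) (s : F) {z : Fin 4 → F} (hz : Iso z) :
    ∃ k : ↥(pairFix a b), (k : G) = Q pt s z * Q pt 0 z ∧ P.rho k = 1 ∧
      ∀ y, P.shift k y = s * hf y z := by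
  have hF := P.M.card
  refine ⟨⟨Q pt s z, P.Q_fix s hz⟩ * ⟨Q pt 0 z, P.Q_fix 0 hz⟩, rfl, ?_, fun y => ?_⟩
  · rw [map_mul, P.rho_Q s hz, P.rho_Q 0 hz, tv_sq hF hz.2]
  · have hA : ∀ t, P.psi ⟨Q pt t z, P.Q_fix t hz⟩ = tv hF (t • v0 + low z) := fun t =>
      P.psi_eq ⟨(blockOf_tv hF hz t).1, fun x hx => P.self _ (comb_iso hF t hz) x hx⟩
    show act (P.psi _) (low y) 0 = _
    rw [map_mul, hA, hA, act_tv_tv hF s hz]
    simp [v0_zero, low_zero_apply]

theorem mem_pairCent [Finite G] (P : PairModel D a b pt) {c : G}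
    (hc : c ∈ Subgroup.centralizer ({a * b} : Set G)) :
    (c * a * c⁻¹ = a ∧ c * b * c⁻¹ = b) ∨ (c * a * c⁻¹ = b ∧ c * b * c⁻¹ = a) := by
  have h : c * a * c⁻¹ * (c * b * c⁻¹) = a * b := by
    rw [show c * a * c⁻¹ * (c * b * c⁻¹) = c * (a * b) * c⁻¹ by group,
      Subgroup.mem_centralizer_singleton_iff.1 hc, mul_inv_cancel_right]
  have hb := (conj_adj P.S.grp.2.1 c a (c * b * c⁻¹)).2 (by simpa [mul_assoc] using P.hbadj)
  rcases pair_product_unique P.S P.ha P.hbadj (P.S.conj_mem c P.ha) hb h with e | e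
  · rw [e] at h; exact Or.inl ⟨e, mul_left_cancel h⟩
  · rw [e, P.hbadj.2.2.eq] at h; exact Or.inr ⟨e, mul_left_cancel h⟩

theorem conj_pairFix [Finite G] (P : PairModel D a b pt) {c k : G}
    (hc : c ∈ Subgroup.centralizer ({a * b} : Set G)) (hk : k ∈ pairFix a b) :
    c * k * c⁻¹ ∈ pairFix a b := by
  have m : ∀ {u : G}, Commute k u → Commute (c * k * c⁻¹) (c * u * c⁻¹) := fun h =>
    h.map (MulAut.conj c).toMonoidHom
  obtain ⟨ka, kb⟩ := mem_pairFix.1 hk
  rcases P.mem_pairCent hc with ⟨e, e'⟩ | ⟨e, e'⟩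
  · exact mem_pairFix.2 ⟨e ▸ m ka, e' ▸ m kb⟩
  · exact mem_pairFix.2 ⟨e' ▸ m kb, e ▸ m ka⟩

theorem conj_common [Finite G] (P : PairModel D a b pt) {c q : G}
    (hc : c ∈ Subgroup.centralizer ({a * b} : Set G)) (hq : q ∈ common D a b) :
    c * q * c⁻¹ ∈ common D a b ∧
      MulAut.conj c '' hexSet D a b q = hexSet D a b (c * q * c⁻¹) := by
  have hA : ∀ u, q ∈ adj D u → c * q * c⁻¹ ∈ adj D (c * u * c⁻¹) := fun u h =>
    (conj_adj P.S.grp.2.1 c u (c * q * c⁻¹)).2 (by simpa [mul_assoc] using h)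
  rcases P.mem_pairCent hc with ⟨e, e'⟩ | ⟨e, e'⟩
  · refine ⟨⟨e ▸ hA a hq.1, e' ▸ hA b hq.2⟩, ?_⟩
    rw [← hexSet_conj P.S c a b q, e, e']
  · refine ⟨⟨e' ▸ hA b hq.2, e ▸ hA a hq.1⟩, ?_⟩
    rw [← hexSet_conj P.S c a b q, e, e', hexSet_swap]

/-- The kernel is normal in the centraliser of `a b`. -/
theorem pairKer_normal [Finite G] (P : PairModel D a b pt) {c x : G}
    (hc : c ∈ Subgroup.centralizer ({a * b} : Set G)) (hx : x ∈ P.pairKer) : c * x * c⁻¹ ∈ P.pairKer := by
  obtain ⟨hxK, hx⟩ := P.mem_pairKer.1 hx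
  refine P.mem_pairKer.2 ⟨P.conj_pairFix hc hxK, (P.rho_eq_one_iff _).2 fun q hq => ?_⟩
  obtain ⟨hq', himg⟩ := P.conj_common (inv_mem hc) hq
  have h := (P.rho_eq_one_iff _).1 hx _ hq'
  have h2 : MulAut.conj c (x * (c⁻¹ * q * c⁻¹⁻¹) * x⁻¹) ∈ MulAut.conj c '' hexSet D a b (c⁻¹ * q * c⁻¹⁻¹) :=
    ⟨_, h, rfl⟩
  rw [(P.conj_common hc hq').2, show c * (c⁻¹ * q * c⁻¹⁻¹) * c⁻¹ = q by group] at h2
  have e : MulAut.conj c (x * (c⁻¹ * q * c⁻¹⁻¹) * x⁻¹) = c * x * c⁻¹ * q * (c * x * c⁻¹)⁻¹ := by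
    rw [MulAut.conj_apply]; group
  rwa [e] at h2

/-- The centre of `C(a) ∩ C(b)`. -/
theorem center_pairFix [Finite G] (P : PairModel D a b pt) :
    (Subgroup.center ↥(pairFix a b)).map (pairFix a b).subtype = Subgroup.closure ({a, b} : Set G) := by
  refine le_antisymm ?_ ((Subgroup.closure_le _).2 ?_)
  · rintro _ ⟨k, hk, rfl⟩
    have hk1 : P.rho k = 1 := by
      rw [← Subgroup.mem_bot, ← center_SU4 P.M.card]
      refine Subgroup.mem_center_iff.2 fun B => ?_
      obtain ⟨l, rfl⟩ := P.rho_surjective B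
      rw [← map_mul, ← map_mul, Subgroup.mem_center_iff.1 hk l]
    refine P.mem_four hk1 (eq_zero_of_iso P.M.card _ fun y hy => ?_)
    have h := P.conj_Q' hk1 0 hy
    have hc : (k : G) * Q pt 0 y = Q pt 0 y * k :=
      (congrArg Subtype.val (Subgroup.mem_center_iff.1 hk ⟨Q pt 0 y, P.Q_fix 0 hy⟩)).symm
    rw [hc, mul_inv_cancel_right, zero_add] at h
    exact (P.Q_inj_left hy h).symm
  · rintro x (rfl | rfl)
    · exact ⟨⟨_, P.a_fix⟩, Subgroup.mem_center_iff.2 fun g => Subtype.ext (mem_pairFix.1 g.2).1.eq, rfl⟩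
    · exact ⟨⟨_, P.b_fix⟩, Subgroup.mem_center_iff.2 fun g => Subtype.ext (mem_pairFix.1 g.2).2.eq, rfl⟩

theorem pairFix_le [Finite G] (P : PairModel D a b pt) :
    pairFix a b ≤ Subgroup.centralizer ({a * b} : Set G) := fun k hk =>
  Subgroup.mem_centralizer_singleton_iff.2 ((mem_pairFix.1 hk).1.mul_right (mem_pairFix.1 hk).2).eq

theorem pairFix_index [Finite G] (P : PairModel D a b pt) :
    ((pairFix a b).subgroupOf (Subgroup.centralizer ({a * b} : Set G))).index = 2 := by
  have h := Subgroup.index_mul_card ((pairFix a b).subgroupOf (Subgroup.centralizer ({a * b} : Set G)))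
  rw [Nat.card_congr (Subgroup.subgroupOfEquivOfLe P.pairFix_le).toEquiv, P.pairFix_card,
    pair_centralizer_card P.S P.ha P.hbadj] at h
  omega

end PairModel

end Cfsg.Agent.FischerM22
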