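/-
The centraliser of the product of two commuting members of a group of type M(22), modulo the kernel of its
action on hexads.

Main results (namespace `Cfsg.Agent.FischerM22`):
* `no_outer` : an element exchanging `a` and `b` does not centralise `(C(a) ∩ C(b)) / pairKer`;
* `quotient_aut` : `C(a b) / pairKer` is the automorphism group of PSU(4,2).
-/
import Cfsg.Agent.Lib.FischerM22.PairKernel
import Cfsg.Agent.S0815

set_option autoImplicit false

namespace Cfsg.Agent.FischerM22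

open Cfsg.Agent.Unitary Cfsg.Agent.U62Cover Cfsg.Agent.ThreeTrans Cfsg.Agent.ThreeTransSU

variable {G : Type*} [Group G] [Finite G] {D : Set G} {F : Type*} [Field F] [Fintype F] {a b : G}
  {pt : (Fin 6 → F) → G}

namespace PairModel

/-- Conjugation on `C(a) ∩ C(b)` by an element centralising `a b`. -/
def conjFix (P : PairModel D a b pt) {c : G} (hc : c ∈ Subgroup.centralizer ({a * b} : Set G)) :
    ↥(pairFix a b) →* ↥(pairFix a b) where
  toFun k := ⟨c * k * c⁻¹, P.conj_pairFix hc k.2⟩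
  map_one' := Subtype.ext (by simp)
  map_mul' k l := Subtype.ext (by simp [mul_assoc])

theorem no_outer (P : PairModel D a b pt) {c : G} (hc : c ∈ Subgroup.centralizer ({a * b} : Set G))
    (hcK : c ∉ pairFix a b) (hcen : ∀ k, P.rho (P.conjFix hc k) = P.rho k) : False := by
  have hF := P.M.card
  obtain ⟨ω, hω0, hω⟩ := exists_omega hF
  have hω3 : (ω ^ 2) ^ 2 = ω := pow_q_pow_q (card_sq hF) ω
  set y1 : Fin 4 → F := ![1, 1, 0, 0] with hy1
  set y2 : Fin 4 → F := ![0, 0, 1, 1] with hy2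
  set z1 : Fin 4 → F := ![ω, ω ^ 2, 0, 0] with hz1
  set z2 : Fin 4 → F := ![0, 0, ω, ω ^ 2] with hz2
  have i1 : Iso y1 := ⟨fun e => by simpa [hy1] using congrFun e 0, by
    simp [hy1, hf, Cfsg.hermForm, Fin.sum_univ_four]; linear_combination two_eq_zero hF⟩
  have j1 : Iso z1 := ⟨fun e => hω0 (by simpa [hz1] using congrFun e 0), by
    simp [hz1, hf, Cfsg.hermForm, Fin.sum_univ_four, hω3]; linear_combination ω ^ 3 * two_eq_zero hF⟩
  have j2 : Iso z2 := ⟨fun e => hω0 (by simpa [hz2] using congrFun e 2), by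
    simp [hz2, hf, Cfsg.hermForm, Fin.sum_univ_four, hω3]; linear_combination ω ^ 3 * two_eq_zero hF⟩
  have f11 : hf y1 z1 = 1 := by
    simp [hy1, hz1, hf, Cfsg.hermForm, Fin.sum_univ_four, hω3]
    linear_combination hω + ω * two_eq_zero hF
  have f22 : hf y2 z2 = 1 := by
    simp [hy2, hz2, hf, Cfsg.hermForm, Fin.sum_univ_four, hω3]
    linear_combination hω + ω * two_eq_zero hF
  have f12 : hf y1 z2 = 0 := by simp [hy1, hz2, hf, Cfsg.hermForm, Fin.sum_univ_four]
  have f21 : hf y2 z1 = 0 := by simp [hy2, hz1, hf, Cfsg.hermForm, Fin.sum_univ_four]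
  have iy : ∀ s : F, s ≠ 0 → Iso (y1 + s • y2) := fun s hs =>
    ⟨fun e => by simpa [hy1, hy2] using congrFun e 0, by
      simp [hy1, hy2, hf, Cfsg.hermForm, Fin.sum_univ_four]
      linear_combination (1 + s ^ 3) * two_eq_zero hF⟩
  have i2 : Iso y2 := ⟨fun e => by simpa [hy2] using congrFun e 2, by
    simp [hy2, hf, Cfsg.hermForm, Fin.sum_univ_four]; linear_combination two_eq_zero hF⟩
  -- every hexad through a and b is fixed
  have hmove0 : ∀ {d : G} (hd : d ∈ Subgroup.centralizer ({a * b} : Set G)),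
      (∀ k, P.rho (P.conjFix hd k) = P.rho k) → ∀ t y, Iso y → ∃ s, d * Q pt t y * d⁻¹ = Q pt s y := by
    intro d hd hdc t y hy
    obtain ⟨s, y', hy', e⟩ := P.exists_Q (P.conj_common hd (P.Q_mem t hy)).1
    have h := hdc ⟨Q pt t y, P.Q_fix t hy⟩
    rw [show P.conjFix hd ⟨Q pt t y, P.Q_fix t hy⟩ = ⟨Q pt s y', P.Q_fix s hy'⟩ from Subtype.ext e,
      P.rho_Q s hy', P.rho_Q t hy] at h
    obtain ⟨r, hr, rfl⟩ := tv_inj hF hy hy' h.symm
    refine ⟨r⁻¹ * s, ?_⟩
    rw [e, ← P.Q_smul (r⁻¹ * s) hy hr, mul_inv_cancel_left₀ hr]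
  -- adjust so that Q 0 y1 is fixed
  obtain ⟨s0, hs0⟩ := hmove0 hc hcen 0 y1 i1
  obtain ⟨e0, -, he0, hsh0⟩ := P.exists_shift s0 j1
  have he0C : (e0 : G) ∈ Subgroup.centralizer ({a * b} : Set G) := P.pairFix_le e0.2
  set d := (e0 : G) * c with hd
  have hdC : d ∈ Subgroup.centralizer ({a * b} : Set G) := mul_mem he0C hc
  have hdK : d ∉ pairFix a b := fun h => hcK (by
    have := mul_mem (inv_mem e0.2) h
    rwa [hd, inv_mul_cancel_left] at this)
  have hdcen : ∀ k, P.rho (P.conjFix hdC k) = P.rho k := fun k => by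
    have : P.conjFix hdC k = e0 * P.conjFix hc k * e0⁻¹ := Subtype.ext (by
      show d * k * d⁻¹ = e0 * (c * k * c⁻¹) * (e0 : G)⁻¹
      rw [hd]; group)
    rw [this, map_mul, map_mul, map_inv, he0, hcen, inv_one, mul_one, one_mul]
  have hfix : d * Q pt 0 y1 * d⁻¹ = Q pt 0 y1 := by
    rw [hd, show (e0 : G) * c * Q pt 0 y1 * ((e0 : G) * c)⁻¹ = (e0 : G) * (c * Q pt 0 y1 * c⁻¹) * (e0 : G)⁻¹ by
      group, hs0, P.conj_Q' he0 s0 i1, hsh0, f11, mul_one]
    congr 1
    linear_combination s0 * two_eq_zero hF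
  have hall : ∀ y, Iso y → ∃ π : F → F, ∀ t, d * Q pt t y * d⁻¹ = Q pt (π t) y := fun y hy =>
    ⟨fun t => (hmove0 hdC hdcen t y hy).choose, fun t => (hmove0 hdC hdcen t y hy).choose_spec⟩
  choose! π hπ using hall
  have hπ0 : π y1 0 = 0 := P.Q_inj_left i1 ((hπ y1 i1 0).symm.trans hfix)
  -- the action commutes with translations
  have key : ∀ k, P.rho k = 1 → ∀ y, Iso y → ∀ t,
      π y (t + P.shift k y) = π y t + P.shift (P.conjFix hdC k) y := by
    intro k hk y hy t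
    have hk' : P.rho (P.conjFix hdC k) = 1 := (hdcen k).trans hk
    refine P.Q_inj_left hy ?_
    rw [← hπ y hy, ← P.conj_Q' hk t hy, ← P.conj_Q' hk' _ hy, ← hπ y hy t]
    show _ = d * k * d⁻¹ * _ * (d * k * d⁻¹)⁻¹
    group
  have key0 : ∀ k, P.rho k = 1 → ∀ y, Iso y →
      P.shift (P.conjFix hdC k) y = π y (P.shift k y) - π y 0 := fun k hk y hy => by
    have := key k hk y hy 0
    rw [zero_add] at this
    rw [this, add_sub_cancel_left]
  have lin : ∀ s : F, s ≠ 0 → ∀ x1 x2,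
      π (y1 + s • y2) (x1 + s * x2) - π (y1 + s • y2) 0 = π y1 x1 + s * (π y2 x2 - π y2 0) := by
    intro s hs x1 x2
    obtain ⟨k1, -, r1, g1⟩ := P.exists_shift x1 j1
    obtain ⟨k2, -, r2, g2⟩ := P.exists_shift x2 j2
    have hk : P.rho (k1 * k2) = 1 := by rw [map_mul, r1, r2, one_mul]
    have v1 : P.shift (k1 * k2) y1 = x1 := by
      rw [P.shift_mul k1 r2, LinearMap.add_apply, g1, g2, f11, f12]; ring
    have v2 : P.shift (k1 * k2) y2 = x2 := by
      rw [P.shift_mul k1 r2, LinearMap.add_apply, g1, g2, f21, f22]; ring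
    have v3 : P.shift (k1 * k2) (y1 + s • y2) = x1 + s * x2 := by
      rw [map_add, map_smul, v1, v2, smul_eq_mul]
    have h3 := key0 _ hk _ (iy s hs)
    rw [v3, map_add, map_smul, smul_eq_mul, key0 _ hk _ i1, key0 _ hk _ i2, v1, v2, hπ0, sub_zero] at h3
    exact h3.symm
  have h12 : ∀ x, π y2 x - π y2 0 = π y1 x := fun x => by
    have e1 := lin 1 one_ne_zero x 0
    have e2 := lin 1 one_ne_zero 0 x
    simp only [one_smul, one_mul, zero_add, add_zero, mul_zero, sub_self, hπ0] at e1 e2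
    rw [← e2, e1]
  have hlin : ∀ s : F, s ≠ 0 → π y1 s = s * π y1 1 := fun s hs => by
    have e1 := lin s hs s 0
    have e2 := lin s hs 0 1
    simp only [mul_zero, add_zero, mul_one, zero_add, sub_self, hπ0] at e1 e2
    rw [← h12 1, ← e1, e2]
  have hμ : π y1 1 ≠ 0 := fun e => by
    have h1 := hπ y1 i1 1
    rw [e] at h1
    exact one_ne_zero (P.Q_inj_left i1 ((MulAut.conj d).injective (h1.trans hfix.symm)))
  have hlin' : ∀ t, π y1 t = t * π y1 1 := fun t => by
    by_cases ht : t = 0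
    · rw [ht, zero_mul, hπ0]
    · exact hlin t ht
  -- the cube fixes the fibre and exchanges a and b
  set e := d * d * d with he
  have hefix : ∀ t, Commute e (Q pt t y1) := fun t => by
    refine mul_inv_eq_iff_eq_mul.1 ?_
    rw [show e * Q pt t y1 * e⁻¹ = d * (d * (d * Q pt t y1 * d⁻¹) * d⁻¹) * d⁻¹ by rw [he]; group,
      hπ y1 i1, hπ y1 i1, hπ y1 i1, hlin' (π y1 (π y1 t)), hlin' (π y1 t), hlin' t]
    congr 1
    linear_combination t * (U62Cover.pow_three hF hμ : π y1 1 ^ 3 = 1)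
  have hswap : d * a * d⁻¹ = b ∧ d * b * d⁻¹ = a :=
    (P.mem_pairCent hdC).resolve_left fun h =>
      hdK (mem_pairFix.2 ⟨mul_inv_eq_iff_eq_mul.1 h.1, mul_inv_eq_iff_eq_mul.1 h.2⟩)
  have hea : e * a * e⁻¹ = b := by
    rw [show e * a * e⁻¹ = d * (d * (d * a * d⁻¹) * d⁻¹) * d⁻¹ by rw [he]; group, hswap.1, hswap.2, hswap.1]
  have hω1 : ω ≠ 1 := fun h => by
    rw [h] at hω; exact one_ne_zero (show (1 : F) = 0 by linear_combination -hω)
  have hω2 : ω ^ 2 ≠ 1 := fun h => hω0 (by linear_combination h - hω)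
  have hω4 : ω ^ 2 ≠ ω := fun h => one_ne_zero (show (1 : F) = 0 by linear_combination h - hω)
  have hne : ∀ {t t' : F}, t ≠ t' → Q pt t y1 ≠ Q pt t' y1 := fun h h' => h (P.Q_inj_left i1 h')
  have hab : a ≠ b := P.hbadj.2.1.symm
  have hq0 := P.Q_mem 0 i1
  have T : IsTriple D a b (Q pt 0 y1) :=
    ⟨P.ha, P.hbadj.1, hq0.1.1, hab, hq0.1.2.1.symm, hq0.2.2.1.symm, P.hbadj.2.2, hq0.1.2.2, hq0.2.2.2⟩
  have hm := P.hexSet_eq 0
  have T' := isTriple_of_mem (hm 0 i1) (hm 1 i1) (hm ω i1) (hne zero_ne_one) (hne hω0.symm)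
    (hne hω1.symm)
  have hH : hexSet D (Q pt 0 y1) (Q pt 1 y1) (Q pt ω y1) = hexSet D a b (Q pt 0 y1) :=
    hexSet_eq_of_mem P.S T (hm 0 i1) (hm 1 i1) (hm ω i1) (hne zero_ne_one) (hne hω0.symm) (hne hω1.symm)
  have := hexad_three_fixed P.S T' (hH ▸ hm (ω ^ 2) i1) (hne (pow_ne_zero 2 hω0)) (hne hω2) (hne hω4)
    (hefix 0) (hefix 1) (hefix ω) (hefix (ω ^ 2)) (p := a) (hH ▸ (self_mem_hexSet T).1)
  rw [this.eq, mul_inv_cancel_right] at hea
  exact hab hea

omit [Finite G] in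
theorem exists_conjAut {C K : Subgroup G} {Q : Type*} [Group Q] (η : ↥K →* Q) (hη : Function.Surjective η)
    (σ : ↥C → (↥K →* ↥K)) (hσ : ∀ c k, ((σ c k : ↥K) : G) = c * k * (c : G)⁻¹)
    (hker : ∀ c k, η k = 1 → η (σ c k) = 1) :
    ∃ Φ : ↥C →* MulAut Q, ∀ c k, Φ c (η k) = η (σ c k) := by
  let φ : ↥C → Q →* Q := fun c =>
    η.liftOfSurjective hη ⟨η.comp (σ c), fun k hk => hker c k hk⟩
  have hφ : ∀ c k, φ c (η k) = η (σ c k) := fun c k =>
    MonoidHom.liftOfRightInverse_comp_apply η _ _ _ k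
  have hone : ∀ k, σ 1 k = k := fun k => Subtype.ext (by simp [hσ])
  have hmul : ∀ c c' k, σ (c * c') k = σ c (σ c' k) := fun c c' k => Subtype.ext (by simp [hσ, mul_assoc])
  have hcomp : ∀ c c' x, φ c (φ c' x) = φ (c * c') x := fun c c' x => by
    obtain ⟨k, rfl⟩ := hη x
    rw [hφ, hφ, hφ, hmul]
  have hid : ∀ x, φ 1 x = x := fun x => by
    obtain ⟨k, rfl⟩ := hη x
    rw [hφ, hone]
  refine ⟨⟨⟨fun c =>
    { toFun := φ c
      invFun := φ c⁻¹
      left_inv := fun x => by rw [hcomp, inv_mul_cancel, hid]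
      right_inv := fun x => by rw [hcomp, mul_inv_cancel, hid]
      map_mul' := map_mul (φ c) }, MulEquiv.ext hid⟩, fun c c' => MulEquiv.ext fun x => (hcomp c c' x).symm⟩,
    hφ⟩

theorem quotient_aut (P : PairModel D a b pt) :
    ∃ _ : (P.pairKer.subgroupOf (Subgroup.centralizer ({a * b} : Set G))).Normal,
      Nonempty (↥(Subgroup.centralizer ({a * b} : Set G)) ⧸
          P.pairKer.subgroupOf (Subgroup.centralizer ({a * b} : Set G)) ≃* MulAut (Cfsg.PSU 4 F 2)) := by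
  have hF := P.M.card
  set C := Subgroup.centralizer ({a * b} : Set G) with hC
  let η : ↥(pairFix a b) →* Cfsg.PSU 4 F 2 := (toPSU 4 F).comp P.rho
  have hη : Function.Surjective η := (QuotientGroup.mk'_surjective _).comp P.rho_surjective
  have hη1 : ∀ k, η k = 1 ↔ P.rho k = 1 := fun k => by
    rw [MonoidHom.comp_apply, toPSU_eq_one, center_SU4 hF, Subgroup.mem_bot]
  have hηinj : ∀ k l, η k = η l → P.rho k = P.rho l := fun k l h => by
    rw [← mul_inv_eq_one, ← map_inv, ← map_mul, ← hη1, map_mul, map_inv, h, mul_inv_cancel]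
  obtain ⟨Φ, hΦ⟩ := exists_conjAut (C := C) η hη (fun c => P.conjFix c.2) (fun c k => rfl) fun c k hk => by
    obtain ⟨h, h'⟩ := P.mem_pairKer.1 (P.pairKer_normal c.2 (P.mem_pairKer.2 ⟨k.2, (hη1 k).1 hk⟩))
    exact (hη1 _).2 h'
  have hker : Φ.ker = P.pairKer.subgroupOf C := by
    ext c
    rw [MonoidHom.mem_ker, Subgroup.mem_subgroupOf, P.mem_pairKer]
    constructor
    · intro h
      have hcen : ∀ k, P.rho (P.conjFix c.2 k) = P.rho k := fun k => hηinj _ _ (by
        rw [← hΦ, h]; rfl)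
      have hcK : (c : G) ∈ pairFix a b := by_contra fun hn => P.no_outer c.2 hn hcen
      refine ⟨hcK, ?_⟩
      rw [← Subgroup.mem_bot, ← center_SU4 hF]
      refine Subgroup.mem_center_iff.2 fun B => ?_
      obtain ⟨k, rfl⟩ := P.rho_surjective B
      have h1 := hcen k
      rw [show P.conjFix c.2 k = ⟨c, hcK⟩ * k * (⟨c, hcK⟩ : ↥(pairFix a b))⁻¹ from Subtype.ext rfl,
        map_mul, map_mul, map_inv, mul_inv_eq_iff_eq_mul] at h1
      exact h1.symm
    · rintro ⟨hcK, h1⟩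
      refine MulEquiv.ext fun x => ?_
      obtain ⟨k, rfl⟩ := hη x
      rw [hΦ, show P.conjFix c.2 k = ⟨c, hcK⟩ * k * (⟨c, hcK⟩ : ↥(pairFix a b))⁻¹ from Subtype.ext rfl,
        map_mul, map_mul, map_inv, (hη1 _).2 h1, one_mul, inv_one, mul_one]
      rfl
  have hcardPSU : Nat.card (Cfsg.PSU 4 F 2) = 25920 := by
    have h := Subgroup.card_eq_card_quotient_mul_card_subgroup (Subgroup.center (Cfsg.SU 4 F 2))
    rw [card_SU4 hF, center_SU4 hF, Subgroup.card_bot, mul_one] at h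
    show Nat.card (Cfsg.SU 4 F 2 ⧸ Subgroup.center (Cfsg.SU 4 F 2)) = _
    rw [center_SU4 hF]
    exact h.symm
  have : Fact (Nat.Prime 2) := ⟨Nat.prime_two⟩
  have hcardAut : Nat.card (MulAut (Cfsg.PSU 4 F 2)) = 51840 := by
    rw [S0815.result (F := F) 2 1 le_rfl (q := 2) rfl (by rw [hF]; norm_num) 4 (by norm_num) (by norm_num),
      hcardPSU]
    rfl
  have hidx : Φ.ker.index = 51840 := by
    have h := Subgroup.index_mul_card Φ.ker
    rw [hker, Nat.card_congr (Subgroup.subgroupOfEquivOfLe (P.pairKer_le.trans P.pairFix_le)).toEquiv,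
      P.pairKer_card, show Nat.card ↥C = 53084160 from pair_centralizer_card P.S P.ha P.hbadj] at h
    rw [hker]
    omega
  have : Finite (MulAut (Cfsg.PSU 4 F 2)) := Nat.finite_of_card_ne_zero (by rw [hcardAut]; norm_num)
  have hsurj : Function.Surjective Φ := by
    rw [← MonoidHom.range_eq_top]
    refine Subgroup.eq_top_of_card_eq _ ?_
    rw [← Subgroup.index_ker, hidx, hcardAut]
  have hn : (P.pairKer.subgroupOf C).Normal := hker ▸ Φ.normal_ker
  exact ⟨hn, ⟨(QuotientGroup.quotientMulEquivOfEq hker.symm).trans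
    (QuotientGroup.quotientKerEquivOfSurjective Φ hsurj)⟩⟩

end PairModel

end Cfsg.Agent.FischerM22
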