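/-
The normal subgroup of order 1024 in the centraliser of a product of two members in a group of type M(22).

Main results (namespace `Cfsg.Agent.FischerM22`):
* `pair_comm`, `pair_sq` : its commutators and squares lie in `{1, a b}`;
* `pairKer_split` : it is the direct product of a group of order two and an extraspecial group of order 512;
* `centralizer_pairKer` : it contains its centraliser in `C(a b)`.
-/
import Cfsg.Agent.Lib.FischerM22.PairAut
import Cfsg.Agent.Lib.LargeExtraspecial.Central
import Cfsg.Agent.Lib.CharSimple.Basic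

set_option autoImplicit false

namespace Cfsg.Agent.FischerM22

open scoped commutatorElement
open Cfsg.Agent.Unitary Cfsg.Agent.U62Cover Cfsg.Agent.ThreeTrans Cfsg.Agent.ThreeTransSU

section Vectors

variable {F : Type*} [Field F] [Fintype F]

theorem iso_span (hF : Fintype.card F = 4) {U : Submodule F (Fin 4 → F)} (hU : ∀ y, Iso y → y ∈ U) :
    U = ⊤ := by
  by_contra h
  obtain ⟨f, hf, hle⟩ := Submodule.exists_le_ker_of_lt_top U (lt_top_iff_ne_top.2 h)
  exact hf (eq_zero_of_iso hF f fun y hy => hle (hU y hy))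

end Vectors

variable {G : Type*} [Group G] {D : Set G} {F : Type*} [Field F] [Fintype F] {a b : G}
  {pt : (Fin 6 → F) → G}

namespace PairModel

theorem mem_four_cases (P : PairModel D a b pt) {x : G} (hx : x ∈ Subgroup.closure ({a, b} : Set G)) :
    x = 1 ∨ x = a ∨ x = b ∨ x = a * b := by
  have ha2 := mul_self P.S.cls.1 P.ha
  have hb2 := mul_self P.S.cls.1 P.hbadj.1
  have hab : b * a = a * b := P.hbadj.2.2.eq.symm
  have e1 : a * (a * b) = b := by rw [← mul_assoc, ha2, one_mul]
  have e2 : b * (a * b) = a := by rw [← mul_assoc, hab, mul_assoc, hb2, mul_one]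
  induction hx using Subgroup.closure_induction with
  | mem y hy =>
    rcases hy with rfl | rfl
    exacts [Or.inr (Or.inl rfl), Or.inr (Or.inr (Or.inl rfl))]
  | one => exact Or.inl rfl
  | mul y z _ _ hy hz =>
    rcases hy with rfl | rfl | rfl | rfl <;> rcases hz with rfl | rfl | rfl | rfl <;>
      simp [ha2, hb2, hab, e1, e2, mul_assoc]
  | inv y _ hy =>
    rcases hy with rfl | rfl | rfl | rfl
    · exact Or.inl inv_one
    · exact Or.inr (Or.inl (inv_eq_of_mul_eq_one_left ha2))
    · exact Or.inr (Or.inr (Or.inl (inv_eq_of_mul_eq_one_left hb2)))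
    · refine Or.inr (Or.inr (Or.inr ?_))
      rw [mul_inv_rev, inv_eq_of_mul_eq_one_left ha2, inv_eq_of_mul_eq_one_left hb2, hab]

/-- The subgroup `{1, a b}`. -/
def prodGrp (a b : G) : Subgroup G := Subgroup.closure {a * b}

theorem mem_prodGrp (P : PairModel D a b pt) {x : G} : x ∈ prodGrp a b ↔ x = 1 ∨ x = a * b := by
  have h2 : a * b * (a * b) = 1 := by
    rw [show a * b * (a * b) = a * (b * a) * b by simp only [mul_assoc], ← P.hbadj.2.2.eq,
      mul_assoc, mul_assoc a b b, mul_self P.S.cls.1 P.hbadj.1, mul_one, mul_self P.S.cls.1 P.ha]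
  constructor
  · intro hx
    induction hx using Subgroup.closure_induction with
    | mem y hy => exact Or.inr hy
    | one => exact Or.inl rfl
    | mul y z _ _ hy hz => rcases hy with rfl | rfl <;> rcases hz with rfl | rfl <;> simp [h2]
    | inv y _ hy =>
      rcases hy with rfl | rfl
      exacts [Or.inl inv_one, Or.inr (inv_eq_of_mul_eq_one_left h2)]
  · rintro (rfl | rfl)
    exacts [one_mem _, Subgroup.subset_closure rfl]

theorem conj_prodGrp (P : PairModel D a b pt) {x t : G} (hx : x ∈ pairFix a b) (ht : t ∈ prodGrp a b) :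
    x * t = t * x := by
  rcases P.mem_prodGrp.1 ht with rfl | rfl
  · simp
  · exact ((mem_pairFix.1 hx).1.mul_right (mem_pairFix.1 hx).2).eq

/-- The products of two members of a hexad. -/
def pairGens (pt : (Fin 6 → F) → G) : Set G :=
  {g | ∃ (s : F) (z : Fin 4 → F), Iso z ∧ g = Q pt s z * Q pt 0 z}

theorem gens_mem (P : PairModel D a b pt) {g : G} (hg : g ∈ pairGens pt) : g ∈ P.pairKer := by
  obtain ⟨s, z, hz, rfl⟩ := hg
  obtain ⟨k, hk, hk1, -⟩ := P.exists_shift s hz
  exact hk ▸ P.mem_pairKer.2 ⟨k.2, hk1⟩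

theorem Q_pair (P : PairModel D a b pt) {t t' : F} (h : t ≠ t') {z : Fin 4 → F} (hz : Iso z) :
    Q pt t' z ∈ adj D (Q pt t z) :=
  ⟨(P.Q_mem t' hz).1.1, fun e => h (P.Q_inj_left hz e).symm, (P.M.comm _ _ (comb_iso P.M.card t hz)
    (comb_iso P.M.card t' hz)).2 ((hf_comb P.M.card _ _ _ _).trans hz.2)⟩

variable [Finite G]

theorem gens_comm (P : PairModel D a b pt) {x g : G} (hx : x ∈ P.pairKer) (hg : g ∈ pairGens pt) :
    ⁅x, g⁆ ∈ prodGrp a b := by
  obtain ⟨s, z, hz, rfl⟩ := hg
  by_cases hs : s = 0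
  · have : Q pt s z * Q pt 0 z = 1 := by rw [hs]; exact mul_self P.S.cls.1 (P.Q_mem 0 hz).1.1
    rw [this, commutatorElement_one_right]; exact one_mem _
  have hadj := P.Q_pair hs hz
  set w := Q pt s z * Q pt 0 z with hw
  have hwK : w ∈ P.pairKer := P.gens_mem ⟨s, z, hz, hw⟩
  have hm : IsProd D 2 w := isProd_two (P.Q_mem s hz).1.1 hadj
  -- the conjugate of w is again such a product
  obtain ⟨hxK, hx1⟩ := P.mem_pairKer.1 hx
  have hconj : x * w * x⁻¹ = Q pt (s + P.shift ⟨x, hxK⟩ z) z * Q pt (0 + P.shift ⟨x, hxK⟩ z) z := by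
    rw [← P.conj_Q' hx1 s hz, ← P.conj_Q' hx1 0 hz, hw]; group
  have hm' : IsProd D 2 (x * w * x⁻¹) := by
    rw [hconj]
    exact isProd_two (P.Q_mem _ hz).1.1 (P.Q_pair (fun e => hs (add_right_cancel e)) hz)
  have hcomm : x * w * x⁻¹ = ⁅x, w⁆ * w := by rw [commutatorElement_def]; group
  have hV : ⁅x, w⁆ ∈ Subgroup.closure ({a, b} : Set G) := P.pairKer_comm hx hwK
  have tri : ∀ u : G, u ∈ D → u ∈ adj D (Q pt s z) → u ∈ adj D (Q pt 0 z) → ¬ IsProd D 2 (u * w) := by
    intro u hu h1 h2 hh
    have h3 : IsProd D 3 (u * Q pt s z * Q pt 0 z) :=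
      isProd_three ⟨hu, (P.Q_mem s hz).1.1, hadj.1, h1.2.1, h2.2.1, hadj.2.1.symm,
        h1.2.2.symm, h2.2.2.symm, hadj.2.2⟩
    rw [hw, ← mul_assoc] at hh
    exact absurd (prod_unique P.S (by norm_num) (by norm_num) (by norm_num) le_rfl hh h3) (by norm_num)
  rw [P.mem_prodGrp]
  rw [hcomm] at hm'
  rcases P.mem_four_cases hV with h | h | h | h
  · exact Or.inl h
  · exact absurd (h ▸ hm') (tri a P.ha (adj_symm P.ha (P.Q_mem s hz).1) (adj_symm P.ha (P.Q_mem 0 hz).1))
  · exact absurd (h ▸ hm') (tri b P.hbadj.1 (adj_symm P.hbadj.1 (P.Q_mem s hz).2)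
      (adj_symm P.hbadj.1 (P.Q_mem 0 hz).2))
  · exact Or.inr h

theorem le_closure_gens (P : PairModel D a b pt) :
    P.pairKer ≤ Subgroup.closure ({a, b} ∪ pairGens pt) := by
  set W := Subgroup.closure ({a, b} ∪ pairGens pt) with hW
  have hF := P.M.card
  -- translations realised inside W
  let Good : ((Fin 4 → F) →ₗ[F] F) → Prop := fun f => ∃ k, P.rho k = 1 ∧ (k : G) ∈ W ∧ P.shift k = f
  have gadd : ∀ {f g}, Good f → Good g → Good (f + g) := by
    rintro f g ⟨k, k1, k2, rfl⟩ ⟨l, l1, l2, rfl⟩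
    exact ⟨k * l, by rw [map_mul, k1, l1, one_mul], mul_mem k2 l2, P.shift_mul k l1⟩
  have gzero : Good 0 := by
    refine ⟨1, map_one _, one_mem _, LinearMap.ext fun y => ?_⟩
    show act (P.psi 1) (low y) 0 = 0
    rw [map_one, act_one]; rfl
  let hfl : (Fin 4 → F) → ((Fin 4 → F) →ₗ[F] F) := fun u =>
    { toFun := fun y => hf y u
      map_add' := fun y y' => hf_add_left hF y y' u
      map_smul' := fun c y => hf_smul_left hF c y u }
  let U : Submodule F (Fin 4 → F) :=
    { carrier := {u | ∀ s : F, Good (s • hfl u)}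
      add_mem' := fun {u u'} hu hu' s => by
        have : s • hfl (u + u') = s • hfl u + s • hfl u' := LinearMap.ext fun y => by
          simp [hfl, hf_add_right hF, mul_add]
        rw [this]; exact gadd (hu s) (hu' s)
      zero_mem' := fun s => by
        have : s • hfl 0 = 0 := LinearMap.ext fun y => by simp [hfl, hf_zero_right hF]
        rw [this]; exact gzero
      smul_mem' := fun c u hu s => by
        have : s • hfl (c • u) = (s * c ^ 2) • hfl u := LinearMap.ext fun y => by
          simp [hfl, hf_smul_right hF, mul_assoc]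
        rw [this]; exact hu _ }
  have hU : U = ⊤ := iso_span hF fun z hz s => by
    obtain ⟨k, hk, hk1, hks⟩ := P.exists_shift s hz
    exact ⟨k, hk1, hk ▸ Subgroup.subset_closure (Or.inr ⟨s, z, hz, rfl⟩), LinearMap.ext hks⟩
  intro x hx
  obtain ⟨hxK, hx1⟩ := P.mem_pairKer.1 hx
  obtain ⟨k, k1, k2, k3⟩ : Good (P.shift ⟨x, hxK⟩) := by
    have e : P.shift ⟨x, hxK⟩ = ∑ i, P.shift ⟨x, hxK⟩ (Pi.single i 1) • hfl (Pi.single i 1) := by
      refine LinearMap.pi_ext' fun j => LinearMap.ext_ring ?_
      simp only [LinearMap.coe_comp, LinearMap.coe_single, Function.comp_apply, LinearMap.sum_apply,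
        LinearMap.smul_apply, smul_eq_mul]
      rw [Finset.sum_eq_single j]
      · show _ = _ * hf (Pi.single j (1 : F)) (Pi.single j 1)
        rw [show hf (Pi.single j (1 : F)) (Pi.single j 1) = 1 from (single_orthonormal (card_sq hF) 4).1 j,
          mul_one]
      · intro i _ hi
        show _ * hf (Pi.single j (1 : F)) (Pi.single i 1) = 0
        rw [show hf (Pi.single j (1 : F)) (Pi.single i 1) = 0 from (single_orthonormal (card_sq hF) 4).2 hi.symm,
          mul_zero]
      · exact fun h => absurd (Finset.mem_univ j) h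
    rw [e]
    exact Finset.sum_induction _ Good (fun _ _ => gadd) gzero fun i _ =>
      (hU ▸ Submodule.mem_top : Pi.single i (1 : F) ∈ U) _
  have h0 : P.shift (⟨x, hxK⟩ * k) = 0 := by
    rw [P.shift_mul _ k1, k3]
    exact LinearMap.ext fun y => by
      rw [LinearMap.add_apply, LinearMap.zero_apply]
      linear_combination P.shift ⟨x, hxK⟩ y * two_eq_zero hF
  have hV := P.mem_four (by rw [map_mul, hx1, k1, one_mul]) h0
  have hxk : x * (k : G) ∈ W := Subgroup.closure_mono Set.subset_union_left hV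
  exact (mul_mem_cancel_right k2).1 hxk

theorem pair_comm (P : PairModel D a b pt) {x y : G} (hx : x ∈ P.pairKer) (hy : y ∈ P.pairKer) :
    ⁅x, y⁆ ∈ prodGrp a b := by
  have hxF := P.pairKer_le hx
  have hle : Subgroup.closure ({a, b} ∪ pairGens pt) ≤ pairFix a b := (Subgroup.closure_le _).2 (by
    rintro g ((rfl | rfl) | hg)
    exacts [P.a_fix, P.b_fix, P.pairKer_le (P.gens_mem hg)])
  replace hy := P.le_closure_gens hy
  induction hy using Subgroup.closure_induction with
  | mem g hg =>
    rcases hg with (rfl | rfl) | hg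
    · rw [commutatorElement_eq_one_iff_commute.2 (mem_pairFix.1 hxF).1]; exact one_mem _
    · rw [commutatorElement_eq_one_iff_commute.2 (mem_pairFix.1 hxF).2]; exact one_mem _
    · exact P.gens_comm hx hg
  | one => rw [commutatorElement_one_right]; exact one_mem _
  | mul u v hu _ hu' hv =>
    have e : ⁅x, u * v⁆ = ⁅x, u⁆ * (u * ⁅x, v⁆ * u⁻¹) := by simp only [commutatorElement_def]; group
    rw [e, P.conj_prodGrp (hle hu) hv, mul_inv_cancel_right]
    exact mul_mem hu' hv
  | inv u hu hu' =>
    have e : ⁅x, u⁻¹⁆ = u⁻¹ * ⁅x, u⁆⁻¹ * u := by simp only [commutatorElement_def]; group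
    rw [e, P.conj_prodGrp (inv_mem (hle hu)) (inv_mem hu'), inv_mul_cancel_right]
    exact inv_mem hu'

theorem pair_sq (P : PairModel D a b pt) {x : G} (hx : x ∈ P.pairKer) : x * x ∈ prodGrp a b := by
  have hle : Subgroup.closure ({a, b} ∪ pairGens pt) ≤ P.pairKer := (Subgroup.closure_le _).2 (by
    rintro g ((rfl | rfl) | hg)
    exacts [P.closure_le_pairKer (Subgroup.subset_closure (Set.mem_insert _ _)),
      P.closure_le_pairKer (Subgroup.subset_closure (Or.inr rfl)), P.gens_mem hg])
  replace hx := P.le_closure_gens hx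
  induction hx using Subgroup.closure_induction with
  | mem g hg =>
    refine P.mem_prodGrp.2 (Or.inl ?_)
    rcases hg with (rfl | rfl) | ⟨s, z, hz, rfl⟩
    · exact mul_self P.S.cls.1 P.ha
    · exact mul_self P.S.cls.1 P.hbadj.1
    · by_cases hs : s = 0
      · rw [hs, mul_self P.S.cls.1 (P.Q_mem 0 hz).1.1, one_mul]
      · rw [mul_assoc, ← mul_assoc (Q pt 0 z), ← (P.Q_pair hs hz).2.2.eq, mul_assoc (Q pt s z),
          mul_self P.S.cls.1 (P.Q_mem 0 hz).1.1, mul_one, mul_self P.S.cls.1 (P.Q_mem s hz).1.1]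
  | one => rw [one_mul]; exact one_mem _
  | mul u v hu hv hu' hv' =>
    have e : u * v * (u * v) = u * u * (⁅u⁻¹, v⁆ * (v * v)) := by simp only [commutatorElement_def]; group
    rw [e]
    exact mul_mem hu' (mul_mem (P.pair_comm (inv_mem (hle hu)) (hle hv)) hv')
  | inv u hu hu' => rw [← mul_inv_rev]; exact inv_mem hu'

theorem center_pairKer (P : PairModel D a b pt) {x : G} (hx : x ∈ P.pairKer)
    (hcen : ∀ y ∈ P.pairKer, Commute x y) : x ∈ Subgroup.closure ({a, b} : Set G) := by
  have hF := P.M.card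
  obtain ⟨ω, hω0, hω⟩ := exists_omega hF
  obtain ⟨hxK, hx1⟩ := P.mem_pairKer.1 hx
  refine P.mem_four hx1 (eq_zero_of_iso hF _ fun z hz => ?_)
  set g := P.shift ⟨x, hxK⟩ z with hg
  have key : ∀ s : F, s ≠ 0 → g = 0 ∨ g = s := by
    intro s hs
    have h := hcen _ (P.gens_mem ⟨s, z, hz, rfl⟩)
    have e : Q pt (s + g) z * Q pt (0 + g) z = Q pt s z * Q pt 0 z := by
      rw [hg, ← P.conj_Q' hx1 s hz, ← P.conj_Q' hx1 0 hz]
      calc x * Q pt s z * x⁻¹ * (x * Q pt 0 z * x⁻¹) = x * (Q pt s z * Q pt 0 z) * x⁻¹ := by group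
        _ = _ := by rw [h.eq, mul_inv_cancel_right]
    rcases pair_product_unique P.S (P.Q_mem s hz).1.1 (P.Q_pair hs hz) (P.Q_mem _ hz).1.1
        (P.Q_pair (fun e' => hs (add_right_cancel e')) hz) e with h' | h'
    · exact Or.inl (by linear_combination P.Q_inj_left hz h')
    · exact Or.inr (by linear_combination P.Q_inj_left hz h' - s * two_eq_zero hF)
  rcases key 1 one_ne_zero with h1 | h1
  · exact h1
  rcases key ω hω0 with h2 | h2
  · exact h2
  rw [← h2, h1] at hω
  exact absurd (show (1 : F) = 0 by linear_combination -hω) one_ne_zero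

/-- The kernel is the direct product of a group of order two and an extraspecial group. -/
theorem pairKer_split (P : PairModel D a b pt) :
    ∃ (E : Type) (_ : Group E) (_ : Finite E), Cfsg.IsExtraspecial 2 E ∧ Nat.card E = 2 ^ 9 ∧
      Nonempty (↥P.pairKer ≃* Multiplicative (ZMod 2) × E) := by
  have hD := P.S.cls.1
  have ha2 := mul_self hD P.ha
  have hab1 : a * b ≠ 1 := fun h => P.hbadj.2.1 (by
    rw [← mul_self_cancel hD P.ha (x := b), h, mul_one])
  have haE : a ∈ P.pairKer := P.closure_le_pairKer (Subgroup.subset_closure (Set.mem_insert _ _))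
  have hbE : b ∈ P.pairKer := P.closure_le_pairKer (Subgroup.subset_closure (Or.inr rfl))
  have hT : prodGrp a b ≤ P.pairKer := (Subgroup.closure_le _).2 (by
    rintro _ rfl; exact mul_mem haE hbE)
  have haT : a ∉ prodGrp a b := fun h => by
    rcases P.mem_prodGrp.1 h with h | h
    · exact ne_one hD P.ha h
    · exact ne_one hD P.hbadj.1 (mul_left_cancel (a := a) (by rw [← h, mul_one]))
  obtain ⟨M, ⟨hTM, hME, haM⟩, hmax⟩ := Set.Finite.exists_maximal
    (s := {M : Subgroup G | prodGrp a b ≤ M ∧ M ≤ P.pairKer ∧ a ∉ M}) (Set.toFinite _)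
    ⟨prodGrp a b, le_rfl, hT, haT⟩
  have hMn : ∀ x ∈ P.pairKer, ∀ m ∈ M, x * m * x⁻¹ ∈ M := fun x hx m hm => by
    rw [show x * m * x⁻¹ = ⁅x, m⁆ * m by rw [commutatorElement_def]; group]
    exact mul_mem (hTM (P.pair_comm hx (hME hm))) hm
  have cover : ∀ x ∈ P.pairKer, x ∈ M ∨ a * x ∈ M := by
    intro x hx
    by_cases hxM : x ∈ M
    · exact Or.inl hxM
    let M' : Subgroup G :=
      { carrier := {y | y ∈ M ∨ x⁻¹ * y ∈ M}
        one_mem' := Or.inl (one_mem _)
        mul_mem' := by
          rintro u v (hu | hu) (hv | hv)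
          · exact Or.inl (mul_mem hu hv)
          · refine Or.inr ?_
            rw [show x⁻¹ * (u * v) = (x⁻¹ * u * x⁻¹⁻¹) * (x⁻¹ * v) by group]
            exact mul_mem (hMn _ (inv_mem hx) u hu) hv
          · exact Or.inr (by rw [← mul_assoc]; exact mul_mem hu hv)
          · refine Or.inl ?_
            rw [show u * v = (x * (x⁻¹ * u) * x⁻¹) * ((x * x) * (x⁻¹ * v)) by group]
            exact mul_mem (hMn _ hx _ hu) (mul_mem (hTM (P.pair_sq hx)) hv)
        inv_mem' := by
          rintro u (hu | hu)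
          · exact Or.inl (inv_mem hu)
          · refine Or.inr ?_
            rw [show x⁻¹ * u⁻¹ = (x⁻¹ * (x⁻¹ * u)⁻¹ * x⁻¹⁻¹) * (x * x)⁻¹ by group]
            exact mul_mem (hMn _ (inv_mem hx) _ (inv_mem hu)) (inv_mem (hTM (P.pair_sq hx))) }
    have haM' : a ∈ M' := by
      by_contra ha'
      have h1 : M ≤ M' := fun y hy => Or.inl hy
      refine hxM (hmax ⟨hTM.trans h1, fun y hy => ?_, ha'⟩ h1 (Or.inr (by simp)))
      rcases hy with h | h
      · exact hME h
      · exact (mul_mem_cancel_left (inv_mem hx)).1 (hME h)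
    refine Or.inr ?_
    have h := inv_mem (haM'.resolve_left haM)
    rwa [mul_inv_rev, inv_inv, inv_eq_of_mul_eq_one_left ha2] at h
  have hcenM : ∀ x ∈ M, (∀ q ∈ M, q * x = x * q) → x = 1 ∨ x = a * b := by
    intro x hx hq
    have hxa : Commute x a := (mem_pairFix.1 (P.pairKer_le (hME hx))).1
    have hV := P.center_pairKer (hME hx) fun y hy => by
      rcases cover y hy with h | h
      · exact (hq y h).symm
      · rw [← mul_self_cancel hD P.ha (x := y)]
        exact hxa.mul_right (hq _ h).symm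
    rcases P.mem_four_cases hV with h | h | h | h
    · exact Or.inl h
    · exact absurd (h ▸ hx) haM
    · refine absurd ?_ haM
      have := mul_mem (hTM (Subgroup.subset_closure rfl : a * b ∈ prodGrp a b)) (h ▸ hx)
      rwa [mul_assoc, mul_self hD P.hbadj.1, mul_one] at this
    · exact Or.inr h
  let θ : Multiplicative (ZMod 2) × ↥M → ↥P.pairKer := fun p =>
    ⟨(if Multiplicative.toAdd p.1 = 0 then 1 else a) * p.2,
      mul_mem (by split_ifs; exacts [one_mem _, haE]) (hME p.2.2)⟩
  have htwo : ∀ i : ZMod 2, i = 0 ∨ i = 1 := by decide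
  have h11 : (1 : ZMod 2) + 1 = 0 := by decide
  have h10 : (1 : ZMod 2) ≠ 0 := by decide
  have hθ : ∀ p q, θ (p * q) = θ p * θ q := by
    rintro ⟨i, m⟩ ⟨j, n⟩
    refine Subtype.ext ?_
    have hma : (m : G) * a = a * m := (mem_pairFix.1 (P.pairKer_le (hME m.2))).1.eq
    show (if Multiplicative.toAdd i + Multiplicative.toAdd j = 0 then 1 else a) * ((m : G) * n)
      = (if Multiplicative.toAdd i = 0 then 1 else a) * m * ((if Multiplicative.toAdd j = 0 then 1 else a) * n)
    rcases htwo (Multiplicative.toAdd i) with hi | hi <;> rcases htwo (Multiplicative.toAdd j) with hj | hj <;>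
      simp only [hi, hj, h11, h10, add_zero, zero_add, if_true, if_false, one_mul]
    · rw [← mul_assoc (m : G) a, hma]; simp only [mul_assoc]
    · simp only [mul_assoc]
    · rw [← mul_assoc ((a : G) * m) a, mul_assoc a (m : G) a, hma, ← mul_assoc a a, ha2, one_mul]
  have hbij : Function.Bijective (MonoidHom.mk' θ hθ) := by
    refine ⟨(injective_iff_map_eq_one _).2 ?_, fun y => ?_⟩
    · rintro ⟨i, m⟩ h
      have h' := congrArg Subtype.val h
      change (if Multiplicative.toAdd i = 0 then 1 else a) * (m : G) = 1 at h'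
      rcases htwo (Multiplicative.toAdd i) with hi | hi
      · simp only [hi, if_true, one_mul] at h'
        exact Prod.ext (Multiplicative.toAdd.injective hi) (Subtype.ext h')
      · simp only [hi, h10, if_false] at h'
        exact absurd (eq_inv_of_mul_eq_one_left h' ▸ inv_mem m.2) haM
    · rcases cover y y.2 with h | h
      · exact ⟨(Multiplicative.ofAdd 0, ⟨y, h⟩), Subtype.ext (by simp [MonoidHom.mk', θ])⟩
      · exact ⟨(Multiplicative.ofAdd 1, ⟨_, h⟩), Subtype.ext (by
          simp [MonoidHom.mk', θ, h10, mul_self_cancel hD P.ha])⟩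
  have hcardM : Nat.card ↥M = 2 ^ 9 := by
    have h := Nat.card_congr (MulEquiv.ofBijective _ hbij).toEquiv
    rw [Nat.card_prod, Nat.card_congr Multiplicative.toAdd, Nat.card_zmod, P.pairKer_card] at h
    omega
  have hp : IsPGroup 2 ↥M := IsPGroup.of_card hcardM
  have hnab : ∃ x ∈ M, ∃ y ∈ M, ⁅x, y⁆ ≠ 1 := by
    by_contra h
    simp only [not_exists, not_and, not_not, commutatorElement_eq_one_iff_commute] at h
    have hsub : (M : Set G) ⊆ {1, a * b} := fun x hx => hcenM x hx fun q hq => h q hq x hx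
    have h1 := Set.ncard_le_ncard hsub (Set.toFinite _)
    rw [show (M : Set G).ncard = Nat.card ↥M from (Nat.card_coe_set_eq _).symm, hcardM] at h1
    have h2 := Set.ncard_insert_le (1 : G) {a * b}
    rw [Set.ncard_singleton] at h2
    norm_num at h1
    omega
  obtain ⟨E, iE, ⟨e⟩⟩ := CharSimple.exists_type0 ↥M
  have : Finite E := Finite.of_equiv _ e.toEquiv
  have hab_mem : a * b ∈ M := hTM (Subgroup.subset_closure rfl)
  have hz : e ⟨a * b, hab_mem⟩ ≠ 1 := by
    rw [Ne, map_eq_one_iff e e.injective]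
    exact fun h => hab1 (congrArg Subtype.val h)
  obtain ⟨hE, -⟩ := LargeExtraspecial.isExtraspecial_of_gen (P := (⊤ : Subgroup E))
    (z := e ⟨a * b, hab_mem⟩) ((hp.of_equiv e).to_subgroup _) (Subgroup.mem_top _) hz
    (fun q _ => by
      obtain ⟨q, rfl⟩ := e.surjective q
      rw [← map_mul, ← map_mul]
      exact congrArg e (Subtype.ext (P.conj_prodGrp (P.pairKer_le (hME q.2))
        (Subgroup.subset_closure rfl))))
    (fun x _ hx => by
      obtain ⟨x, rfl⟩ := e.surjective x
      rw [map_eq_one_iff e e.injective, e.injective.eq_iff]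
      refine (hcenM x x.2 fun q hq => congrArg Subtype.val (e.injective
        (show e (⟨q, hq⟩ * x) = e (x * ⟨q, hq⟩) by
          simpa only [map_mul] using hx (e ⟨q, hq⟩) (Subgroup.mem_top _)))).imp
        (fun h => Subtype.ext h) (fun h => Subtype.ext h))
    (fun u _ v _ => by
      obtain ⟨u, rfl⟩ := e.surjective u
      obtain ⟨v, rfl⟩ := e.surjective v
      rw [show ⁅e u, e v⁆ = e ⁅u, v⁆ from (map_commutatorElement e.toMonoidHom u v).symm,
        map_eq_one_iff e e.injective, e.injective.eq_iff]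
      exact (P.mem_prodGrp.1 (P.pair_comm (hME u.2) (hME v.2))).imp
        (fun h => Subtype.ext h) (fun h => Subtype.ext h))
    (fun u _ => by
      obtain ⟨u, rfl⟩ := e.surjective u
      rw [← map_mul, map_eq_one_iff e e.injective, e.injective.eq_iff]
      exact (P.mem_prodGrp.1 (P.pair_sq (hME u.2))).imp (fun h => Subtype.ext h) (fun h => Subtype.ext h))
    (by
      obtain ⟨u, hu, v, hv, huv⟩ := hnab
      refine ⟨e ⟨u, hu⟩, Subgroup.mem_top _, e ⟨v, hv⟩, Subgroup.mem_top _, fun h => huv ?_⟩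
      rw [show ⁅e ⟨u, hu⟩, e ⟨v, hv⟩⁆ = e ⁅(⟨u, hu⟩ : ↥M), ⟨v, hv⟩⁆
        from (map_commutatorElement e.toMonoidHom _ _).symm, map_eq_one_iff e e.injective] at h
      exact congrArg Subtype.val h)
  refine ⟨↥(⊤ : Subgroup E), inferInstance, inferInstance, hE, ?_,
    ⟨(MulEquiv.ofBijective _ hbij).symm.trans
      ((MulEquiv.refl _).prodCongr (e.trans Subgroup.topEquiv.symm))⟩⟩
  rw [Subgroup.card_top, ← Nat.card_congr e.toEquiv, hcardM]

theorem centralizer_pairKer (P : PairModel D a b pt) {c : G}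
    (hc : c ∈ Subgroup.centralizer ({a * b} : Set G)) (hcen : ∀ x ∈ P.pairKer, Commute c x) :
    c ∈ P.pairKer := by
  have hF := P.M.card
  -- inside C(a) ∩ C(b)
  have inK : ∀ k : ↥(pairFix a b), (∀ x ∈ P.pairKer, Commute (k : G) x) → P.rho k = 1 := by
    intro k hk
    refine act_ext fun y => ?_
    rw [act_one]
    have hy : ∀ y, Iso y → act (P.rho k) y = y := by
      intro y hy
      have hd : ∀ z, Iso z → hf (act (P.rho k) y) z = hf y z := by
        intro z hz
        obtain ⟨e, -, he, hes⟩ := P.exists_shift 1 hz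
        have h := hk _ (P.mem_pairKer.2 ⟨e.2, he⟩)
        have e1 : (k : G) * ((e : G) * Q pt 0 y * (e : G)⁻¹) * (k : G)⁻¹
            = (e : G) * ((k : G) * Q pt 0 y * (k : G)⁻¹) * (e : G)⁻¹ := by
          calc (k : G) * ((e : G) * Q pt 0 y * (e : G)⁻¹) * (k : G)⁻¹
              = ((k : G) * e) * Q pt 0 y * ((k : G) * e)⁻¹ := by group
            _ = ((e : G) * k) * Q pt 0 y * ((e : G) * k)⁻¹ := by rw [h.eq]
            _ = _ := by group
        rw [P.conj_Q' he 0 hy, P.conj_Q k _ hy, P.conj_Q k 0 hy, P.conj_Q' he _ (hy.act _), hes, hes] at e1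
        linear_combination -(P.Q_inj_left (hy.act _) e1)
      have hU : ∀ z : Fin 4 → F, hf z (act (P.rho k) y) = hf z y := by
        intro z
        let f : (Fin 4 → F) →ₗ[F] F :=
          { toFun := fun z => hf z (act (P.rho k) y) - hf z y
            map_add' := fun z z' => by rw [hf_add_left hF, hf_add_left hF]; ring
            map_smul' := fun r z => by
              rw [hf_smul_left hF, hf_smul_left hF]; simp only [smul_eq_mul, RingHom.id_apply]; ring }
        have := LinearMap.congr_fun (eq_zero_of_iso hF f fun z hz => by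
          show hf z (act (P.rho k) y) - hf z y = 0
          rw [hf_symm hF (act (P.rho k) y) z, hd z hz, ← hf_symm hF y z, sub_self]) z
        exact sub_eq_zero.1 this
      funext i
      have e := hU (Pi.single i 1)
      rw [hf_symm hF (act (P.rho k) y), hf_symm hF y,
        show hf (act (P.rho k) y) (Pi.single i 1) = _ from hermForm_single_right (card_sq hF) _ i,
        show hf y (Pi.single i 1) = _ from hermForm_single_right (card_sq hF) _ i] at e
      calc act (P.rho k) y i = (act (P.rho k) y i ^ 2) ^ 2 := (pow_q_pow_q (card_sq hF) _).symm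
        _ = (y i ^ 2) ^ 2 := by rw [e]
        _ = y i := pow_q_pow_q (card_sq hF) _
    let U : Submodule F (Fin 4 → F) :=
      { carrier := {y | act (P.rho k) y = y}
        add_mem' := fun {u v} hu hv => by
          show act _ (u + v) = u + v
          rw [act_add, show act (P.rho k) u = u from hu, show act (P.rho k) v = v from hv]
        zero_mem' := act_zero _
        smul_mem' := fun r u hu => by
          show act _ (r • u) = r • u
          rw [act_smul, show act (P.rho k) u = u from hu] }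
    exact (iso_span hF (U := U) hy ▸ Submodule.mem_top : y ∈ U)
  by_cases hcK : c ∈ pairFix a b
  · exact P.mem_pairKer.2 ⟨hcK, inK ⟨c, hcK⟩ hcen⟩
  refine (P.no_outer hc hcK fun k => ?_).elim
  rw [← mul_inv_eq_one, ← map_inv, ← map_mul]
  refine inK _ fun x hx => ?_
  show Commute (c * k * c⁻¹ * (k : G)⁻¹) x
  have h1 : Commute ((k : G) * c⁻¹ * (k : G)⁻¹) x := by
    have hm := P.pairKer_normal (inv_mem (P.pairFix_le k.2)) hx
    rw [inv_inv] at hm
    have := (hcen _ hm).inv_left.map (MulAut.conj (k : G)).toMonoidHom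
    simp only [MulEquiv.coe_toMonoidHom, MulAut.conj_apply] at this
    rwa [show (k : G) * ((k : G)⁻¹ * x * k) * (k : G)⁻¹ = x by group] at this
  rw [show c * k * c⁻¹ * (k : G)⁻¹ = c * ((k : G) * c⁻¹ * (k : G)⁻¹) by group]
  exact (hcen x hx).mul_left h1

end PairModel

end Cfsg.Agent.FischerM22
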