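/-
Groups of type M(22): the centraliser of a member and its neighbours.

Main results (namespace `Cfsg.Agent.FischerM22`):
* `Fi22Setup` : a class of 3-transpositions of type M(22) with central cores and connected commuting graph;
  `setup_of_primitive`;
* `line_three` : a neighbour of `q` commuting with all common neighbours of `q, a, x` is one of `a, x, axa`;
* `eq_one_or_self` : only `1` and `a` centralise `a` and all its neighbours;
* `mem_loc_self` : `a ∈ Loc a`; `center_loc` : the centre of `Loc a` is `{1, a}`.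
-/
import Cfsg.Agent.Lib.ThreeTransSU.Hexad

set_option autoImplicit false

namespace Cfsg.Agent.FischerM22

open Cfsg.Agent.Unitary Cfsg.Agent.U62Cover Cfsg.Agent.ThreeTrans Cfsg.Agent.ThreeTransSU

variable {G : Type*} [Group G] {D : Set G}

/-- A group of type M(22). -/
structure Fi22Setup (D : Set G) : Prop where
  cls : Cfsg.IsThreeTranspositionClass D
  cores : CentralCores G
  conn : ConnectedComm D
  type22 : Cfsg.IsOfTypeM22 G D

theorem setup_of_primitive [Finite G] (hD : Cfsg.IsThreeTranspositionGroup D)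
    (hprim : Cfsg.IsPrimitiveUnderConj D) (h22 : Cfsg.IsOfTypeM22 G D) : Fi22Setup D := by
  obtain ⟨d, hd, hs⟩ := exists_simple_of_M22 h22
  obtain ⟨y, hy⟩ := adj_nonempty_of_simple_quotient hs
  obtain ⟨h1, h2⟩ := mtype_setup hD hprim hd ⟨y, hy⟩
  exact ⟨h1, h2, connected_of_primitive hD hprim ⟨d, hd, y, hy.1, hy.2.1.symm, hy.2.2⟩, h22⟩

namespace Fi22Setup

theorem grp (S : Fi22Setup D) : Cfsg.IsThreeTranspositionGroup D := group_of_class S.cls

theorem conj_mem (S : Fi22Setup D) (g : G) {d : G} (hd : d ∈ D) : g * d * g⁻¹ ∈ D := S.grp.2.1 g d hd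

theorem exists_model [Finite G] (S : Fi22Setup D) {a : G} (ha : a ∈ D) :
    ∃ (F : Type) (_ : Field F) (_ : Fintype F) (pt : (Fin 6 → F) → G), PointModel D a pt :=
  exists_pointModel S.cls S.cores S.type22 ha

theorem adj_nonempty [Finite G] (S : Fi22Setup D) {a : G} (ha : a ∈ D) : (adj D a).Nonempty := by
  obtain ⟨d, hd, hs⟩ := exists_simple_of_M22 S.type22
  exact adj_nonempty_all S.cls hd ha (adj_nonempty_of_simple_quotient hs)

theorem two_members [Finite G] (S : Fi22Setup D) : ∃ a ∈ D, ∃ b ∈ D, a ≠ b := by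
  obtain ⟨d, hd, hs⟩ := exists_simple_of_M22 S.type22
  obtain ⟨y, hy⟩ := adj_nonempty_of_simple_quotient hs
  exact ⟨d, hd, y, hy.1, hy.2.1.symm⟩

end Fi22Setup

/-- Adjacency is symmetric. -/
theorem adj_symm {a b : G} (ha : a ∈ D) (h : b ∈ adj D a) : a ∈ adj D b := ⟨ha, h.2.1.symm, h.2.2.symm⟩

theorem adj_of_not_commute {a x : G} (hax : ¬ Commute a x) {y : G} (hy : y ∈ D) (hya : Commute y a)
    (hyx : Commute y x) : y ∈ adj D a := ⟨hy, fun e => hax (e ▸ hyx), hya.symm⟩

theorem exists_iso_not_orth {F : Type*} [Field F] [Fintype F] (hF : Fintype.card F = 4) {n : ℕ}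
    {p : Fin n → F} (hp : Iso p) : ∃ r, Iso r ∧ hf p r = 1 := by
  obtain ⟨x, hx⟩ := exists_hf_one hF hp.1
  obtain ⟨t, ht⟩ := exists_trace hF ((herm hF).self_fixed x)
  have hpx := hf_eq_one_symm hF hx
  have h1 : hf (x + t • p) p = 1 := by rw [hf_add_left hF, hf_smul_left hF, hp.2, hx, mul_zero, add_zero]
  refine ⟨x + t • p, ⟨fun h => ?_, ?_⟩, hf_eq_one_symm hF h1⟩
  · rw [h, hf_zero_left hF] at h1; exact zero_ne_one h1
  · rw [hf_add_left hF, hf_add_right hF, hf_add_right hF, hf_smul_left hF, hf_smul_left hF,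
      hf_smul_right hF, hf_smul_right hF, hx, hpx, hp.2]
    have ht' : t + t ^ 2 = hf x x := ht
    linear_combination (hf x x) * two_eq_zero hF + ht'

theorem li_of_not_orth {F : Type*} [Field F] [Fintype F] (hF : Fintype.card F = 4) {n : ℕ}
    {p r : Fin n → F} (hp : Iso p) (h : hf p r ≠ 0) : LinearIndependent F ![p, r] :=
  (LinearIndependent.pair_iff' hp.1).2 fun c e => h (by rw [← e, hf_smul_right hF, hp.2, mul_zero])

/-- Inside the neighbours of `q`, the line through two non-commuting `a, x` is `{a, x, a x a}`. -/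
theorem line_three [Finite G] (S : Fi22Setup D) {q a x z : G} (hq : q ∈ D) (ha : a ∈ adj D q)
    (hx : x ∈ adj D q) (hax : ¬ Commute a x) (hz : z ∈ adj D q)
    (H : ∀ y ∈ adj D q, Commute y a → Commute y x → Commute y z) : z = a ∨ z = x ∨ z = a * x * a := by
  obtain ⟨F, _, _, pt, M⟩ := S.exists_model hq
  have hF := M.card
  obtain ⟨ω, -, hω⟩ := exists_omega hF
  obtain ⟨p, hp, rfl⟩ := M.surj a ha
  obtain ⟨r, hr, rfl⟩ := M.surj x hx
  have hpr : hf p r ≠ 0 := fun h => hax ((M.comm p r hp hr).2 h)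
  -- normalise
  have hc0 : ((hf p r)⁻¹) ^ 2 ≠ 0 := pow_ne_zero _ (inv_ne_zero hpr)
  have hpr1 : hf p (((hf p r)⁻¹) ^ 2 • r) = 1 := by
    rw [hf_smul_right hF, show (((hf p r)⁻¹) ^ 2) ^ 2 = (hf p r)⁻¹ from pow_q_pow_q (card_sq hF) _,
      inv_mul_cancel₀ hpr]
  rw [← M.smul r _ hr hc0] at hx hax H ⊢
  have hr' := hr.smul hF hc0
  generalize ((hf p r)⁻¹) ^ 2 • r = r' at hx hax H hpr1 hr' ⊢
  have hrp1 := hf_eq_one_symm hF hpr1
  have key : ∀ w, w ∈ adj D q → (∀ y ∈ adj D q, Commute y (pt p) → Commute y (pt r') → Commute y w) →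
      w = pt p ∨ w = pt r' ∨ w = pt (p + r') := by
    intro w hw Hw
    obtain ⟨v, hv, rfl⟩ := M.surj w hw
    obtain ⟨α, β, e⟩ := span_of_iso_perp hF hω (li_of_not_orth hF hp (by rw [hpr1]; exact one_ne_zero))
      (x := v) fun y hy hyp hyr => (M.comm y v hy hv).1
        (Hw _ (M.mem y hy) ((M.comm y p hy hp).2 hyp) ((M.comm y r' hy hr').2 hyr))
    have h0 := hv.2
    rw [e, hf_add_left hF, hf_add_right hF, hf_add_right hF, hf_smul_left hF, hf_smul_left hF,
      hf_smul_left hF, hf_smul_left hF, hf_smul_right hF, hf_smul_right hF, hf_smul_right hF,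
      hf_smul_right hF, hp.2, hr'.2, hpr1, hrp1] at h0
    by_cases hα : α = 0
    · refine Or.inr (Or.inl ?_)
      rw [hα, zero_smul, zero_add] at e
      rw [e]
      exact M.smul r' β hr' fun h => hv.1 (by rw [e, h, zero_smul])
    by_cases hβ : β = 0
    · refine Or.inl ?_
      rw [hβ, zero_smul, add_zero] at e
      rw [e]
      exact M.smul p α hp hα
    have h1 : α * β * (α + β) = 0 := by linear_combination h0
    have hab : α = β := (eq_iff_add_eq_zero hF).2 ((mul_eq_zero.1 h1).resolve_left (mul_ne_zero hα hβ))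
    refine Or.inr (Or.inr ?_)
    rw [e, hab, ← smul_add]
    refine M.smul _ β ⟨fun h => ?_, ?_⟩ hβ
    · have h2 := congrArg (fun w => hf w r') h
      simp only [hf_add_left hF, hf_zero_left hF, hpr1, hr'.2, add_zero] at h2
      exact one_ne_zero h2
    · rw [hf_add_left hF, hf_add_right hF, hf_add_right hF, hp.2, hr'.2, hpr1, hrp1]
      linear_combination two_eq_zero hF
  have ht : pt p * pt r' * pt p ∈ adj D q := by
    refine ⟨Cfsg.Agent.ThreeTrans.conj_mem S.cls.1 S.grp.2.1 ha.1 hx.1, fun e => ?_,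
      (ha.2.2.mul_right hx.2.2).mul_right ha.2.2⟩
    have h2 : pt r' = q := by
      calc pt r' = pt p * (pt p * pt r' * pt p) * pt p := by
            simp only [mul_assoc, mul_self_cancel S.cls.1 ha.1, mul_self S.cls.1 ha.1, mul_one]
        _ = q := by rw [e, ← ha.2.2.eq, mul_assoc, mul_self S.cls.1 ha.1, mul_one]
    exact hx.2.1 h2
  rcases key z hz H with h | h | h
  · exact Or.inl h
  · exact Or.inr (Or.inl h)
  · refine Or.inr (Or.inr ?_)
    rcases key _ ht fun y _ hyp hyr => (hyp.mul_right hyr).mul_right hyp with h' | h' | h'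
    · exact absurd h' (conj_ne_left S.cls.1 ha.1 hax)
    · exact absurd (commute_of_conj_eq S.cls.1 ha.1 h') (fun c => by first | exact hax c | exact hax c.symm)
    · rw [h, h']

/-- Only `1` and `a` centralise `a` and its neighbours. -/
theorem eq_one_or_self [Finite G] (S : Fi22Setup D) {a z : G} (ha : a ∈ D) (hza : Commute z a)
    (hadj : ∀ y ∈ adj D a, Commute z y) : z = 1 ∨ z = a := by
  obtain ⟨q, hq⟩ := S.adj_nonempty ha
  have haq := adj_symm ha hq
  obtain ⟨F, _, _, pt, M⟩ := S.exists_model hq.1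
  obtain ⟨p, hp, hpa⟩ := M.surj a haq
  obtain ⟨r, hr, hpr⟩ := exists_iso_not_orth M.card hp
  have hx := M.mem r hr
  have hax : ¬ Commute a (pt r) := fun h => by
    rw [← hpa, M.comm p r hp hr, hpr] at h
    exact one_ne_zero h
  have fix : ∀ w, Commute w a → (∀ y ∈ adj D a, Commute w y) → Commute w (pt r) → w = 1 := by
    intro w hwa hw hwx
    let H := Subgroup.centralizer ({w} : Set G)
    have hH : ∀ g, g ∈ H ↔ Commute g w := fun g => Subgroup.mem_centralizer_singleton_iff
    have htop : H = ⊤ := eq_top_of_contains_local S.cls S.two_members S.cores S.conn ha hx.1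
      ((hH a).2 hwa.symm) ((hH _).2 hwx.symm) (fun y hy => (hH y).2 (hw y hy).symm) hax
    have hc : w ∈ Subgroup.center G :=
      Subgroup.mem_center_iff.2 fun g => (hH g).1 (htop ▸ Subgroup.mem_top g)
    rwa [S.type22.1, Subgroup.mem_bot] at hc
  have hzq := hadj q hq
  have conj_fix : ∀ {g y : G}, Commute g y → g * y * g⁻¹ = y := fun {g y} h => by
    rw [h.eq, mul_inv_cancel_right]
  have hx1 : z * pt r * z⁻¹ ∈ adj D q := by
    have := (conj_adj S.grp.2.1 z q (z * pt r * z⁻¹)).2 (by simpa [mul_assoc] using hx)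
    rwa [conj_fix hzq] at this
  rcases line_three S hq.1 haq hx hax hx1 (fun y hyq hya hyx => by
    have hy' : y ∈ adj D a := adj_of_not_commute hax hyq.1 hya hyx
    have := hyx.map (MulAut.conj z).toMonoidHom
    simp only [MulEquiv.coe_toMonoidHom, MulAut.conj_apply] at this
    rwa [conj_fix (hadj y hy')] at this) with h | h | h
  · exact absurd (show Commute a (pt r) by
      have e : pt r = a := by
        calc pt r = z⁻¹ * (z * pt r * z⁻¹) * z := by group
          _ = z⁻¹ * (a * z) := by rw [h, mul_assoc]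
          _ = a := by rw [← hza.eq, inv_mul_cancel_left]
      rw [e]) hax
  · exact Or.inl (fix z hza hadj (show z * pt r = pt r * z by
      conv_rhs => rw [← h]
      group))
  · refine Or.inr ?_
    have h1 := fix (a * z) ((Commute.refl a).mul_left hza) (fun y hy => hy.2.2.mul_left (hadj y hy))
      (show a * z * pt r = pt r * (a * z) by
        calc a * z * pt r = a * (z * pt r * z⁻¹) * z := by group
          _ = pt r * (a * z) := by rw [h]; simp only [mul_assoc, mul_self_cancel S.cls.1 ha])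
    rw [eq_inv_of_mul_eq_one_right h1, inv_eq S.cls.1 ha]

/-- Two commuting neighbours. -/
theorem exists_adj_pair [Finite G] (S : Fi22Setup D) {a : G} (ha : a ∈ D) :
    ∃ b ∈ adj D a, ∃ c ∈ adj D a, b ≠ c ∧ Commute b c := by
  obtain ⟨F, _, _, pt, M⟩ := S.exists_model ha
  have hF := M.card
  have hne : ∀ i j : Fin 6, i ≠ j → hf (Pi.single i (1 : F)) (Pi.single j 1) = 0 := fun i j h =>
    (single_orthonormal (card_sq hF) 6).2 h
  have he : ∀ i : Fin 6, hf (Pi.single i (1 : F)) (Pi.single i 1) = 1 :=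
    (single_orthonormal (card_sq hF) 6).1
  have iso : ∀ i j : Fin 6, i ≠ j → Iso ((Pi.single i 1 : Fin 6 → F) + Pi.single j 1) := fun i j h => by
    refine ⟨fun h0 => ?_, ?_⟩
    · have := congrFun h0 i
      simp [h] at this
    · rw [hf_add_left hF, hf_add_right hF, hf_add_right hF, he, he, hne i j h, hne j i h.symm]
      linear_combination two_eq_zero hF
  have h1 := iso 0 1 (by decide)
  have h2 := iso 2 3 (by decide)
  refine ⟨_, M.mem _ h1, _, M.mem _ h2, fun h => ?_, (M.comm _ _ h1 h2).2 ?_⟩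
  · obtain ⟨c, -, e⟩ := M.inj _ _ h1 h2 h
    have := congrFun e 2
    simp at this
  · rw [hf_add_left hF, hf_add_right hF, hf_add_right hF, hne _ _ (by decide), hne _ _ (by decide),
      hne _ _ (by decide), hne _ _ (by decide)]
    simp

theorem mem_loc_self [Finite G] (S : Fi22Setup D) {a : G} (ha : a ∈ D) : a ∈ Loc D a := by
  obtain ⟨b, hb, c, hc, hbc, hcomm⟩ := exists_adj_pair S ha
  obtain ⟨d, e, f, hnd, hmem, h⟩ := exists_other_triple S.cls S.cores S.conn S.type22 ha hb.1 hc.1
    hb.2.1.symm hc.2.1.symm hbc hb.2.2 hc.2.2 hcomm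
  have hin : ∀ p ∈ [b, c, d, e, f], p ∈ Loc D a := fun p hp => by
    have h1 := (hmem p).1 (List.mem_cons_of_mem _ hp)
    refine Subgroup.subset_closure ⟨h1.1, fun e1 => (List.nodup_cons.1 hnd).1 (e1 ▸ hp), h1.2.1.symm⟩
  have e1 : d * e * f * c⁻¹ * b⁻¹ = a := by rw [← h]; group
  have h2 : d * e * f * c⁻¹ * b⁻¹ ∈ Loc D a := by
    exact mul_mem (mul_mem (mul_mem (mul_mem (hin d (by simp)) (hin e (by simp))) (hin f (by simp)))
      (inv_mem (hin c (by simp)))) (inv_mem (hin b (by simp)))
  exact (congrArg (· ∈ Loc D a) e1).mp h2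

theorem center_loc [Finite G] (S : Fi22Setup D) {a : G} (ha : a ∈ D) :
    (Subgroup.center ↥(Loc D a)).map (Loc D a).subtype = Subgroup.zpowers a := by
  refine le_antisymm ?_ (Subgroup.zpowers_le.2 ⟨⟨a, mem_loc_self S ha⟩, ?_, rfl⟩)
  · rintro _ ⟨z, hz, rfl⟩
    rcases eq_one_or_self S ha (commute_of_mem_Loc z.2) (fun y hy =>
      (commute_coe_iff.1 (show Commute (⟨y, Subgroup.subset_closure hy⟩ : Loc D a) z from
        Subgroup.mem_center_iff.1 hz _)).symm) with h | h
    · rw [Subgroup.coe_subtype, h]; exact one_mem _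
    · rw [Subgroup.coe_subtype, h]; exact Subgroup.mem_zpowers a
  · exact Subgroup.mem_center_iff.2 fun g => Subtype.ext (commute_of_mem_Loc g.2).eq

theorem mem_center_loc_iff [Finite G] (S : Fi22Setup D) {a : G} (ha : a ∈ D) (z : ↥(Loc D a)) :
    z ∈ Subgroup.center ↥(Loc D a) ↔ (z : G) = 1 ∨ (z : G) = a := by
  constructor
  · intro hz
    exact eq_one_or_self S ha (commute_of_mem_Loc z.2) fun y hy =>
      (commute_coe_iff.1 (show Commute (⟨y, Subgroup.subset_closure hy⟩ : Loc D a) z from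
        Subgroup.mem_center_iff.1 hz _)).symm
  · intro h
    refine Subgroup.mem_center_iff.2 fun g => Subtype.ext ?_
    rcases h with h | h <;> simp only [Subgroup.coe_mul, h, mul_one, one_mul]
    exact (commute_of_mem_Loc g.2).eq

theorem card_center_loc [Finite G] (S : Fi22Setup D) {a : G} (ha : a ∈ D) :
    Nat.card ↥(Subgroup.center ↥(Loc D a)) = 2 := by
  have h := Nat.card_congr ((Subgroup.center ↥(Loc D a)).equivMapOfInjective _
    (Loc D a).subtype_injective).toEquiv
  rw [center_loc S ha, Nat.card_zpowers, S.cls.1.1 a ha] at h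
  exact h

end Cfsg.Agent.FischerM22
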