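/-
Counting in the unitary polar space of dimension six over four elements, and in groups of type M(22).

Main results (namespace `Cfsg.Agent.FischerM22`):
* `count_iso`, `count_perp`, `count_orth`, `count_hyp` : 2079, 543, 159, 135 isotropic vectors;
* `adj_ncard` : 693 neighbours; `common_ncard` : 180 for commuting members;
* `perp_three` : 51 resp. 45 common neighbours of `a, x, y` for `x, y` commuting resp. not in `adj a`.
-/
import Cfsg.Agent.Lib.FischerM22.Local
import Cfsg.Agent.Lib.ThreeTransSU.GensCert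

set_option autoImplicit false

namespace Cfsg.Agent.FischerM22

open Cfsg.Agent.Unitary Cfsg.Agent.U62Cover Cfsg.Agent.ThreeTrans Cfsg.Agent.ThreeTransSU
open Cfsg.Agent.SU32 Cfsg.Agent.ThreeTransSU.GensCert

/-- Number of nonzero isotropic vectors orthogonal to given vectors, computed. -/
def cnt (conds : List (List K4)) : ℕ :=
  (allVecs 6).countP fun x => decide (vec 6 x ≠ fun _ => .z) && decide (hk 6 x x = .z)
    && conds.all fun c => decide (hk 6 x c = .z)

theorem cnt_iso : cnt [] = 2079 := by decide +kernel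

theorem cnt_perp : cnt [[.o, .o, .z, .z, .z, .z]] = 543 := by decide +kernel

theorem cnt_orth : cnt [[.o, .o, .z, .z, .z, .z], [.z, .z, .o, .o, .z, .z]] = 159 := by decide +kernel

theorem cnt_hyp : cnt [[.o, .o, .z, .z, .z, .z], [.w, .w2, .z, .z, .z, .z]] = 135 := by decide +kernel

theorem length_of_mem : ∀ (m : ℕ) (l : List K4), l ∈ allVecs m → l.length = m
  | 0, l, h => by simp [allVecs] at h; simp [h]
  | m + 1, l, h => by
    rw [allVecs, List.mem_flatMap] at h
    obtain ⟨t, ht, hl⟩ := h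
    have := length_of_mem m t ht
    simp only [List.mem_cons, List.not_mem_nil, or_false] at hl
    rcases hl with rfl | rfl | rfl | rfl <;> simp [this]

theorem allVecs_nodup : ∀ m, (allVecs m).Nodup
  | 0 => by simp [allVecs]
  | m + 1 => by
    rw [allVecs, List.nodup_flatMap]
    refine ⟨fun l _ => by simp, ?_⟩
    refine (allVecs_nodup m).imp fun {l l'} hne x hx hx' => ?_
    simp only [List.mem_cons, List.not_mem_nil, or_false] at hx hx'
    rcases hx with rfl | rfl | rfl | rfl <;> simp_all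

theorem ofFn_vec {m : ℕ} {l : List K4} (h : l ∈ allVecs m) : List.ofFn (vec m l) = l := by
  have hl := length_of_mem m l h
  refine List.ext_getElem (by simp [hl]) fun i h1 h2 => ?_
  simp [vec, List.getD_eq_getElem?_getD, h2]

section Vectors

variable {F : Type*} [Field F] [Fintype F]

theorem card_eq_cnt (hF : Fintype.card F = 4) (e : K4 ≃+* F) (conds : List (List K4)) :
    Nat.card {x : Fin 6 → F // Iso x ∧ ∀ c ∈ conds, hf x (fun i => e (vec 6 c i)) = 0} = cnt conds := by
  classical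
  have hz : ∀ t : K4, e t = 0 ↔ t = .z := fun t => map_eq_zero_iff e e.injective
  set P : List K4 → Bool := fun x => decide (vec 6 x ≠ fun _ => .z) && decide (hk 6 x x = .z)
    && conds.all fun c => decide (hk 6 x c = .z) with hP
  have hiff : ∀ l, P l = true ↔ Iso (fun i => e (vec 6 l i)) ∧
      ∀ c ∈ conds, hf (fun i => e (vec 6 l i)) (fun i => e (vec 6 c i)) = 0 := fun l => by
    simp only [hP, Bool.and_eq_true, decide_eq_true_eq, List.all_eq_true]
    simp only [Iso, hf_map e, hz, hk]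
    refine ⟨fun h => ⟨⟨fun h0 => h.1.1 (funext fun i => (hz _).1 (congrFun h0 i)), h.1.2⟩, h.2⟩,
      fun h => ⟨⟨fun h0 => h.1.1 (funext fun i => (hz _).2 (congrFun h0 i)), h.1.2⟩, h.2⟩⟩
  have key : (Finset.univ.filter fun x : Fin 6 → F =>
      Iso x ∧ ∀ c ∈ conds, hf x (fun i => e (vec 6 c i)) = 0)
      = (((allVecs 6).filter P).toFinset).image fun l i => e (vec 6 l i) := by
    ext x
    simp only [Finset.mem_filter, Finset.mem_univ, true_and, Finset.mem_image, List.mem_toFinset,
      List.mem_filter]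
    constructor
    · intro hx
      have ex : (fun i => e (vec 6 (List.ofFn fun i => e.symm (x i)) i)) = x :=
        funext fun i => by rw [vec_ofFn]; exact e.apply_symm_apply _
      refine ⟨List.ofFn fun i => e.symm (x i), ⟨ofFn_mem 6 _, (hiff _).2 ?_⟩, ex⟩
      rw [ex]; exact hx
    · rintro ⟨l, ⟨-, hl⟩, rfl⟩
      exact (hiff l).1 hl
  rw [Nat.card_eq_fintype_card, Fintype.card_subtype, key, Finset.card_image_of_injOn,
    List.toFinset_card_of_nodup ((allVecs_nodup 6).filter _), cnt, List.countP_eq_length_filter]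
  intro l hl l' hl' h
  simp only [Finset.mem_coe, List.mem_toFinset, List.mem_filter] at hl hl'
  rw [← ofFn_vec hl.1, ← ofFn_vec hl'.1]
  exact congrArg List.ofFn (funext fun i => e.injective (congrFun h i))

theorem card_act (g : Cfsg.SU 6 F 2) (T : List (Fin 6 → F)) :
    Nat.card {x : Fin 6 → F // Iso x ∧ ∀ c ∈ T, hf x c = 0}
      = Nat.card {x : Fin 6 → F // Iso x ∧ ∀ c ∈ T.map (act g), hf x c = 0} := by
  refine Nat.card_congr
    { toFun := fun x => ⟨act g x.1, x.2.1.act g, fun c hc => ?_⟩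
      invFun := fun x => ⟨act g⁻¹ x.1, x.2.1.act g⁻¹, fun c hc => ?_⟩
      left_inv := fun x => Subtype.ext (act_inv_act g x.1)
      right_inv := fun x => Subtype.ext (act_act_inv g x.1) }
  · obtain ⟨d, hd, rfl⟩ := List.mem_map.1 hc
    rw [act_hf]; exact x.2.2 d hd
  · rw [← act_hf g, act_act_inv]
    exact x.2.2 _ (List.mem_map_of_mem hc)

theorem count_iso (hF : Fintype.card F = 4) : Nat.card {x : Fin 6 → F // Iso x} = 2079 := by
  let e : K4 ≃+* F := FiniteField.ringEquivOfCardEq (hF ▸ K4.card_eq)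
  rw [← cnt_iso, ← card_eq_cnt hF e []]
  exact Nat.card_congr (Equiv.subtypeEquivRight fun x => by simp)

theorem std_iso (hF : Fintype.card F = 4) (e : K4 ≃+* F) (l : List K4)
    (h : hk 6 l l = .z) (h0 : vec 6 l ≠ fun _ => .z) : Iso fun i => e (vec 6 l i) :=
  ⟨fun h1 => h0 (funext fun i => (map_eq_zero_iff e e.injective).1 (congrFun h1 i)),
    by rw [hf_map e]; exact (map_eq_zero_iff e e.injective).2 h⟩

theorem count_perp (hF : Fintype.card F = 4) {u : Fin 6 → F} (hu : Iso u) :
    Nat.card {x : Fin 6 → F // Iso x ∧ hf x u = 0} = 543 := by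
  let e : K4 ≃+* F := FiniteField.ringEquivOfCardEq (hF ▸ K4.card_eq)
  obtain ⟨g, hg⟩ := exists_act hF (by norm_num) hu
    (std_iso hF e [.o, .o, .z, .z, .z, .z] (by decide +kernel) (by decide +kernel))
  rw [← cnt_perp, ← card_eq_cnt hF e]
  have := card_act g [u]
  simp only [List.map_cons, List.map_nil, hg] at this
  simpa using this

theorem count_orth (hF : Fintype.card F = 4) {u w : Fin 6 → F} (h : OrthPair u w) :
    Nat.card {x : Fin 6 → F // Iso x ∧ hf x u = 0 ∧ hf x w = 0} = 159 := by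
  let e : K4 ≃+* F := FiniteField.ringEquivOfCardEq (hF ▸ K4.card_eq)
  have hu := std_iso hF e [.o, .o, .z, .z, .z, .z] (by decide +kernel) (by decide +kernel)
  have hw := std_iso hF e [.z, .z, .o, .o, .z, .z] (by decide +kernel) (by decide +kernel)
  have hP : OrthPair (fun i => e (vec 6 [.o, .o, .z, .z, .z, .z] i))
      (fun i => e (vec 6 [.z, .z, .o, .o, .z, .z] i)) := by
    refine ⟨hu, hw, ?_, fun c hc => ?_⟩
    · rw [hf_map e]; exact (map_eq_zero_iff e e.injective).2 (by decide +kernel)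
    · have h2 := congrFun hc (2 : Fin 6)
      have e1 : vec 6 [.o, .o, .z, .z, .z, .z] 2 = 0 := by decide +kernel
      have e2 : vec 6 [.z, .z, .o, .o, .z, .z] 2 = 1 := by decide +kernel
      simp [e1, e2] at h2
  obtain ⟨g, hg1, hg2⟩ := exists_act_two hF (by norm_num) h hP
  rw [← cnt_orth, ← card_eq_cnt hF e]
  have := card_act g [u, w]
  simp only [List.map_cons, List.map_nil, hg1, hg2] at this
  simpa using this

theorem count_hyp_one (hF : Fintype.card F = 4) {u w : Fin 6 → F} (hu : Iso u) (hw : Iso w)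
    (h : hf u w = 1) :
    Nat.card {x : Fin 6 → F // Iso x ∧ hf x u = 0 ∧ hf x w = 0} = 135 := by
  let e : K4 ≃+* F := FiniteField.ringEquivOfCardEq (hF ▸ K4.card_eq)
  have hu' := std_iso hF e [.o, .o, .z, .z, .z, .z] (by decide +kernel) (by decide +kernel)
  have hw' := std_iso hF e [.w, .w2, .z, .z, .z, .z] (by decide +kernel) (by decide +kernel)
  have h' : hf (fun i => e (vec 6 [.o, .o, .z, .z, .z, .z] i))
      (fun i => e (vec 6 [.w, .w2, .z, .z, .z, .z] i)) = 1 := by
    rw [hf_map e, show Cfsg.hermForm 6 K4 2 (vec 6 [.o, .o, .z, .z, .z, .z])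
      (vec 6 [.w, .w2, .z, .z, .z, .z]) = 1 by decide +kernel, map_one]
  obtain ⟨g, hg⟩ := exists_act_family hF
    (li_of_not_orth hF hu (by rw [h]; exact one_ne_zero))
    (li_of_not_orth hF hu' (by rw [h']; exact one_ne_zero))
    (fun i j => by
      fin_cases i <;> fin_cases j <;>
        simp [hu.2, hw.2, hu'.2, hw'.2, h, h', hf_eq_one_symm hF h, hf_eq_one_symm hF h'])
    (by norm_num)
  rw [← cnt_hyp, ← card_eq_cnt hF e]
  have := card_act g [u, w]
  have e1 : act g u = _ := hg 0
  have e2 : act g w = _ := hg 1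
  simp only [List.map_cons, List.map_nil, e1, e2] at this
  simpa using this

theorem count_hyp (hF : Fintype.card F = 4) {u w : Fin 6 → F} (hu : Iso u) (hw : Iso w)
    (h : hf u w ≠ 0) :
    Nat.card {x : Fin 6 → F // Iso x ∧ hf x u = 0 ∧ hf x w = 0} = 135 := by
  have hc0 : ((hf u w)⁻¹) ^ 2 ≠ 0 := pow_ne_zero _ (inv_ne_zero h)
  have h1 : hf u (((hf u w)⁻¹) ^ 2 • w) = 1 := by
    rw [hf_smul_right hF, show (((hf u w)⁻¹) ^ 2) ^ 2 = (hf u w)⁻¹ from pow_q_pow_q (card_sq hF) _,
      inv_mul_cancel₀ h]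
  rw [← count_hyp_one hF hu (hw.smul hF hc0) h1]
  refine Nat.card_congr (Equiv.subtypeEquivRight fun x => ?_)
  refine and_congr_right fun _ => and_congr_right fun _ => ?_
  rw [hf_smul_right hF]
  exact ⟨fun e => by rw [e, mul_zero], fun e => (mul_eq_zero.1 e).resolve_left (pow_ne_zero _ hc0)⟩

end Vectors

variable {G : Type*} [Group G] {D : Set G}

/-- Points against vectors. -/
theorem card_pts [Finite G] {F : Type*} [Field F] [Fintype F] {a : G} {pt : (Fin 6 → F) → G}
    (M : PointModel D a pt) (P : G → Prop) :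
    Nat.card {v : Fin 6 → F // Iso v ∧ P (pt v)} = 3 * {y | y ∈ adj D a ∧ P y}.ncard := by
  classical
  have hfin := (Set.toFinite {y | y ∈ adj D a ∧ P y})
  rw [Nat.card_eq_fintype_card, Fintype.card_subtype, Set.ncard_eq_toFinset_card _ hfin]
  rw [Finset.card_eq_sum_card_fiberwise (f := pt) (t := hfin.toFinset) (fun v hv => by
    simp only [Finset.mem_coe, Finset.mem_filter] at hv
    simp only [Finset.mem_coe, Set.Finite.mem_toFinset]
    exact ⟨M.mem v hv.2.1, hv.2.2⟩)]
  have hfib : ∀ y ∈ hfin.toFinset,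
      ((Finset.univ.filter fun v : Fin 6 → F => Iso v ∧ P (pt v)).filter fun v => pt v = y).card = 3 := by
    intro y hy
    rw [Set.Finite.mem_toFinset] at hy
    obtain ⟨v₀, hv₀, rfl⟩ := M.surj y hy.1
    have e : ((Finset.univ.filter fun v : Fin 6 → F => Iso v ∧ P (pt v)).filter fun v => pt v = pt v₀)
        = ((Finset.univ : Finset F).erase 0).image fun c => c • v₀ := by
      ext v
      simp only [Finset.mem_filter, Finset.mem_univ, true_and, Finset.mem_image, Finset.mem_erase, and_true]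
      constructor
      · rintro ⟨⟨hv, -⟩, h⟩
        obtain ⟨c, hc, rfl⟩ := M.inj v₀ v hv₀ hv h.symm
        exact ⟨c, hc, rfl⟩
      · rintro ⟨c, hc, rfl⟩
        refine ⟨⟨hv₀.smul M.card hc, ?_⟩, M.smul v₀ c hv₀ hc⟩
        rw [M.smul v₀ c hv₀ hc]; exact hy.2
    rw [e, Finset.card_image_of_injective _ (smul_left_injective F hv₀.1), Finset.card_erase_of_mem
      (Finset.mem_univ _), Finset.card_univ, M.card]
  rw [Finset.sum_congr rfl hfib, Finset.sum_const, smul_eq_mul, mul_comm]

theorem adj_ncard [Finite G] (S : Fi22Setup D) {a : G} (ha : a ∈ D) : (adj D a).ncard = 693 := by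
  obtain ⟨F, _, _, pt, M⟩ := S.exists_model ha
  have h := card_pts M fun _ => True
  simp only [and_true, Set.ofPred_mem_eq] at h
  rw [count_iso M.card] at h
  omega

theorem common_ncard [Finite G] (S : Fi22Setup D) {a b : G} (ha : a ∈ D) (hb : b ∈ adj D a) :
    (adj D a ∩ adj D b).ncard = 180 := by
  obtain ⟨F, _, _, pt, M⟩ := S.exists_model ha
  obtain ⟨u, hu, rfl⟩ := M.surj b hb
  have h := card_pts M fun y => Commute y (pt u)
  rw [show Nat.card {v : Fin 6 → F // Iso v ∧ Commute (pt v) (pt u)}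
      = Nat.card {v : Fin 6 → F // Iso v ∧ hf v u = 0} from
    Nat.card_congr (Equiv.subtypeEquivRight fun v => and_congr_right fun hv => M.comm v u hv hu),
    count_perp M.card hu] at h
  have e : {y | y ∈ adj D a ∧ Commute y (pt u)} = insert (pt u) (adj D a ∩ adj D (pt u)) := by
    ext y
    constructor
    · rintro ⟨hy, hc⟩
      by_cases h1 : y = pt u
      · exact Or.inl h1
      · exact Or.inr ⟨hy, hy.1, h1, hc.symm⟩
    · rintro (rfl | ⟨hy, hy'⟩)
      exacts [⟨hb, Commute.refl _⟩, ⟨hy, hy'.2.2.symm⟩]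
  rw [e, Set.ncard_insert_of_notMem (fun h => h.2.2.1 rfl)] at h
  omega

/-- Two non-commuting neighbours have 45 common neighbours with `a`. -/
theorem hyp_ncard [Finite G] (S : Fi22Setup D) {a x y : G} (ha : a ∈ D) (hx : x ∈ adj D a)
    (hy : y ∈ adj D a) (hxy : ¬ Commute x y) : (adj D a ∩ adj D x ∩ adj D y).ncard = 45 := by
  obtain ⟨F, _, _, pt, M⟩ := S.exists_model ha
  obtain ⟨u, hu, rfl⟩ := M.surj x hx
  obtain ⟨w, hw, rfl⟩ := M.surj y hy
  have h := card_pts M fun z => Commute z (pt u) ∧ Commute z (pt w)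
  rw [show Nat.card {v : Fin 6 → F // Iso v ∧ Commute (pt v) (pt u) ∧ Commute (pt v) (pt w)}
      = Nat.card {v : Fin 6 → F // Iso v ∧ hf v u = 0 ∧ hf v w = 0} from
    Nat.card_congr (Equiv.subtypeEquivRight fun v => and_congr_right fun hv =>
      and_congr (M.comm v u hv hu) (M.comm v w hv hw)),
    count_hyp M.card hu hw (fun e => hxy ((M.comm u w hu hw).2 e))] at h
  have e : {z | z ∈ adj D a ∧ Commute z (pt u) ∧ Commute z (pt w)}
      = adj D a ∩ adj D (pt u) ∩ adj D (pt w) := by
    ext z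
    constructor
    · rintro ⟨hz, h1, h2⟩
      exact ⟨⟨hz, hz.1, fun e => hxy (e ▸ h2), h1.symm⟩, hz.1, fun e => hxy (e ▸ h1).symm, h2.symm⟩
    · rintro ⟨⟨hz, h1⟩, h2⟩
      exact ⟨hz, h1.2.2.symm, h2.2.2.symm⟩
  rw [e] at h
  omega

/-- Two commuting neighbours have 51 common neighbours with `a`. -/
theorem orth_ncard [Finite G] (S : Fi22Setup D) {a x y : G} (ha : a ∈ D) (hx : x ∈ adj D a)
    (hy : y ∈ adj D a) (hne : x ≠ y) (hxy : Commute x y) :
    (adj D a ∩ adj D x ∩ adj D y).ncard = 51 := by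
  obtain ⟨F, _, _, pt, M⟩ := S.exists_model ha
  obtain ⟨u, hu, rfl⟩ := M.surj x hx
  obtain ⟨w, hw, rfl⟩ := M.surj y hy
  have hP : OrthPair u w := ⟨hu, hw, (M.comm u w hu hw).1 hxy, fun c e => hne (by
    rw [e, M.smul u c hu fun h0 => hw.1 (by rw [e, h0, zero_smul])])⟩
  have h := card_pts M fun z => Commute z (pt u) ∧ Commute z (pt w)
  rw [show Nat.card {v : Fin 6 → F // Iso v ∧ Commute (pt v) (pt u) ∧ Commute (pt v) (pt w)}
      = Nat.card {v : Fin 6 → F // Iso v ∧ hf v u = 0 ∧ hf v w = 0} from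
    Nat.card_congr (Equiv.subtypeEquivRight fun v => and_congr_right fun hv =>
      and_congr (M.comm v u hv hu) (M.comm v w hv hw)),
    count_orth M.card hP] at h
  have e : {z | z ∈ adj D a ∧ Commute z (pt u) ∧ Commute z (pt w)}
      = insert (pt u) (insert (pt w) (adj D a ∩ adj D (pt u) ∩ adj D (pt w))) := by
    ext z
    constructor
    · rintro ⟨hz, h1, h2⟩
      by_cases e1 : z = pt u
      · exact Or.inl e1
      by_cases e2 : z = pt w
      · exact Or.inr (Or.inl e2)
      exact Or.inr (Or.inr ⟨⟨hz, hz.1, e1, h1.symm⟩, hz.1, e2, h2.symm⟩)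
    · rintro (rfl | rfl | ⟨⟨hz, h1⟩, h2⟩)
      exacts [⟨hx, Commute.refl _, hxy⟩, ⟨hy, hxy.symm, Commute.refl _⟩, ⟨hz, h1.2.2.symm, h2.2.2.symm⟩]
  rw [e, Set.ncard_insert_of_notMem (by
      rintro (h | ⟨⟨-, h⟩, -⟩)
      exacts [hne h, h.2.1 rfl]),
    Set.ncard_insert_of_notMem (fun h => h.2.2.1 rfl)] at h
  omega

end Cfsg.Agent.FischerM22
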