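/-
The stabiliser of an isotropic point in SU(6,2).

Main results (namespace `Cfsg.Agent.FischerM22`):
* `exists_scalar` : every nonzero scalar is realised by a central element;
* `tvPerp` : the group generated by the transvections with centre orthogonal to `v`;
* `stab_point` : an element fixing the point of `v` is central times an element of `tvPerp v`.
-/
import Cfsg.Agent.Lib.ThreeTransSU.PSUPoints
import Cfsg.Agent.Lib.ThreeTransSU.Class
import Cfsg.Agent.Lib.Unitary.Block
import Cfsg.Agent.Lib.FischerM22.Local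

set_option autoImplicit false

namespace Cfsg.Agent.FischerM22

open scoped Matrix
open Cfsg.Agent.Unitary Cfsg.Agent.U62Cover Cfsg.Agent.ThreeTransSU

variable {F : Type*} [Field F] [Fintype F]

theorem exists_scalar (hF : Fintype.card F = 4) {ζ : F} (hζ : ζ ≠ 0) :
    ∃ z ∈ Subgroup.center (Cfsg.SU 6 F 2), ∀ x, act z x = ζ • x := by
  have h3 : ζ ^ 3 = 1 := pow_three hF hζ
  refine ⟨suOfUnitary (Matrix.scalar (Fin 6) ζ)
      (isUnitary_diagonal (card_sq hF) fun _ => h3) (by
        rw [Matrix.scalar_apply, Matrix.det_diagonal, Finset.prod_const, Finset.card_univ, Fintype.card_fin,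
          show (6 : ℕ) = 3 * 2 from rfl, pow_mul, h3, one_pow]),
    (mem_center_SU_iff (card_sq hF) (by norm_num) _).2 ⟨ζ, rfl⟩, fun x => ?_⟩
  show Matrix.scalar (Fin 6) ζ *ᵥ x = _
  ext i
  simp [Matrix.scalar_apply, Matrix.mulVec_diagonal]

/-! ### Block matrices -/

omit [Fintype F] in
theorem det_block {k m : ℕ} (A : Matrix (Fin k) (Fin k) F) (B : Matrix (Fin m) (Fin m) F) :
    (blockMatrix A B).det = A.det * B.det := by
  have : blockMatrix A B = Matrix.reindex finSumFinEquiv finSumFinEquiv (Matrix.fromBlocks A 0 0 B) := by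
    ext i j
    induction i using Fin.addCases <;> induction j using Fin.addCases <;> simp [blockMatrix]
  rw [this, Matrix.det_reindex_self, Matrix.det_fromBlocks_zero₂₁]

omit [Fintype F] in
/-- SU(4,2) inside SU(2+4,2). -/
def lowerHom : Cfsg.SU 4 F 2 →* Cfsg.SU (2 + 4) F 2 where
  toFun B := suOfUnitary (blockMatrix 1 (mt B))
    (isUnitary_block IsUnitary.one fun u v => SU_apply B u v)
    (by
      rw [det_block, Matrix.det_one, one_mul]
      exact (B : Matrix.SpecialLinearGroup (Fin 4) F).2)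
  map_one' := Subtype.ext (Subtype.ext (Matrix.ext_iff_mulVec.2 fun x => by
    show blockMatrix (1 : Matrix (Fin 2) (Fin 2) F) 1 *ᵥ x = (1 : Matrix (Fin (2 + 4)) (Fin (2 + 4)) F) *ᵥ x
    rw [← append_split x, blockMatrix_mulVec, Matrix.one_mulVec, Matrix.one_mulVec, Matrix.one_mulVec]))
  map_mul' a b := Subtype.ext (Subtype.ext (by
    show blockMatrix (1 : Matrix (Fin 2) (Fin 2) F) (mt a * mt b) = blockMatrix 1 (mt a) * blockMatrix 1 (mt b)
    rw [← blockMatrix_mul, Matrix.mul_one]))

theorem act_lowerHom (B : Cfsg.SU 4 F 2) (u : Fin 2 → F) (x : Fin 4 → F) :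
    act (lowerHom B) (Fin.append u x) = Fin.append u (act B x) := by
  show blockMatrix (1 : Matrix (Fin 2) (Fin 2) F) (mt B) *ᵥ Fin.append u x = _
  rw [blockMatrix_mulVec, Matrix.one_mulVec]
  rfl

theorem hf_append (u u' : Fin 2 → F) (x x' : Fin 4 → F) :
    hf (Fin.append u x) (Fin.append u' x') = hf u u' + hf x x' := hermForm_append u u' x x'

theorem iso_lower (hF : Fintype.card F = 4) {w : Fin 4 → F} (hw : Iso w) :
    Iso (Fin.append (0 : Fin 2 → F) w) := by
  refine ⟨fun h => hw.1 (funext fun i => ?_), ?_⟩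
  · have := congrFun h (Fin.natAdd 2 i)
    rwa [Fin.append_right] at this
  · rw [hf_append, hf_zero_left hF, hw.2, add_zero]

theorem lowerHom_tv (hF : Fintype.card F = 4) {w : Fin 4 → F} (hw : Iso w) :
    lowerHom (tv hF w) = tv hF (Fin.append (0 : Fin 2 → F) w) := act_ext fun z => by
  rw [← append_split z, act_lowerHom, act_tv hF hw.2, act_tv hF (iso_lower hF hw).2, hf_append,
    hf_zero_right hF, zero_add]
  ext i
  induction i using Fin.addCases <;> simp

/-! ### The stabiliser -/

omit [Fintype F] in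
theorem mulVec_lower {k m : ℕ} (M : Matrix (Fin (k + m)) (Fin (k + m)) F) (x : Fin m → F) (i : Fin m) :
    (M *ᵥ Fin.append (0 : Fin k → F) x) (Fin.natAdd k i)
      = (M.submatrix (Fin.natAdd k) (Fin.natAdd k) *ᵥ x) i := by
  simp [Matrix.mulVec, dotProduct, Fin.sum_univ_add]

variable (F) in
/-- The group generated by the transvections with centre orthogonal to `v`. -/
def tvPerp (hF : Fintype.card F = 4) (v : Fin 6 → F) : Subgroup (Cfsg.SU 6 F 2) :=
  Subgroup.closure {A | ∃ w, Iso w ∧ hf w v = 0 ∧ A = tv hF w}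

theorem tvPerp_fix (hF : Fintype.card F = 4) {v : Fin 6 → F} {t : Cfsg.SU 6 F 2}
    (ht : t ∈ tvPerp F hF v) : act t v = v := by
  induction ht using Subgroup.closure_induction with
  | mem A hA =>
    obtain ⟨w, hw, h, rfl⟩ := hA
    exact act_tv_of_orth hF hw.2 ((hf_eq_zero_symm hF).1 h)
  | one => exact act_one v
  | mul a b _ _ ha hb => rw [act_mul, hb, ha]
  | inv a _ ha =>
    conv_lhs => rw [← ha]
    exact act_inv_act a v

theorem tvPerp_conj (hF : Fintype.card F = 4) (g : Cfsg.SU 6 F 2) {v : Fin 6 → F} {t : Cfsg.SU 6 F 2}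
    (ht : t ∈ tvPerp F hF v) : g * t * g⁻¹ ∈ tvPerp F hF (act g v) := by
  have hle : tvPerp F hF v ≤ (tvPerp F hF (act g v)).comap (MulAut.conj g).toMonoidHom := by
    rw [tvPerp, Subgroup.closure_le]
    rintro _ ⟨w, hw, h, rfl⟩
    exact Subgroup.subset_closure ⟨act g w, hw.act g, by rw [act_hf]; exact h, by
      show g * tv hF w * g⁻¹ = _
      exact tv_conj_inv hF g hw.2⟩
  exact hle ht

/-- An element fixing both standard vectors comes from the lower block. -/
theorem exists_lower (hF : Fintype.card F = 4) {ω : F} (hω : ω ^ 2 = ω + 1) (g : Cfsg.SU (2 + 4) F 2)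
    (hv : act g (Fin.append ![(1 : F), 1] (0 : Fin 4 → F)) = Fin.append ![(1 : F), 1] (0 : Fin 4 → F))
    (hr : act g (Fin.append ![ω, ω ^ 2] (0 : Fin 4 → F)) = Fin.append ![ω, ω ^ 2] (0 : Fin 4 → F)) :
    ∃ B : Cfsg.SU 4 F 2, g = lowerHom B := by
  have fixl : ∀ u : Fin 2 → F, act g (Fin.append u 0) = Fin.append u 0 := by
    intro u
    have e : Fin.append u (0 : Fin 4 → F) = (u 0 + (u 0 + u 1) * ω) • Fin.append ![(1 : F), 1] (0 : Fin 4 → F)
        + (u 0 + u 1) • Fin.append ![ω, ω ^ 2] (0 : Fin 4 → F) := by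
      ext i
      induction i using Fin.addCases with
      | left i =>
        fin_cases i <;> simp only [Pi.add_apply, Pi.smul_apply, Fin.append_left, smul_eq_mul] <;>
          simp
        · linear_combination -(u 0 + u 1) * ω * two_eq_zero hF
        · linear_combination -(u 0 + u 1) * hω - (u 0 + (u 0 + u 1) * ω) * two_eq_zero hF
      | right i => simp
    rw [e, act_add, act_smul, act_smul, hv, hr]
  set B : Matrix (Fin 4) (Fin 4) F := (mt g).submatrix (Fin.natAdd 2) (Fin.natAdd 2) with hB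
  have low : ∀ x : Fin 4 → F, act g (Fin.append 0 x) = Fin.append 0 (B *ᵥ x) := by
    intro x
    ext i
    induction i using Fin.addCases with
    | left i =>
      have h := act_hf g (Fin.append (0 : Fin 2 → F) x) (Fin.append (Pi.single i 1) 0)
      rw [fixl, ← append_split (act g (Fin.append 0 x)), hf_append, hf_append, hf_zero_left hF,
        hf_zero_right hF, hf_zero_right hF, add_zero, add_zero,
        show hf (fun j => act g (Fin.append 0 x) (Fin.castAdd 4 j)) (Pi.single i 1) = _ from
          hermForm_single_right (card_sq hF) _ i] at h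
      simpa using h
    | right i =>
      rw [Fin.append_right]; exact mulVec_lower (mt g) x i
  have hM : mt g = blockMatrix 1 B := Matrix.ext_iff_mulVec.2 fun z => by
    rw [← append_split z, blockMatrix_mulVec, Matrix.one_mulVec]
    generalize (fun i => z (Fin.castAdd 4 i)) = u
    generalize (fun i => z (Fin.natAdd 2 i)) = x
    have e : ∀ (p : Fin 2 → F) (q : Fin 4 → F), Fin.append p q = Fin.append p 0 + Fin.append 0 q :=
      fun p q => by ext i; induction i using Fin.addCases <;> simp
    show act g (Fin.append u x) = _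
    rw [e u x, act_add, fixl, low, ← e]
  have hBu : IsUnitary 2 B := fun a b => by
    have h := act_hf g (Fin.append (0 : Fin 2 → F) a) (Fin.append 0 b)
    rw [low, low, hf_append, hf_append, hf_zero_left hF, zero_add, zero_add] at h
    exact h
  have hBd : B.det = 1 := by
    have h := (g : Matrix.SpecialLinearGroup (Fin (2 + 4)) F).2
    rw [show ((g : Matrix.SpecialLinearGroup (Fin (2 + 4)) F) : Matrix (Fin (2 + 4)) (Fin (2 + 4)) F)
      = blockMatrix 1 B from hM, det_block, Matrix.det_one, one_mul] at h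
    exact h
  have hg : g = lowerHom (suOfUnitary B hBu hBd) := Subtype.ext (Subtype.ext hM)
  exact ⟨_, hg⟩

/-- An element fixing both standard vectors lies in the group of the first. -/
theorem stab_std (hF : Fintype.card F = 4) {ω : F} (hω : ω ^ 2 = ω + 1) (g : Cfsg.SU (2 + 4) F 2)
    (hv : act g (Fin.append ![(1 : F), 1] (0 : Fin 4 → F)) = Fin.append ![(1 : F), 1] (0 : Fin 4 → F))
    (hr : act g (Fin.append ![ω, ω ^ 2] (0 : Fin 4 → F)) = Fin.append ![ω, ω ^ 2] (0 : Fin 4 → F)) :
    g ∈ tvPerp F hF (Fin.append ![(1 : F), 1] (0 : Fin 4 → F)) := by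
  have hle : (⊤ : Subgroup (Cfsg.SU 4 F 2)) ≤ (tvPerp F hF (Fin.append ![(1 : F), 1] (0 : Fin 4 → F))).comap lowerHom := by
    rw [← closure_tv hF (le_refl 4), Subgroup.closure_le]
    rintro _ ⟨w, hw, rfl⟩
    refine Subgroup.subset_closure ⟨_, iso_lower hF hw, ?_, lowerHom_tv hF hw⟩
    exact (hf_append _ _ _ _).trans (by rw [hf_zero_left hF, hf_zero_right hF, add_zero])
  obtain ⟨B, hg⟩ := exists_lower hF hω g hv hr
  rw [hg]
  exact hle (Subgroup.mem_top _)

/-- An element fixing a hyperbolic pair. -/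
theorem stab_pair (hF : Fintype.card F = 4) {v r : Fin 6 → F} (hv : Iso v) (hr : hf r r = 0)
    (hvr : hf v r = 1) (g : Cfsg.SU 6 F 2) (h1 : act g v = v) (h2 : act g r = r) :
    g ∈ tvPerp F hF v := by
  obtain ⟨ω, -, hω⟩ := exists_omega hF
  let v₀ : Fin 6 → F := Fin.append ![1, 1] (0 : Fin 4 → F)
  let r₀ : Fin 6 → F := Fin.append ![ω, ω ^ 2] (0 : Fin 4 → F)
  have hr' : Iso r := ⟨fun h => one_ne_zero (hvr.symm.trans (by rw [h, hf_zero_right hF])), hr⟩
  have h2sum : ∀ a b : Fin 2 → F, hf (Fin.append a (0 : Fin 4 → F)) (Fin.append b 0)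
      = a 0 * b 0 ^ 2 + a 1 * b 1 ^ 2 := fun a b => by
    rw [hf_append, hf_zero_left hF, add_zero]
    simp [hf, Cfsg.hermForm, Fin.sum_univ_two]
  have e00 : hf v₀ v₀ = 0 := (h2sum _ _).trans (by simp; linear_combination two_eq_zero hF)
  have e11 : hf r₀ r₀ = 0 := (h2sum _ _).trans (by
    simp
    rw [show (ω ^ 2) ^ 2 = ω from pow_q_pow_q (card_sq hF) ω]
    linear_combination ω ^ 3 * two_eq_zero hF)
  have e01 : hf v₀ r₀ = 1 := (h2sum _ _).trans (by
    simp
    rw [show (ω ^ 2) ^ 2 = ω from pow_q_pow_q (card_sq hF) ω]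
    linear_combination hω + ω * two_eq_zero hF)
  have hv₀ : Iso v₀ := ⟨fun h => one_ne_zero (e01.symm.trans (by rw [h, hf_zero_left hF])), e00⟩
  have li : ∀ {p q : Fin 6 → F}, Iso p → hf p q = 1 → LinearIndependent F ![p, q] := fun hp h =>
    (LinearIndependent.pair_iff' hp.1).2 fun c e => by
      rw [← e, hf_smul_right hF, hp.2, mul_zero] at h
      exact zero_ne_one h
  obtain ⟨s, hs⟩ := exists_act_family hF (li hv₀ e01) (li hv hvr) (fun i j => by
    fin_cases i <;> fin_cases j <;>
      simp [hv.2, hr, hvr, hf_eq_one_symm hF hvr, e00, e11, e01, hf_eq_one_symm hF e01])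
    (by norm_num)
  have s0 : act s v₀ = v := hs 0
  have s1 : act s r₀ = r := hs 1
  have h := stab_std hF hω (s⁻¹ * g * s)
    (by rw [act_mul, act_mul, show act s (Fin.append ![(1 : F), 1] (0 : Fin 4 → F)) = v from s0, h1, ← s0]; exact act_inv_act s v₀)
    (by rw [act_mul, act_mul, show act s (Fin.append ![ω, ω ^ 2] (0 : Fin 4 → F)) = r from s1, h2, ← s1];
        exact act_inv_act s r₀)
  have h' := tvPerp_conj hF s h
  rw [show act s (Fin.append ![(1 : F), 1] (0 : Fin 4 → F)) = v from s0] at h'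
  simpa [mul_assoc] using h'

/-- One step between two partners of `v`. -/
theorem partner_step (hF : Fintype.card F = 4) {v p q : Fin 6 → F} (hp : hf p p = 0) (hq : hf q q = 0)
    (hvp : hf v p = 1) (hvq : hf v q = 1) (hpq : hf p q = 1) :
    ∃ t ∈ tvPerp F hF v, act t p = q := by
  have hqp := hf_eq_one_symm hF hpq
  have hI : Iso (p + q) := by
    refine ⟨fun h => ?_, ?_⟩
    · have e : hf (p + q) q = 0 := by rw [h, hf_zero_left hF]
      rw [hf_add_left hF, hpq, hq, add_zero] at e
      exact one_ne_zero e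
    · rw [hf_add_left hF, hf_add_right hF, hf_add_right hF, hp, hq, hpq, hqp]
      linear_combination two_eq_zero hF
  refine ⟨tv hF (p + q), Subgroup.subset_closure ⟨_, hI, ?_, rfl⟩, ?_⟩
  · rw [hf_add_left hF, hf_eq_one_symm hF hvp, hf_eq_one_symm hF hvq]
    linear_combination two_eq_zero hF
  · rw [act_tv hF hI.2, hf_add_right hF, hp, hpq, zero_add, one_smul, ← add_assoc, vadd_self hF, zero_add]

theorem exists_move (hF : Fintype.card F = 4) {v r r' : Fin 6 → F} (hv : Iso v) (hr : hf r r = 0)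
    (hr' : hf r' r' = 0) (hvr : hf v r = 1) (hvr' : hf v r' = 1) :
    ∃ t ∈ tvPerp F hF v, act t r' = r := by
  have hrv := hf_eq_one_symm hF hvr
  have hr'v := hf_eq_one_symm hF hvr'
  have hrI : Iso r := ⟨fun h => one_ne_zero (hvr.symm.trans (by rw [h, hf_zero_right hF])), hr⟩
  set b := hf r' r with hb
  set e := r' + b • v + r with he
  have hev : hf e v = 0 := by
    rw [he, hf_add_left hF, hf_add_left hF, hf_smul_left hF, hv.2, hr'v, hrv]
    linear_combination two_eq_zero hF
  have her : hf e r = 0 := by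
    rw [he, hf_add_left hF, hf_add_left hF, hf_smul_left hF, hr, hvr, ← hb]
    linear_combination b * two_eq_zero hF
  by_cases he0 : e = 0
  · have e1 : r' = b • v + r := by
      rw [he, add_assoc] at he0
      exact funext fun i => (eq_iff_add_eq_zero hF).2 (congrFun he0 i)
    by_cases hb0 : b = 0
    · exact ⟨1, one_mem _, by rw [act_one, e1, hb0, zero_smul, zero_add]⟩
    have h2 : b + b ^ 2 = 0 := by
      have h0 := hr'
      rw [e1, hf_add_left hF, hf_add_right hF, hf_add_right hF, hf_smul_left hF, hf_smul_left hF,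
        hf_smul_right hF, hf_smul_right hF, hv.2, hvr, hrv, hr] at h0
      linear_combination h0
    have hb1 : b = 1 := fixed_eq_one hF (by linear_combination h2 - b * two_eq_zero hF) hb0
    exact partner_step hF hr' hr hvr' hvr (hb.symm.trans hb1)
  · obtain ⟨u, hu, huv, hur, heu⟩ := exists_orth_iso hF (by norm_num) hv hrI hvr he0 hev her b
    set p := v + r + u with hp
    have hpp : hf p p = 0 := by
      rw [hp]
      simp only [hf_add_left hF, hf_add_right hF, hv.2, hr, hu, hvr, hrv, huv, hur,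
        (hf_eq_zero_symm hF).1 huv, (hf_eq_zero_symm hF).1 hur]
      linear_combination two_eq_zero hF
    have hvp : hf v p = 1 := by
      rw [hp, hf_add_right hF, hf_add_right hF, hv.2, hvr, (hf_eq_zero_symm hF).1 huv]
      ring
    have hpr : hf p r = 1 := by
      rw [hp, hf_add_left hF, hf_add_left hF, hvr, hr, hur]
      ring
    have er' : r' = e + b • v + r := by
      rw [he]
      ext i
      simp only [Pi.add_apply, Pi.smul_apply]
      linear_combination -(b * v i + r i) * two_eq_zero hF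
    have hr'u : hf r' u = b := by
      rw [er', hf_add_left hF, hf_add_left hF, hf_smul_left hF, heu, (hf_eq_zero_symm hF).1 huv,
        (hf_eq_zero_symm hF).1 hur]
      ring
    have hr'p : hf r' p = 1 := by
      rw [hp, hf_add_right hF, hf_add_right hF, hr'v, hr'u, ← hb]
      linear_combination b * two_eq_zero hF
    obtain ⟨t1, ht1, e1⟩ := partner_step hF hr' hpp hvr' hvp hr'p
    obtain ⟨t2, ht2, e2⟩ := partner_step hF hpp hr hvp hvr hpr
    exact ⟨t2 * t1, mul_mem ht2 ht1, by rw [act_mul, e1, e2]⟩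

/-- The stabiliser of an isotropic point. -/
theorem stab_point (hF : Fintype.card F = 4) {v : Fin 6 → F} (hv : Iso v) {g : Cfsg.SU 6 F 2} {c : F}
    (hg : act g v = c • v) :
    ∃ z ∈ Subgroup.center (Cfsg.SU 6 F 2), ∃ t ∈ tvPerp F hF v, g = z * t := by
  have hc : c ≠ 0 := fun h => (hv.act g).1 (by rw [hg, h, zero_smul])
  obtain ⟨z, hz, hzact⟩ := exists_scalar hF hc
  obtain ⟨r, ⟨-, hr⟩, hvr⟩ := exists_iso_not_orth hF hv
  have h1 : act (z⁻¹ * g) v = v := by
    rw [act_mul, hg, ← hzact, act_inv_act]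
  have hr' : hf (act (z⁻¹ * g) r) (act (z⁻¹ * g) r) = 0 := by rw [act_hf]; exact hr
  have hvr' : hf v (act (z⁻¹ * g) r) = 1 := by
    rw [← hvr, ← act_hf (z⁻¹ * g) v r, h1]
  obtain ⟨t, ht, htr⟩ := exists_move hF hv hr hr' hvr hvr'
  have h2 := stab_pair hF hv hr hvr (t * (z⁻¹ * g))
    (by rw [act_mul, h1, tvPerp_fix hF ht]) (by rw [act_mul, htr])
  refine ⟨z, hz, t⁻¹ * (t * (z⁻¹ * g)), mul_mem (inv_mem ht) h2, ?_⟩
  rw [inv_mul_cancel_left, mul_inv_cancel_left]

end Cfsg.Agent.FischerM22
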