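/-
The local group of a member of a group of type M(22) as a double cover of PSU(6,2).

Main results (namespace `Cfsg.Agent.FischerM22`):
* `LocModel`, `exists_locModel` : the point model with its map onto PSU(6,2);
* `stab_edge` : an element of `Loc a` commuting with `y ∈ adj a` lies in `Loc y`;
* `loc_card` : the local group has order 18393661440;
* `LocModel.realise`, `trans_noncommuting` : transitivity of `Loc a` on the neighbours of `a`.
-/
import Cfsg.Agent.Lib.FischerM22.Heptad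
import Cfsg.Agent.Lib.FischerM22.Stab
import Cfsg.Agent.Lib.FischerM22.Counts

set_option autoImplicit false

namespace Cfsg.Agent.FischerM22

open Cfsg.Agent.Unitary Cfsg.Agent.U62Cover Cfsg.Agent.ThreeTrans Cfsg.Agent.ThreeTransSU

variable {G : Type*} [Group G] {D : Set G}

/-- A point model with a map of the local group onto PSU(6,2). -/
structure LocModel {F : Type*} [Field F] [Fintype F] (D : Set G) (a : G) (pt : (Fin 6 → F) → G)
    (θ : ↥(Loc D a) →* Cfsg.PSU 6 F 2) : Prop where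
  M : PointModel D a pt
  surj : Function.Surjective θ
  ker : ∀ x, θ x = 1 → x ∈ Subgroup.center ↥(Loc D a)
  image : ∀ v, Iso v → ∀ h : pt v ∈ Loc D a, θ ⟨pt v, h⟩ = toPSU 6 F (tv M.card v)

theorem exists_locModel [Finite G] (S : Fi22Setup D) {a : G} (ha : a ∈ D) :
    ∃ (F : Type) (_ : Field F) (_ : Fintype F) (pt : (Fin 6 → F) → G)
      (θ : ↥(Loc D a) →* Cfsg.PSU 6 F 2), LocModel D a pt θ := by
  obtain ⟨d, hd, F, fF, tF, pt, θ, M, hF, hs, hk, hi⟩ := exists_model_hom S.cls S.cores S.type22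
  obtain ⟨g, rfl⟩ := class_conj S.cls hd ha
  let e := locEquiv S g d
  refine ⟨F, fF, tF, MulAut.conj g ∘ pt, θ.comp e.symm.toMonoidHom,
    ⟨M.conj S.grp.2.1 g, hs.comp e.symm.surjective, fun x hx => ?_, fun v hv h => ?_⟩⟩
  · refine Subgroup.mem_center_iff.2 fun y => e.symm.injective ?_
    rw [map_mul, map_mul]
    exact Subgroup.mem_center_iff.1 (hk _ hx) _
  · have hm : pt v ∈ Loc D d := Subgroup.subset_closure (M.mem v hv)
    have h' : e.symm ⟨(MulAut.conj g ∘ pt) v, h⟩ = ⟨pt v, hm⟩ := by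
      apply e.injective
      rw [MulEquiv.apply_symm_apply]
      exact Subtype.ext rfl
    show θ (e.symm ⟨(MulAut.conj g ∘ pt) v, h⟩) = _
    rw [h']; exact hi v hv hm

variable {F : Type*} [Field F] [Fintype F] {a : G} {pt : (Fin 6 → F) → G}
  {θ : ↥(Loc D a) →* Cfsg.PSU 6 F 2}

/-- Neighbours with the same image are equal. -/
theorem LocModel.eq_of_image [Finite G] (L : LocModel D a pt θ) (S : Fi22Setup D) (ha : a ∈ D)
    {x y : ↥(Loc D a)} (hx : (x : G) ∈ adj D a) (hy : (y : G) ∈ adj D a) (h : θ x = θ y) : x = y := by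
  have hne : (adj D a).Nonempty := ⟨x, hx⟩
  refine mk_inj (loc_class S.cls S.cores ha hne) (loc_two S.cls S.cores ha hne) hx hy ?_
  exact QuotientGroup.eq.2 (L.ker _ (by rw [map_mul, map_inv, h, inv_mul_cancel]))

theorem conj_mem_adj_loc (S : Fi22Setup D) (h : ↥(Loc D a)) {y : G} (hy : y ∈ adj D a) :
    (h : G) * y * (h : G)⁻¹ ∈ adj D a := by
  have := (adj_conj_image S.grp.2.1 (h : G) a).symm.subset ⟨y, hy, rfl⟩
  rwa [show (h : G) * a * (h : G)⁻¹ = a by rw [(commute_of_mem_Loc h.2).eq, mul_inv_cancel_right]] at this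

/-- Conjugation by an element of the local group, read in the model. -/
theorem LocModel.conj_pt [Finite G] (L : LocModel D a pt θ) (S : Fi22Setup D) (ha : a ∈ D)
    {h : ↥(Loc D a)} {g : Cfsg.SU 6 F 2} (hg : θ h = toPSU 6 F g) {v : Fin 6 → F} (hv : Iso v) :
    (h : G) * pt v * (h : G)⁻¹ = pt (act g v) := by
  have hy := L.M.mem v hv
  have hy' := L.M.mem _ (hv.act g)
  have e : h * ⟨pt v, Subgroup.subset_closure hy⟩ * h⁻¹ = ⟨pt (act g v), Subgroup.subset_closure hy'⟩ := by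
    refine L.eq_of_image S ha (conj_mem_adj_loc S h hy) hy' ?_
    rw [map_mul, map_mul, map_inv, hg, L.image v hv (Subgroup.subset_closure hy), L.image _ (hv.act g) (Subgroup.subset_closure hy'), ← map_inv, ← map_mul,
      ← map_mul, tv_conj_inv L.M.card g hv.2]
  exact congrArg Subtype.val e

/-- Every element of SU(6,2) is realised in the local group. -/
theorem LocModel.realise [Finite G] (L : LocModel D a pt θ) (S : Fi22Setup D) (ha : a ∈ D)
    (g : Cfsg.SU 6 F 2) : ∃ h : ↥(Loc D a), ∀ v, Iso v → (h : G) * pt v * (h : G)⁻¹ = pt (act g v) := by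
  obtain ⟨h, hh⟩ := L.surj (toPSU 6 F g)
  exact ⟨h, fun v hv => L.conj_pt S ha hh hv⟩

/-- An element of `Loc a` commuting with a neighbour `y` lies in `Loc y`. -/
theorem stab_edge [Finite G] (S : Fi22Setup D) {a y h : G} (ha : a ∈ D) (hy : y ∈ adj D a)
    (hh : h ∈ Loc D a) (hc : Commute h y) : h ∈ Loc D y := by
  obtain ⟨F, _, _, pt, θ, L⟩ := exists_locModel S ha
  have hF := L.M.card
  obtain ⟨v, hv, rfl⟩ := L.M.surj y hy
  obtain ⟨g, hg⟩ := QuotientGroup.mk'_surjective _ (θ ⟨h, hh⟩)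
  have h1 : pt (act g v) = pt v := by
    rw [← L.conj_pt S ha hg.symm hv]
    show h * pt v * h⁻¹ = _
    rw [hc.eq, mul_inv_cancel_right]
  obtain ⟨c, -, hgv⟩ := L.M.inj _ _ hv (hv.act g) h1.symm
  obtain ⟨z, hz, t, ht, rfl⟩ := stab_point hF hv hgv
  have hle : tvPerp F hF v ≤ (((Loc D (pt v)).subgroupOf (Loc D a)).map θ).comap (toPSU 6 F) := by
    rw [tvPerp, Subgroup.closure_le]
    rintro _ ⟨w, hw, hwv, rfl⟩
    refine ⟨⟨pt w, Subgroup.subset_closure (L.M.mem w hw)⟩, ?_, L.image w hw _⟩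
    rw [SetLike.mem_coe, Subgroup.mem_subgroupOf]
    have hcomm := (L.M.comm w v hw hv).2 hwv
    by_cases e : pt w = pt v
    · show pt w ∈ Loc D (pt v)
      rw [e]; exact mem_loc_self S hy.1
    · exact Subgroup.subset_closure ⟨(L.M.mem w hw).1, e, hcomm.symm⟩
  obtain ⟨k, hk, hkθ⟩ := hle ht
  rw [SetLike.mem_coe, Subgroup.mem_subgroupOf] at hk
  have hker : θ (k⁻¹ * ⟨h, hh⟩) = 1 := by
    rw [map_mul, map_inv, hkθ, ← hg, map_mul]
    show (toPSU 6 F t)⁻¹ * (toPSU 6 F z * toPSU 6 F t) = 1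
    rw [toPSU_eq_one.2 hz, one_mul, inv_mul_cancel]
  have e : h = (k : G) * ((k⁻¹ * ⟨h, hh⟩ : ↥(Loc D a)) : G) := by
    rw [Subgroup.coe_mul, Subgroup.coe_inv, mul_inv_cancel_left]
  rw [e]
  refine mul_mem hk ?_
  rcases (mem_center_loc_iff S ha _).1 (L.ker _ hker) with h2 | h2 <;> rw [h2]
  · exact one_mem _
  · exact Subgroup.subset_closure (adj_symm ha hy)

theorem center_psu_eq_bot (hF : Fintype.card F = 4) : Subgroup.center (Cfsg.PSU 6 F 2) = ⊥ := by
  have hs : IsSimpleGroup (Cfsg.PSU 6 F 2) :=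
    S0283.result (q := 2) (by rw [hF]; norm_num) 6 (by norm_num) (by norm_num)
  refine (Subgroup.Normal.eq_bot_or_eq_top inferInstance).resolve_right fun h => ?_
  obtain ⟨v, hv⟩ : ∃ v : Fin 6 → F, Iso v := by
    have := count_iso hF
    by_contra hc
    rw [Nat.card_eq_zero.2 (Or.inl ⟨fun x => hc ⟨x.1, x.2⟩⟩)] at this
    norm_num at this
  obtain ⟨w, hw, hvw⟩ := exists_iso_not_orth hF hv
  have hc : Commute (toPSU 6 F (tv hF v)) (toPSU 6 F (tv hF w)) :=
    (Subgroup.mem_center_iff.1 (h ▸ Subgroup.mem_top _) (toPSU 6 F (tv hF v)))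
  exact one_ne_zero (hvw.symm.trans ((mk_tv_comm hF (by norm_num) hv hw).1 hc))

/-- The order of the local group. -/
theorem loc_card [Finite G] (S : Fi22Setup D) {a : G} (ha : a ∈ D) :
    Nat.card ↥(Loc D a) = 18393661440 := by
  obtain ⟨F, _, _, pt, θ, L⟩ := exists_locModel S ha
  have hF := L.M.card
  have hk : θ.ker = Subgroup.center ↥(Loc D a) := by
    refine le_antisymm (fun x hx => L.ker x hx) fun x hx => ?_
    rw [MonoidHom.mem_ker, ← Subgroup.mem_bot, ← center_psu_eq_bot hF]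
    refine Subgroup.mem_center_iff.2 fun q => ?_
    obtain ⟨y, rfl⟩ := L.surj q
    rw [← map_mul, ← map_mul, Subgroup.mem_center_iff.1 hx y]
  rw [Subgroup.card_eq_card_quotient_mul_card_subgroup θ.ker,
    Nat.card_congr (QuotientGroup.quotientKerEquivOfSurjective θ L.surj).toEquiv, hk, card_center_loc S ha]
  have h := card_PSU (q := 2) (card_sq hF) (n := 6) (by norm_num)
  simp [Finset.prod_range_succ, Nat.even_iff] at h
  omega

/-- Transitivity of the local group on ordered non-commuting pairs of neighbours. -/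
theorem trans_noncommuting [Finite G] (S : Fi22Setup D) {a x x' y y' : G} (ha : a ∈ D)
    (hx : x ∈ adj D a) (hx' : x' ∈ adj D a) (hxx : ¬ Commute x x')
    (hy : y ∈ adj D a) (hy' : y' ∈ adj D a) (hyy : ¬ Commute y y') :
    ∃ h ∈ Loc D a, h * x * h⁻¹ = y ∧ h * x' * h⁻¹ = y' := by
  obtain ⟨F, _, _, pt, θ, L⟩ := exists_locModel S ha
  have hF := L.M.card
  have norm : ∀ {p q : G}, p ∈ adj D a → q ∈ adj D a → ¬ Commute p q →
      ∃ u w, Iso u ∧ Iso w ∧ pt u = p ∧ pt w = q ∧ hf u w = 1 := by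
    intro p q hp hq hpq
    obtain ⟨u, hu, rfl⟩ := L.M.surj p hp
    obtain ⟨w, hw, rfl⟩ := L.M.surj q hq
    have h0 : hf u w ≠ 0 := fun e => hpq ((L.M.comm u w hu hw).2 e)
    have hc0 : ((hf u w)⁻¹) ^ 2 ≠ 0 := pow_ne_zero _ (inv_ne_zero h0)
    refine ⟨u, _, hu, hw.smul hF hc0, rfl, L.M.smul w _ hw hc0, ?_⟩
    rw [hf_smul_right hF, show (((hf u w)⁻¹) ^ 2) ^ 2 = (hf u w)⁻¹ from pow_q_pow_q (card_sq hF) _,
      inv_mul_cancel₀ h0]
  obtain ⟨u, w, hu, hw, rfl, rfl, h1⟩ := norm hx hx' hxx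
  obtain ⟨u', w', hu', hw', rfl, rfl, h1'⟩ := norm hy hy' hyy
  obtain ⟨g, hg⟩ := exists_act_family hF
    (li_of_not_orth hF hu (by rw [h1]; exact one_ne_zero))
    (li_of_not_orth hF hu' (by rw [h1']; exact one_ne_zero))
    (fun i j => by
      fin_cases i <;> fin_cases j <;>
        simp [hu.2, hw.2, hu'.2, hw'.2, h1, h1', hf_eq_one_symm hF h1, hf_eq_one_symm hF h1'])
    (by norm_num)
  have g0 : act g u = u' := hg 0
  have g1 : act g w = w' := hg 1
  obtain ⟨h, hh⟩ := L.realise S ha g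
  exact ⟨h, h.2, by rw [hh u hu, g0], by rw [hh w hw, g1]⟩

/-- Transitivity of the local group on ordered commuting pairs of neighbours. -/
theorem trans_commuting [Finite G] (S : Fi22Setup D) {a x x' y y' : G} (ha : a ∈ D)
    (hx : x ∈ adj D a) (hx' : x' ∈ adj D a) (hxne : x ≠ x') (hxx : Commute x x')
    (hy : y ∈ adj D a) (hy' : y' ∈ adj D a) (hyne : y ≠ y') (hyy : Commute y y') :
    ∃ h ∈ Loc D a, h * x * h⁻¹ = y ∧ h * x' * h⁻¹ = y' := by
  obtain ⟨F, _, _, pt, θ, L⟩ := exists_locModel S ha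
  have hF := L.M.card
  have norm : ∀ {p q : G}, p ∈ adj D a → q ∈ adj D a → p ≠ q → Commute p q →
      ∃ u w, OrthPair u w ∧ pt u = p ∧ pt w = q := by
    intro p q hp hq hne hpq
    obtain ⟨u, hu, rfl⟩ := L.M.surj p hp
    obtain ⟨w, hw, rfl⟩ := L.M.surj q hq
    refine ⟨u, w, ⟨hu, hw, (L.M.comm u w hu hw).1 hpq, fun c e => hne ?_⟩, rfl, rfl⟩
    rw [e, L.M.smul u c hu fun h0 => hw.1 (by rw [e, h0, zero_smul])]
  obtain ⟨u, w, hP, rfl, rfl⟩ := norm hx hx' hxne hxx
  obtain ⟨u', w', hP', rfl, rfl⟩ := norm hy hy' hyne hyy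
  obtain ⟨g, g0, g1⟩ := exists_act_two hF (by norm_num) hP hP'
  obtain ⟨h, hh⟩ := L.realise S ha g
  exact ⟨h, h.2, by rw [hh u hP.1, g0], by rw [hh w hP.2.1, g1]⟩

end Cfsg.Agent.FischerM22
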