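/-
The centraliser of a member of a group of type M(22).

Main results (namespace `Cfsg.Agent.FischerM22`):
* `exists_transport` : `Loc y` moves a neighbour of `y` to a commuting one, fixing a third;
* `Step`, `Good` : transports along commuting pairs and from a base member;
* `centralizer_eq_loc` : the centraliser of a member is its local group.
-/
import Cfsg.Agent.Lib.FischerM22.LocModel
import Cfsg.Agent.Lib.FischerM22.Graph
import Cfsg.Agent.Lib.ThreeTransSU.RadicalBound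

set_option autoImplicit false

namespace Cfsg.Agent.FischerM22

open Cfsg.Agent.Unitary Cfsg.Agent.U62Cover Cfsg.Agent.ThreeTrans Cfsg.Agent.ThreeTransSU

section Vectors

variable {F : Type*} [Field F] [Fintype F]

/-- An isotropic vector orthogonal to `v` but to neither `u` nor `u'`. -/
theorem exists_z_vec (hF : Fintype.card F = 4) {v u u' : Fin 6 → F} (hv : Iso v) (hu : Iso u) (hu' : Iso u')
    (hvu : hf v u = 0) (huu' : hf u u' = 0) (hu1 : ∀ c : F, u ≠ c • v) (hu2 : ∀ c : F, u' ≠ c • v) :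
    ∃ z, Iso z ∧ hf z v = 0 ∧ hf z u ≠ 0 ∧ hf z u' ≠ 0 := by
  have li2 : LinearIndependent F ![v, u] := (LinearIndependent.pair_iff' hv.1).2 fun c e => hu1 c e.symm
  have huv := (hf_eq_zero_symm hF).1 hvu
  suffices h : ∃ x, hf x v = 0 ∧ hf x u = 1 ∧ hf x u' ≠ 0 by
    obtain ⟨x, hxv, hxu, hxu'⟩ := h
    obtain ⟨t, ht⟩ := exists_trace hF ((herm hF).self_fixed x)
    have e : ∀ w, hf u w = 0 → hf (x + t • u) w = hf x w := fun w hw => by
      rw [hf_add_left hF, hf_smul_left hF, hw, mul_zero, add_zero]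
    refine ⟨x + t • u, ⟨fun h => ?_, ?_⟩, (e v huv).trans hxv, ?_, ?_⟩
    · have := e u hu.2
      rw [h, hf_zero_left hF, hxu] at this
      exact zero_ne_one this
    · rw [hf_add_right hF, hf_smul_right hF t (x + t • u) u, e u hu.2, hxu,
        hf_add_left hF, hf_smul_left hF, hf_eq_one_symm hF hxu]
      have ht' : t + t ^ 2 = hf x x := ht
      linear_combination (hf x x) * two_eq_zero hF + ht'
    · rw [e u hu.2, hxu]; exact one_ne_zero
    · rw [e u' huu']; exact hxu'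
  by_cases hsp : u' ∈ Submodule.span F (Set.range ![v, u])
  · obtain ⟨x, hx⟩ := exists_dual hF li2 ![0, 1]
    have h0 : hf x v = 0 := hx 0
    have h1 : hf x u = 1 := hx 1
    refine ⟨x, h0, h1, ?_⟩
    obtain ⟨c, hc⟩ := (Submodule.mem_span_range_iff_exists_fun F).1 hsp
    rw [Fin.sum_univ_two] at hc
    simp only [Matrix.cons_val_zero, Matrix.cons_val_one] at hc
    rw [← hc, hf_add_right hF, hf_smul_right hF, hf_smul_right hF, h0, h1, mul_zero, zero_add, mul_one]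
    refine pow_ne_zero _ fun h => hu2 (c 0) ?_
    rw [← hc, h, zero_smul, add_zero]
  · obtain ⟨x, hx⟩ := exists_dual hF (linearIndependent_fin_snoc.2 ⟨li2, hsp⟩) (Fin.snoc ![0, 1] 1)
    refine ⟨x, ?_, ?_, ?_⟩
    · have := hx (Fin.castSucc 0)
      simp only [Fin.snoc_castSucc] at this
      exact this
    · have := hx (Fin.castSucc 1)
      simp only [Fin.snoc_castSucc] at this
      exact this
    · have := hx (Fin.last 2)
      simp only [Fin.snoc_last] at this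
      rw [this]; exact one_ne_zero

/-- An isotropic vector orthogonal to a hyperbolic pair and to a third vector orthogonal to both, on another
point. -/
theorem exists_perp_three (hF : Fintype.card F = 4) {u w v : Fin 6 → F} (hu : Iso u) (hv : Iso v)
    (hw : Partner u w) (hvu : hf v u = 0) (hvw : hf v w = 0) :
    ∃ z, Iso z ∧ hf z u = 0 ∧ hf z w = 0 ∧ hf z v = 0 ∧ ∀ c : F, z ≠ c • v := by
  obtain ⟨f, hf', hfu, hfw, hco⟩ := exists_frame hF (m := 4) (by norm_num) hu hw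
  set c : Fin 4 → F := fun i => hf v (f i) with hc
  have ev : v = Ext.coord f c := hco v hvu hvw
  have hcI : Iso c := ⟨fun h => hv.1 (by rw [ev, h, Ext.coord_zero]), by
    rw [← Ext.coord_hf hF hf', ← ev]; exact hv.2⟩
  have hne : ∀ i j : Fin 4, i ≠ j → hf (Pi.single i (1 : F)) (Pi.single j 1) = 0 := fun i j h =>
    (single_orthonormal (card_sq hF) 4).2 h
  have he : ∀ i : Fin 4, hf (Pi.single i (1 : F)) (Pi.single i 1) = 1 :=
    (single_orthonormal (card_sq hF) 4).1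
  have iso : ∀ i j : Fin 4, i ≠ j → Iso ((Pi.single i 1 : Fin 4 → F) + Pi.single j 1) := fun i j h => by
    refine ⟨fun h0 => ?_, ?_⟩
    · have := congrFun h0 i
      simp [h] at this
    · rw [hf_add_left hF, hf_add_right hF, hf_add_right hF, he, he, hne i j h, hne j i h.symm]
      linear_combination two_eq_zero hF
  obtain ⟨g, hg⟩ := exists_act hF (by norm_num) (iso 0 1 (by decide)) hcI
  set d := act g ((Pi.single 2 1 : Fin 4 → F) + Pi.single 3 1) with hd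
  have hdI : Iso d := (iso 2 3 (by decide)).act g
  have hdc : hf d c = 0 := by
    rw [hd, ← hg, act_hf, hf_add_left hF, hf_add_right hF, hf_add_right hF, hne _ _ (by decide),
      hne _ _ (by decide), hne _ _ (by decide), hne _ _ (by decide)]
    simp
  have coord_inj : ∀ x y : Fin 4 → F, Ext.coord f x = Ext.coord f y → x = y := fun x y h =>
    funext fun i => by
      have e : ∀ x' : Fin 4 → F, hf (Ext.coord f x') (Ext.coord f (Pi.single i 1)) = x' i := fun x' => by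
        rw [Ext.coord_hf hF hf']
        exact hermForm_single_right (card_sq hF) x' i
      rw [← e x, ← e y, h]
  refine ⟨Ext.coord f d, ⟨fun h => hdI.1 (coord_inj _ _ (by rw [h, Ext.coord_zero])), ?_⟩,
    Ext.coord_perp hF hfu d, Ext.coord_perp hF hfw d, ?_, fun t ht => ?_⟩
  · rw [Ext.coord_hf hF hf']; exact hdI.2
  · rw [ev, Ext.coord_hf hF hf']; exact hdc
  · rw [ev, ← Ext.coord_smul] at ht
    have h1 := coord_inj _ _ ht
    rw [hd, ← hg, ← act_smul, act_eq_iff] at h1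
    have h2 := congrFun h1 2
    simp at h2

end Vectors

variable {G : Type*} [Group G] [Finite G] {D : Set G}

/-- `Loc y` moves a neighbour to a commuting one, fixing a third neighbour commuting with both. -/
theorem exists_transport (S : Fi22Setup D) {y x x' y' : G} (hy : y ∈ D) (hx : x ∈ adj D y)
    (hx' : x' ∈ adj D y) (hy' : y' ∈ adj D y) (hxx : Commute x x') (hxy : Commute x y')
    (hx'y : Commute x' y') (hne : x ≠ y') (hne' : x' ≠ y') :
    ∃ r ∈ Loc D y, Commute r y' ∧ r * x * r⁻¹ = x' := by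
  obtain ⟨F, _, _, pt, M⟩ := S.exists_model hy
  have hF := M.card
  have hD := S.cls.1
  obtain ⟨v, hv, rfl⟩ := M.surj y' hy'
  obtain ⟨u, hu, rfl⟩ := M.surj x hx
  obtain ⟨u', hu', rfl⟩ := M.surj x' hx'
  have hne0 : ∀ {p q : Fin 6 → F}, Iso q → pt p ≠ pt q → Iso p → ∀ c : F, p ≠ c • q := fun hq h hp c e => h (by
    rw [e, M.smul _ c hq fun h0 => hp.1 (by rw [e, h0, zero_smul])])
  obtain ⟨w, hw, h0, h1, h2⟩ := exists_z_vec hF hv hu hu' ((M.comm v u hv hu).1 hxy.symm)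
    ((M.comm u u' hu hu').1 hxx) (hne0 hv hne hu) (hne0 hv hne' hu')
  have hz := M.mem w hw
  have hzy := (M.comm w v hw hv).2 h0
  have n1 : ¬ Commute (pt w) (pt u) := fun h => h1 ((M.comm w u hw hu).1 h)
  have n2 : ¬ Commute (pt w) (pt u') := fun h => h2 ((M.comm w u' hw hu').1 h)
  generalize pt w = z at hz hzy n1 n2
  generalize pt u = p at hx hxx hxy hne n1
  generalize pt u' = p' at hx' hxx hx'y hne' n2
  generalize pt v = q at hy' hzy hxy hx'y hne hne'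
  have hin : ∀ {s : G}, s ∈ adj D y → s ∈ Loc D y := fun h => Subgroup.subset_closure h
  refine ⟨(z * p') * (p * z), mul_mem (mul_mem (hin hz) (hin hx')) (mul_mem (hin hx) (hin hz)),
    (hzy.mul_left hx'y).mul_left (hxy.mul_left hzy), ?_⟩
  have b1 := braid hD hz.1 hx.1 n1
  have b2 := braid hD hz.1 hx'.1 n2
  have e1 : p * z * p * (p * z)⁻¹ = z := by
    rw [mul_inv_rev, inv_eq hD hz.1, inv_eq hD hx.1]
    calc p * z * p * (z * p) = p * (z * p * z) * p := by simp only [mul_assoc]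
      _ = z := by rw [b1]; simp only [mul_assoc, mul_self_cancel hD hx.1, mul_self hD hx.1, mul_one]
  have e2 : z * p' * z * (z * p')⁻¹ = p' := by
    rw [mul_inv_rev, inv_eq hD hz.1, inv_eq hD hx'.1]
    calc z * p' * z * (p' * z) = z * (p' * z * p') * z := by simp only [mul_assoc]
      _ = p' := by rw [← b2]; simp only [mul_assoc, mul_self_cancel hD hz.1, mul_self hD hz.1, mul_one]
  calc z * p' * (p * z) * p * (z * p' * (p * z))⁻¹ = z * p' * (p * z * p * (p * z)⁻¹) * (z * p')⁻¹ := by group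
    _ = p' := by rw [e1, e2]

/-- Two common neighbours of a commuting pair are joined by a third one. -/
theorem common_diameter (S : Fi22Setup D) {x x' y y' : G} (hx : x ∈ D) (hx' : x' ∈ adj D x)
    (hy : y ∈ common D x x') (hy' : y' ∈ common D x x') (hyy : ¬ Commute y y') :
    ∃ z ∈ common D x x', Commute y z ∧ Commute z y' := by
  obtain ⟨F, _, _, pt, M⟩ := S.exists_model hx
  have hF := M.card
  obtain ⟨v, hv, rfl⟩ := M.surj x' hx'
  obtain ⟨u, hu, rfl⟩ := M.surj y hy.1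
  obtain ⟨w, hw, rfl⟩ := M.surj y' hy'.1
  have h0 : hf u w ≠ 0 := fun e => hyy ((M.comm u w hu hw).2 e)
  have hc0 : ((hf u w)⁻¹) ^ 2 ≠ 0 := pow_ne_zero _ (inv_ne_zero h0)
  have hP : Partner u (((hf u w)⁻¹) ^ 2 • w) := ⟨(hw.smul hF hc0).2, by
    rw [hf_smul_right hF, show (((hf u w)⁻¹) ^ 2) ^ 2 = (hf u w)⁻¹ from pow_q_pow_q (card_sq hF) _,
      inv_mul_cancel₀ h0]⟩
  have hvw : hf v w = 0 := (M.comm v w hv hw).1 hy'.2.2.2
  obtain ⟨z, hz, hzu, hzw, hzv, hzne⟩ := exists_perp_three hF hu hv hP ((M.comm v u hv hu).1 hy.2.2.2)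
    (by rw [hf_smul_right hF, hvw, mul_zero])
  rw [hf_smul_right hF] at hzw
  have hzw' := (mul_eq_zero.1 hzw).resolve_left (pow_ne_zero _ hc0)
  have hzm := M.mem z hz
  refine ⟨pt z, ⟨hzm, hzm.1, fun e => ?_, ((M.comm z v hz hv).2 hzv).symm⟩,
    ((M.comm z u hz hu).2 hzu).symm, (M.comm z w hz hw).2 hzw'⟩
  obtain ⟨c, hc, e'⟩ := M.inj v z hv hz e.symm
  exact hzne c e'

/-- A transport from `x` to the commuting `x'` inside the local group of a common neighbour. -/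
def Tr (D : Set G) (x x' g : G) : Prop := g * x * g⁻¹ = x' ∧ ∃ y ∈ common D x x', g ∈ Loc D y

/-- A transport up to the local group of `x`. -/
def Step (D : Set G) (x x' g : G) : Prop :=
  (x' = x ∧ g ∈ Loc D x) ∨ (x' ∈ adj D x ∧ ∃ t, Tr D x x' t ∧ ∃ k ∈ Loc D x, g = t * k)

theorem conj_mem_loc (S : Fi22Setup D) {x x' g k : G} (hg : g * x * g⁻¹ = x') (hk : k ∈ Loc D x) :
    g * k * g⁻¹ ∈ Loc D x' := by
  rw [← hg, ← loc_map S g x]
  exact ⟨k, hk, rfl⟩

theorem inv_conj_mem_loc (S : Fi22Setup D) {x x' g k : G} (hg : g * x * g⁻¹ = x') (hk : k ∈ Loc D x') :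
    g⁻¹ * k * g ∈ Loc D x := by
  have := conj_mem_loc S (g := g⁻¹) (x := x') (x' := x) (by rw [← hg]; group) hk
  simpa using this

theorem conj_eq_self_of_loc {x k : G} (hk : k ∈ Loc D x) : k * x * k⁻¹ = x := by
  rw [(commute_of_mem_Loc hk).eq, mul_inv_cancel_right]

theorem exists_tr_via (S : Fi22Setup D) {y x x' : G} (hy : y ∈ D) (hx : x ∈ adj D y) (hx' : x' ∈ adj D y)
    (hne : x ≠ x') (hxx : Commute x x') : ∃ t ∈ Loc D y, t * x * t⁻¹ = x' := by
  obtain ⟨y', hy'⟩ : (adj D y ∩ adj D x ∩ adj D x').Nonempty := by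
    rw [← Set.ncard_pos (Set.toFinite _), orth_ncard S hy hx hx' hne hxx]
    norm_num
  obtain ⟨r, hr, -, h⟩ := exists_transport S hy hx hx' hy'.1.1 hxx hy'.1.2.2.2 hy'.2.2.2
    hy'.1.2.2.1.symm hy'.2.2.1.symm
  exact ⟨r, hr, h⟩

theorem exists_tr (S : Fi22Setup D) {x x' : G} (hx : x ∈ D) (hx' : x' ∈ adj D x) : ∃ g, Tr D x x' g := by
  obtain ⟨y, hy⟩ : (adj D x ∩ adj D x').Nonempty := by
    rw [← Set.ncard_pos (Set.toFinite _), common_ncard S hx hx']
    norm_num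
  obtain ⟨t, ht, h⟩ := exists_tr_via S hy.1.1 (adj_symm hx hy.1) (adj_symm hx'.1 hy.2) hx'.2.1.symm hx'.2.2
  exact ⟨t, h, y, hy, ht⟩

theorem tr_unique (S : Fi22Setup D) {x x' g g' : G} (hx : x ∈ D) (hx' : x' ∈ adj D x)
    (hg : Tr D x x' g) (hg' : Tr D x x' g') : g⁻¹ * g' ∈ Loc D x := by
  obtain ⟨hgx, y, hy, hgy⟩ := hg
  obtain ⟨hgx', y', hy', hgy'⟩ := hg'
  let P : G → Prop := fun z => ∀ h ∈ Loc D z, h * x * h⁻¹ = x' → g⁻¹ * h ∈ Loc D x
  have fix : ∀ {z h₁ h₂ : G}, z ∈ common D x x' → h₁ ∈ Loc D z → h₂ ∈ Loc D z → h₁ * x * h₁⁻¹ = x' →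
      h₂ * x * h₂⁻¹ = x' → h₁⁻¹ * h₂ ∈ Loc D x := by
    intro z h₁ h₂ hz m1 m2 e1 e2
    refine stab_edge S hz.1.1 (adj_symm hx hz.1) (mul_mem (inv_mem m1) m2) ?_
    show h₁⁻¹ * h₂ * x = x * (h₁⁻¹ * h₂)
    calc h₁⁻¹ * h₂ * x = h₁⁻¹ * (h₂ * x * h₂⁻¹) * h₂ := by group
      _ = h₁⁻¹ * (h₁ * x * h₁⁻¹) * h₂ := by rw [e1, e2]
      _ = x * (h₁⁻¹ * h₂) := by group
  have step : ∀ z₁ ∈ common D x x', ∀ z₂ ∈ common D x x', Commute z₁ z₂ → P z₁ → P z₂ := by
    intro z₁ h1 z₂ h2 hc hP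
    by_cases e : z₁ = z₂
    · exact e ▸ hP
    have hz1 := h1.1.1
    obtain ⟨r, hr, hrz, hre⟩ := exists_transport S hz1 (adj_symm hx h1.1) (adj_symm hx'.1 h1.2)
      (show z₂ ∈ adj D z₁ from ⟨h2.1.1, fun e' => e e'.symm, hc⟩) hx'.2.2 h2.1.2.2 h2.2.2.2
      h2.1.2.1.symm h2.2.2.1.symm
    intro h hh hhx
    have hr2 : r ∈ Loc D z₂ := stab_edge S hz1 ⟨h2.1.1, fun e' => e e'.symm, hc⟩ hr hrz
    have := mul_mem (hP r hr hre) (fix h2 hr2 hh hre hhx)
    rwa [show g⁻¹ * r * (r⁻¹ * h) = g⁻¹ * h by group] at this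
  have base : P y := fun h hh hhx => fix hy hgy hh hgx hhx
  have hy'P : P y' := by
    by_cases hc : Commute y y'
    · exact step y hy y' hy' hc base
    obtain ⟨z, hz, c1, c2⟩ := common_diameter S hx hx' hy hy' hc
    exact step z hz y' hy' c2 (step y hy z hz c1 base)
  exact hy'P g' hgy' hgx'

theorem step_conj_eq {x x' g : G} (h : Step D x x' g) : g * x * g⁻¹ = x' := by
  rcases h with ⟨rfl, hk⟩ | ⟨-, t, ht, k, hk, rfl⟩
  · exact conj_eq_self_of_loc hk
  · calc t * k * x * (t * k)⁻¹ = t * (k * x * k⁻¹) * t⁻¹ := by group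
      _ = x' := by rw [conj_eq_self_of_loc hk, ht.1]

theorem step_adj {x x' g : G} (h : Step D x x' g) : x' = x ∨ x' ∈ adj D x :=
  h.imp (fun h => h.1) (fun h => h.1)

theorem exists_step (S : Fi22Setup D) {x x' : G} (hx : x ∈ D) (hx' : x' ∈ D) (hc : Commute x x') :
    ∃ g, Step D x x' g := by
  by_cases e : x' = x
  · exact ⟨1, Or.inl ⟨e, one_mem _⟩⟩
  have ha : x' ∈ adj D x := ⟨hx', e, hc⟩
  obtain ⟨t, ht⟩ := exists_tr S hx ha
  exact ⟨t * 1, Or.inr ⟨ha, t, ht, 1, one_mem _, rfl⟩⟩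

theorem step_unique (S : Fi22Setup D) {x x' g g' : G} (hx : x ∈ D) (hg : Step D x x' g)
    (hg' : Step D x x' g') : g⁻¹ * g' ∈ Loc D x := by
  rcases hg with ⟨e, hk⟩ | ⟨ha, t, ht, k, hk, rfl⟩ <;>
    rcases hg' with ⟨e', hk'⟩ | ⟨ha', t', ht', k', hk', rfl⟩
  · exact mul_mem (inv_mem hk) hk'
  · exact absurd e ha'.2.1
  · exact absurd e' ha.2.1
  · rw [show (t * k)⁻¹ * (t' * k') = k⁻¹ * (t⁻¹ * t') * k' by group]
    exact mul_mem (mul_mem (inv_mem hk) (tr_unique S hx ha ht ht')) hk'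

theorem step_mul_right {x x' g k : G} (hg : Step D x x' g) (hk : k ∈ Loc D x) : Step D x x' (g * k) := by
  rcases hg with ⟨e, hk₀⟩ | ⟨ha, t, ht, k₀, hk₀, rfl⟩
  · exact Or.inl ⟨e, mul_mem hk₀ hk⟩
  · exact Or.inr ⟨ha, t, ht, k₀ * k, mul_mem hk₀ hk, mul_assoc _ _ _⟩

theorem step_mul_left (S : Fi22Setup D) {x x' g k : G} (hg : Step D x x' g) (hk : k ∈ Loc D x') :
    Step D x x' (k * g) := by
  rw [show k * g = g * (g⁻¹ * k * g) by group]
  exact step_mul_right hg (inv_conj_mem_loc S (step_conj_eq hg) hk)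

theorem step_symm (S : Fi22Setup D) {x x' g : G} (hx : x ∈ D) (hg : Step D x x' g) : Step D x' x g⁻¹ := by
  rcases hg with ⟨rfl, hk⟩ | ⟨ha, t, ⟨ht, y, hy, hty⟩, k, hk, rfl⟩
  · exact Or.inl ⟨rfl, inv_mem hk⟩
  rw [mul_inv_rev]
  refine step_mul_left S (Or.inr ⟨adj_symm hx ha, t⁻¹, ⟨?_, y, ⟨hy.2, hy.1⟩, inv_mem hty⟩, 1,
    one_mem _, (mul_one _).symm⟩) (inv_mem hk)
  rw [← ht]; group

theorem step_comp (S : Fi22Setup D) {x x' x'' g g' : G} (hx : x ∈ D) (hxx : Commute x x'')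
    (hg : Step D x x' g) (hg' : Step D x' x'' g') : Step D x x'' (g' * g) := by
  rcases step_adj hg with e1 | a1
  · subst e1
    have hk : g ∈ Loc D x' := hg.elim (fun h => h.2) fun h => absurd rfl h.1.2.1
    exact step_mul_right hg' hk
  rcases step_adj hg' with e2 | a2
  · subst e2
    have hk : g' ∈ Loc D x'' := hg'.elim (fun h => h.2) fun h => absurd rfl h.1.2.1
    exact step_mul_left S hg hk
  by_cases e3 : x'' = x
  · subst e3
    refine Or.inl ⟨rfl, ?_⟩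
    have := step_unique S hx (step_symm S a1.1 hg') hg
    rwa [inv_inv] at this
  obtain ⟨y, hy⟩ : (adj D x ∩ adj D x' ∩ adj D x'').Nonempty := by
    rw [← Set.ncard_pos (Set.toFinite _),
      orth_ncard S hx a1 ⟨a2.1, e3, hxx⟩ a2.2.1.symm a2.2.2]
    norm_num
  have hyD := hy.1.1.1
  obtain ⟨t1, m1, h1⟩ := exists_tr_via S hyD (adj_symm hx hy.1.1) (adj_symm a1.1 hy.1.2) a1.2.1.symm a1.2.2
  obtain ⟨t2, m2, h2⟩ := exists_tr_via S hyD (adj_symm a1.1 hy.1.2) (adj_symm a2.1 hy.2) a2.2.1.symm a2.2.2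
  have k1 := step_unique S hx (Or.inr ⟨a1, t1, ⟨h1, y, hy.1, m1⟩, 1, one_mem _, rfl⟩) hg
  have k2 := step_unique S a1.1 (Or.inr ⟨a2, t2, ⟨h2, y, ⟨hy.1.2, hy.2⟩, m2⟩, 1, one_mem _, rfl⟩) hg'
  refine Or.inr ⟨⟨a2.1, e3, hxx⟩, t2 * t1, ⟨?_, y, ⟨hy.1.1, hy.2⟩, mul_mem m2 m1⟩,
    (t1⁻¹ * ((t2 * 1)⁻¹ * g') * t1) * ((t1 * 1)⁻¹ * g), mul_mem (inv_conj_mem_loc S h1 k2) k1, by group⟩
  rw [← h2, ← h1]; group

theorem step_conj (S : Fi22Setup D) {x x' g : G} (h : G) (hg : Step D x x' g) :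
    Step D (h * x * h⁻¹) (h * x' * h⁻¹) (h * g * h⁻¹) := by
  rcases hg with ⟨rfl, hk⟩ | ⟨ha, t, ⟨ht, y, hy, hty⟩, k, hk, rfl⟩
  · exact Or.inl ⟨rfl, conj_mem_loc S rfl hk⟩
  refine Or.inr ⟨(conj_adj S.grp.2.1 h x (h * x' * h⁻¹)).2 (by simpa [mul_assoc] using ha), h * t * h⁻¹,
    ⟨by rw [← ht]; group, h * y * h⁻¹,
      ⟨(conj_adj S.grp.2.1 h x (h * y * h⁻¹)).2 (by simpa [mul_assoc] using hy.1),
        (conj_adj S.grp.2.1 h x' (h * y * h⁻¹)).2 (by simpa [mul_assoc] using hy.2)⟩,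
      conj_mem_loc S rfl hty⟩, h * k * h⁻¹, conj_mem_loc S rfl hk, by group⟩

/-- A transport from the base member `a` to `x`. -/
def Good (D : Set G) (a x g : G) : Prop :=
  ∃ b ∈ D, Commute a b ∧ Commute b x ∧ ∃ g1 g2, Step D a b g1 ∧ Step D b x g2 ∧ g = g2 * g1

theorem good_of_step {a x g : G} (hx : x ∈ D) (hc : Commute a x) (hg : Step D a x g) : Good D a x g :=
  ⟨x, hx, hc, Commute.refl x, g, 1, hg, Or.inl ⟨rfl, one_mem _⟩, (one_mul g).symm⟩

theorem step_of_good (S : Fi22Setup D) {a x g : G} (ha : a ∈ D) (hc : Commute a x) (hg : Good D a x g) :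
    Step D a x g := by
  obtain ⟨b, -, -, -, g1, g2, h1, h2, rfl⟩ := hg
  exact step_comp S ha hc h1 h2

theorem good_repr (S : Fi22Setup D) {a x g : G} (ha : a ∈ D) (hx : x ∈ D) (hg : Good D a x g) {b : G}
    (hb : b ∈ D) (hab : Commute a b) (hbx : Commute b x) :
    ∃ g1 g2, Step D a b g1 ∧ Step D b x g2 ∧ g = g2 * g1 := by
  by_cases hc : Commute a x
  · obtain ⟨g2, h2⟩ := exists_step S hb hx hbx
    exact ⟨g2⁻¹ * g, g2, step_comp S ha hab (step_of_good S ha hc hg) (step_symm S hb h2), h2,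
      (mul_inv_cancel_left g2 g).symm⟩
  obtain ⟨b₀, hb₀, c1, c2, rep⟩ := hg
  have mem : ∀ {z}, z ∈ D → Commute a z → Commute z x → z ∈ common D a x := fun hz h1 h2 =>
    ⟨adj_of_not_commute hc hz h1.symm h2, adj_of_not_commute (fun h => hc h.symm) hz h2 h1.symm⟩
  refine common_connected S ha hx hc
    (P := fun z => ∃ g1 g2, Step D a z g1 ∧ Step D z x g2 ∧ g = g2 * g1) ?_ (mem hb₀ c1 c2) rep b
    (mem hb hab hbx)
  intro z hz z' hz' hzz ⟨g1, g2, h1, h2, e⟩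
  obtain ⟨h, hh⟩ := exists_step S hz.1.1 hz'.1.1 hzz
  exact ⟨h * g1, g2 * h⁻¹, step_comp S ha hz'.1.2.2 h1 hh,
    step_comp S hz'.1.1 hz'.2.2.2.symm (step_symm S hz.1.1 hh) h2, by rw [e]; group⟩

theorem good_step (S : Fi22Setup D) {a x x' g s : G} (ha : a ∈ D) (hx : x ∈ D) (hx' : x' ∈ D)
    (hc : Commute x x') (hs : Step D x x' s) (hg : Good D a x g) : Good D a x' (s * g) := by
  obtain ⟨b, hb, hab, hbx, hbx'⟩ : ∃ b ∈ D, Commute a b ∧ Commute b x ∧ Commute b x' := by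
    by_cases c1 : Commute a x
    · exact ⟨x, hx, c1, Commute.refl x, hc⟩
    by_cases c2 : Commute a x'
    · exact ⟨x', hx', c2, hc.symm, Commute.refl x'⟩
    by_cases e : x' = x
    · obtain ⟨b, hb⟩ := common_nonempty S ha hx c1
      exact ⟨b, hb.1.1, hb.1.2.2, hb.2.2.2.symm, e ▸ hb.2.2.2.symm⟩
    obtain ⟨b, hb, hbx'⟩ := exists_common_commute S hx ha (fun h => c1 h.symm) (p := x') ⟨hx', e, hc⟩
    exact ⟨b, hb.1.1, hb.2.2.2, hb.1.2.2.symm, hbx'⟩
  obtain ⟨g1, g2, h1, h2, rfl⟩ := good_repr S ha hx hg hb hab hbx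
  exact ⟨b, hb, hab, hbx', g1, s * g2, h1, step_comp S hb hbx' h2 hs, (mul_assoc _ _ _).symm⟩

theorem good_gen (S : Fi22Setup D) {a d : G} (ha : a ∈ D) (hd : d ∈ D) : Good D a (d * a * d⁻¹) d := by
  have hD := S.cls.1
  by_cases hc : Commute d a
  · rw [hc.eq, mul_inv_cancel_right]
    refine good_of_step ha (Commute.refl a) (Or.inl ⟨rfl, ?_⟩)
    by_cases e : d = a
    · rw [e]; exact mem_loc_self S ha
    · exact Subgroup.subset_closure ⟨hd, e, hc.symm⟩
  obtain ⟨y, hy⟩ := common_nonempty S ha hd fun h => hc h.symm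
  have hay := adj_symm ha hy.1
  have hdy := adj_symm hd hy.2
  have hyD := hy.1.1
  have he : d * a * d⁻¹ ∈ adj D y := by
    have := conj_mem_adj_loc S (⟨d, Subgroup.subset_closure hdy⟩ : ↥(Loc D y)) hay
    exact this
  set e := d * a * d⁻¹ with hedef
  have hae : ¬ Commute a e := by
    rw [hedef, inv_eq hD hd]
    intro h
    have b2 := braid hD hd ha hc
    rw [b2] at h
    refine hc (Commute.symm ?_)
    have h1 : Commute a (a * d * a) := h
    have h2 := h1.eq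
    simp only [mul_assoc, mul_self_cancel hD ha, mul_self hD ha, mul_one] at h2
    exact h2.symm
  obtain ⟨b, hb⟩ : (adj D y ∩ adj D a ∩ adj D e).Nonempty := by
    rw [← Set.ncard_pos (Set.toFinite _), hyp_ncard S hyD hay he hae]
    norm_num
  have hbe : e ∈ adj D b := adj_symm he.1 hb.2
  obtain ⟨t1, m1, e1⟩ := exists_tr_via S hyD hay hb.1.1 hb.1.2.2.1.symm hb.1.2.2.2
  obtain ⟨t2, m2, e2⟩ := exists_tr_via S hyD hb.1.1 he hb.2.2.1 hb.2.2.2.symm
  have hk : (t2 * t1)⁻¹ * d ∈ Loc D a := by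
    refine stab_edge S hyD hay (mul_mem (inv_mem (mul_mem m2 m1)) (Subgroup.subset_closure hdy)) ?_
    show (t2 * t1)⁻¹ * d * a = a * ((t2 * t1)⁻¹ * d)
    have e3 : t2 * t1 * a * (t2 * t1)⁻¹ = e := by rw [← e2, ← e1]; group
    calc (t2 * t1)⁻¹ * d * a = (t2 * t1)⁻¹ * e * d := by rw [hedef]; group
      _ = a * ((t2 * t1)⁻¹ * d) := by rw [← e3]; group
  exact ⟨b, hb.1.1.1, hb.1.2.2.2, hbe.2.2, t1 * ((t2 * t1)⁻¹ * d), t2,
    Or.inr ⟨hb.1.2, t1, ⟨e1, y, ⟨hy.1, adj_symm hyD hb.1.1⟩, m1⟩, _, hk, rfl⟩,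
    Or.inr ⟨hbe, t2, ⟨e2, y, ⟨adj_symm hyD hb.1.1, adj_symm hyD he⟩, m2⟩, 1, one_mem _, (mul_one _).symm⟩,
    by group⟩

theorem good_mul (S : Fi22Setup D) {a x g d : G} (ha : a ∈ D) (hx : x ∈ D) (hd : d ∈ D)
    (hg : Good D a x g) : Good D a (d * x * d⁻¹) (d * g) := by
  obtain ⟨b, hb, hab, hbx, g1, g2, h1, h2, rfl⟩ := hg
  have c1 : Commute (d * a * d⁻¹) (d * b * d⁻¹) := hab.map (MulAut.conj d).toMonoidHom
  have c2 : Commute (d * b * d⁻¹) (d * x * d⁻¹) := hbx.map (MulAut.conj d).toMonoidHom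
  have s1 := good_step S ha (S.conj_mem d ha) (S.conj_mem d hb) c1 (step_conj S d h1) (good_gen S ha hd)
  have s2 := good_step S ha (S.conj_mem d hb) (S.conj_mem d hx) c2 (step_conj S d h2) s1
  rwa [show d * g2 * d⁻¹ * (d * g1 * d⁻¹ * d) = d * (g2 * g1) by group] at s2

/-- The centraliser of a member is generated by its neighbours. -/
theorem centralizer_eq_loc (S : Fi22Setup D) {a : G} (ha : a ∈ D) :
    Subgroup.centralizer ({a} : Set G) = Loc D a := by
  refine le_antisymm (fun g hg => ?_) fun g hg => ?_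
  · have all : ∀ h, Good D a (h * a * h⁻¹) h := by
      intro h
      have hh : h ∈ Submonoid.closure D := by
        have : h ∈ (Subgroup.closure D).toSubmonoid := by rw [S.cls.2.2]; trivial
        rw [Subgroup.closure_toSubmonoid_of_finite] at this
        exact this
      induction hh using Submonoid.closure_induction_left with
      | one => simpa using good_of_step ha (Commute.refl a) (Or.inl ⟨rfl, one_mem (Loc D a)⟩)
      | mul_left d hd h' _ ih =>
        have := good_mul S ha (S.conj_mem h' ha) hd ih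
        rwa [show d * (h' * a * h'⁻¹) * d⁻¹ = d * h' * a * (d * h')⁻¹ by group] at this
    have h1 := all g
    rw [show g * a * g⁻¹ = a by
      rw [Subgroup.mem_centralizer_singleton_iff.1 hg, mul_inv_cancel_right]] at h1
    exact (step_of_good S ha (Commute.refl a) h1).elim (fun h => h.2) fun h => absurd rfl h.1.2.1
  · exact Subgroup.mem_centralizer_singleton_iff.2 (commute_of_mem_Loc hg)

end Cfsg.Agent.FischerM22
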