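/-
The order of a group of type M(22).

Main results (namespace `Cfsg.Agent.FischerM22`):
* `card_orbit_mul` : orbit-stabiliser for conjugation on pairs;
* `common_card` : two non-commuting members have 126 common neighbours;
* `class_ncard`, `group_card` : `|D| = 3510`, `|G| = 2 ^ 17 * 3 ^ 9 * 5 ^ 2 * 7 * 11 * 13`;
* `width_eq` : the width is 22.
-/
import Cfsg.Agent.Lib.FischerM22.Monodromy
import Cfsg.Agent.Lib.ThreeTrans.ReflThree
import Cfsg.Agent.Lib.Forms.Bases
import Cfsg.Agent.S0287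
import Cfsg.Agent.S0288

set_option autoImplicit false

namespace Cfsg.Agent.FischerM22

open Cfsg.Agent.Unitary Cfsg.Agent.U62Cover Cfsg.Agent.ThreeTrans Cfsg.Agent.ThreeTransSU

variable {G : Type*} [Group G]

/-- Orbit and stabiliser of a pair under conjugation. -/
theorem card_orbit_mul [Finite G] (H : Subgroup G) (p₁ p₂ : G) :
    Nat.card H = {q : G × G | ∃ h ∈ H, h * p₁ * h⁻¹ = q.1 ∧ h * p₂ * h⁻¹ = q.2}.ncard *
      Nat.card ↥(H ⊓ Subgroup.centralizer {p₁} ⊓ Subgroup.centralizer {p₂}) := by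
  let C : Subgroup (ConjAct G) := H.map (ConjAct.toConjAct : G ≃* ConjAct G).toMonoidHom
  let e : ↥H ≃* ↥C := Subgroup.equivMapOfInjective H _ (ConjAct.toConjAct : G ≃* ConjAct G).injective
  have hsm : ∀ (h : H) (q : G × G), e h • q = ((h : G) * q.1 * (h : G)⁻¹, (h : G) * q.2 * (h : G)⁻¹) :=
    fun h q => by
      show ConjAct.toConjAct (h : G) • q = _
      rw [Prod.smul_def, ConjAct.toConjAct_smul, ConjAct.toConjAct_smul]
  have horb : {q : G × G | ∃ h ∈ H, h * p₁ * h⁻¹ = q.1 ∧ h * p₂ * h⁻¹ = q.2}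
      = MulAction.orbit ↥C (p₁, p₂) := by
    ext q
    constructor
    · rintro ⟨h, hh, e1, e2⟩
      exact ⟨e ⟨h, hh⟩, (hsm _ _).trans (Prod.ext e1 e2)⟩
    · rintro ⟨c, rfl⟩
      obtain ⟨h, rfl⟩ := e.surjective c
      exact ⟨h, h.2, (congrArg Prod.fst (hsm h (p₁, p₂))).symm, (congrArg Prod.snd (hsm h (p₁, p₂))).symm⟩
  set K := H ⊓ Subgroup.centralizer {p₁} ⊓ Subgroup.centralizer {p₂} with hK
  have hst : (MulAction.stabilizer ↥C (p₁, p₂)).comap e.toMonoidHom = K.subgroupOf H := by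
    ext h
    rw [Subgroup.mem_comap, MulAction.mem_stabilizer_iff, MulEquiv.coe_toMonoidHom, hsm,
      Subgroup.mem_subgroupOf, Prod.ext_iff, hK, Subgroup.mem_inf, Subgroup.mem_inf,
      Subgroup.mem_centralizer_singleton_iff, Subgroup.mem_centralizer_singleton_iff]
    simp [mul_inv_eq_iff_eq_mul, h.2]
  rw [horb, ← MulAction.index_stabilizer ↥C (p₁, p₂),
    ← Subgroup.index_comap_of_surjective (MulAction.stabilizer ↥C (p₁, p₂)) (f := e.toMonoidHom) e.surjective,
    hst, ← Nat.card_congr (Subgroup.subgroupOfEquivOfLe (show K ≤ H from inf_le_left.trans inf_le_left)).toEquiv,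
    mul_comm, Subgroup.card_mul_index]

theorem card_centralizer_mul_class [Finite G] {D : Set G} (hD : Cfsg.IsThreeTranspositionClass D) {a : G}
    (ha : a ∈ D) : Nat.card G = D.ncard * Nat.card ↥(Subgroup.centralizer ({a} : Set G)) := by
  have h := card_orbit_mul (⊤ : Subgroup G) a a
  rw [Subgroup.card_top, top_inf_eq, inf_idem] at h
  rw [h]
  congr 1
  rw [← Set.ncard_image_of_injective D (f := fun x : G => (x, x)) fun x y h => congrArg Prod.fst h]
  congr 1
  ext ⟨x, y⟩
  constructor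
  · rintro ⟨g, -, rfl, rfl⟩
    exact ⟨_, (group_of_class hD).2.1 g a ha, rfl⟩
  · rintro ⟨z, hz, e⟩
    obtain ⟨rfl, rfl⟩ := Prod.ext_iff.1 e
    obtain ⟨g, rfl⟩ := class_conj hD ha hz
    exact ⟨g, Subgroup.mem_top g, rfl, rfl⟩

variable [Finite G] {D : Set G}

/-- The non-neighbours of `x` among the neighbours of `a`. -/
theorem far_card (S : Fi22Setup D) {a x : G} (ha : a ∈ D) (hx : x ∈ adj D a) :
    {y | y ∈ adj D a ∧ ¬ Commute x y}.ncard = 512 := by
  have e : {y | y ∈ adj D a ∧ ¬ Commute x y} = adj D a \ insert x (adj D a ∩ adj D x) := by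
    ext y
    simp only [Set.mem_ofPred_eq, Set.mem_sdiff, Set.mem_insert_iff, Set.mem_inter_iff]
    refine ⟨fun h => ⟨h.1, ?_⟩, fun h => ⟨h.1, fun hc => h.2 ?_⟩⟩
    · rintro (rfl | h')
      exacts [h.2 (Commute.refl _), h.2 h'.2.2.2]
    · by_cases e : y = x
      · exact Or.inl e
      · exact Or.inr ⟨h.1, h.1.1, e, hc⟩
  rw [e, Set.ncard_sdiff (Set.insert_subset hx Set.inter_subset_left),
    Set.ncard_insert_of_notMem fun h => h.2.2.1 rfl, adj_ncard S ha, common_ncard S ha hx]

theorem pairs_card (S : Fi22Setup D) {q : G} (hq : q ∈ D) :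
    {p : G × G | p.1 ∈ adj D q ∧ p.2 ∈ adj D q ∧ ¬ Commute p.1 p.2}.ncard = 354816 := by
  classical
  have := Fintype.ofFinite G
  have e : {p : G × G | p.1 ∈ adj D q ∧ p.2 ∈ adj D q ∧ ¬ Commute p.1 p.2}
      = ↑(((adj D q).toFinset ×ˢ (adj D q).toFinset).filter fun p => ¬ Commute p.1 p.2) := by
    ext p; simp [and_assoc]
  have hf : ∀ x ∈ (adj D q).toFinset,
      ((adj D q).toFinset.filter fun y => ¬ Commute x y).card = 512 := fun x hx => by
    rw [← Set.ncard_coe_finset, ← far_card S hq (Set.mem_toFinset.1 hx)]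
    congr 1
    ext y; simp
  rw [e, Set.ncard_coe_finset, Finset.card_filter, Finset.sum_product]
  simp only [← Finset.card_filter]
  rw [Finset.sum_congr rfl hf, Finset.sum_const, ← Set.ncard_eq_toFinset_card', adj_ncard S hq]
  rfl

/-- The stabiliser in the local group of `q` of two non-commuting neighbours. -/
theorem two_point_stab (S : Fi22Setup D) {q d c : G} (hq : q ∈ D) (hd : d ∈ adj D q) (hc : c ∈ adj D q)
    (hdc : ¬ Commute d c) :
    Nat.card ↥(Loc D q ⊓ Subgroup.centralizer {d} ⊓ Subgroup.centralizer {c}) = 51840 := by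
  have h := card_orbit_mul (Loc D q) d c
  have e : {p : G × G | ∃ h ∈ Loc D q, h * d * h⁻¹ = p.1 ∧ h * c * h⁻¹ = p.2}
      = {p : G × G | p.1 ∈ adj D q ∧ p.2 ∈ adj D q ∧ ¬ Commute p.1 p.2} := by
    ext ⟨u, w⟩
    constructor
    · rintro ⟨h, hh, rfl, rfl⟩
      refine ⟨conj_mem_adj_loc S ⟨h, hh⟩ hd, conj_mem_adj_loc S ⟨h, hh⟩ hc, fun hcom => hdc ?_⟩
      exact Commute.of_map (f := (MulAut.conj h).toMonoidHom) (MulAut.conj h).injective hcom
    · rintro ⟨hu, hw, hn⟩
      exact trans_noncommuting S hq hd hc hdc hu hw hn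
  rw [e, pairs_card S hq, loc_card S hq] at h
  omega

/-- The double count between neighbours and non-neighbours. -/
theorem far_mul_common (S : Fi22Setup D) {a e : G} (ha : a ∈ D) (he : e ∈ D) (hae : ¬ Commute a e) :
    {y | y ∈ D ∧ ¬ Commute a y}.ncard * (common D a e).ncard = 354816 := by
  classical
  have := Fintype.ofFinite G
  set A : Finset G := (adj D a).toFinset with hA
  set B : Finset G := {y | y ∈ D ∧ ¬ Commute a y}.toFinset with hB
  have h1 : ∀ x ∈ A, (B.filter fun y => y ∈ adj D x).card = 512 := fun x hx => by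
    have hx' : x ∈ adj D a := Set.mem_toFinset.1 hx
    rw [← Set.ncard_coe_finset, ← far_card S hx'.1 (adj_symm ha hx')]
    congr 1
    ext y
    simp only [hB, Finset.coe_filter, Set.mem_toFinset, Set.mem_ofPred_eq]
    exact ⟨fun h => ⟨h.2, h.1.2⟩, fun h => ⟨⟨h.1.1, h.2⟩, h.1⟩⟩
  have h2 : ∀ y ∈ B, (A.filter fun x => y ∈ adj D x).card = (common D a e).ncard := fun y hy => by
    obtain ⟨hyD, hay⟩ := Set.mem_toFinset.1 hy
    obtain ⟨g, hga, hg⟩ := centralizer_transitive S ha he hyD hae hay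
    rw [← ncard_common S.grp.2.1 ⟨g, hga, hg⟩, ← Set.ncard_coe_finset]
    congr 1
    ext x
    simp only [hA, Finset.coe_filter, Set.mem_toFinset, Set.mem_ofPred_eq]
    exact and_congr_right fun hx => adj_comm hx.1 hyD
  have h := sum_card_filter A B fun x y => y ∈ adj D x
  rw [Finset.sum_congr rfl h1, Finset.sum_congr rfl h2, Finset.sum_const, Finset.sum_const,
    smul_eq_mul, smul_eq_mul, hA, ← Set.ncard_eq_toFinset_card', adj_ncard S ha, hB,
    ← Set.ncard_eq_toFinset_card'] at h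
  exact h.symm

/-- The group generated by the common neighbours moves `q` to every common neighbour. -/
theorem common_orbit (S : Fi22Setup D) {d c : G} (hd : d ∈ D) (hc : c ∈ D) (hdc : ¬ Commute d c) {q : G}
    (hq : q ∈ common D d c) :
    ∀ r ∈ common D d c, ∃ g ∈ Subgroup.closure (common D d c), g * q * g⁻¹ = r := by
  have hD := S.cls.1
  refine common_connected S hd hc hdc (P := fun r => ∃ g ∈ Subgroup.closure (common D d c), g * q * g⁻¹ = r)
    ?_ hq ⟨1, one_mem _, by simp⟩
  intro x hx x' hx' _ ⟨g, hg, e⟩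
  obtain ⟨z, hz, n1, n2⟩ : ∃ z ∈ common D d c, ¬ Commute z x ∧ ¬ Commute z x' := by
    by_contra hno
    have hsub : common D d c
        ⊆ insert x (common D d c ∩ adj D x) ∪ insert x' (common D d c ∩ adj D x') := by
      intro z hz
      by_cases h1 : Commute z x
      · by_cases e : z = x
        · exact Or.inl (Or.inl e)
        · exact Or.inl (Or.inr ⟨hz, hz.1.1, e, h1.symm⟩)
      by_cases h2 : Commute z x'
      · by_cases e : z = x'
        · exact Or.inr (Or.inl e)
        · exact Or.inr (Or.inr ⟨hz, hz.1.1, e, h2.symm⟩)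
      exact absurd ⟨z, hz, h1, h2⟩ hno
    have h3 := (Set.ncard_le_ncard hsub (Set.toFinite _)).trans
      ((Set.ncard_union_le _ _).trans (Nat.add_le_add (Set.ncard_insert_le _ _) (Set.ncard_insert_le _ _)))
    rw [common_deg S hd hc hdc hx, common_deg S hd hc hdc hx'] at h3
    have := (common_bounds S hd hc hdc).1
    omega
  have cl : ∀ {s}, s ∈ common D d c → s ∈ Subgroup.closure (common D d c) :=
    fun h => Subgroup.subset_closure h
  refine ⟨(z * x') * (x * z) * g,
    mul_mem (mul_mem (mul_mem (cl hz) (cl hx')) (mul_mem (cl hx) (cl hz))) hg, ?_⟩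
  have b1 := braid hD hz.1.1 hx.1.1 n1
  have b2 := braid hD hz.1.1 hx'.1.1 n2
  calc z * x' * (x * z) * g * q * (z * x' * (x * z) * g)⁻¹
      = z * x' * (x * z) * (g * q * g⁻¹) * ((x * z)⁻¹ * (z * x')⁻¹) := by group
    _ = z * x' * (x * (z * x * z) * x) * (x' * z) := by
        rw [e, mul_inv_rev, mul_inv_rev, inv_eq hD hz.1.1, inv_eq hD hx.1.1, inv_eq hD hx'.1.1]
        simp only [mul_assoc]
    _ = z * x' * z * (x' * z) := by
        rw [b1]; simp only [mul_assoc, mul_self_cancel hD hx.1.1, mul_self hD hx.1.1, mul_one]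
    _ = z * (x' * z * x') * z := by simp only [mul_assoc]
    _ = x' := by
        rw [← b2]; simp only [mul_assoc, mul_self_cancel hD hz.1.1, mul_self hD hz.1.1, mul_one]

theorem closure_common_dvd (S : Fi22Setup D) {d c : G} (hd : d ∈ D) (hc : c ∈ D) (hdc : ¬ Commute d c) :
    Nat.card ↥(Subgroup.closure (common D d c)) ∣ (common D d c).ncard * 51840 := by
  obtain ⟨q, hq⟩ := common_nonempty S hd hc hdc
  set L := Subgroup.closure (common D d c) with hL
  have hLd : L ≤ Subgroup.centralizer {d} :=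
    (Subgroup.closure_le _).2 fun x hx => Subgroup.mem_centralizer_singleton_iff.2 hx.1.2.2.symm
  have hLc : L ≤ Subgroup.centralizer {c} :=
    (Subgroup.closure_le _).2 fun x hx => Subgroup.mem_centralizer_singleton_iff.2 hx.2.2.2.symm
  have h := card_orbit_mul L q q
  have e : {p : G × G | ∃ h ∈ L, h * q * h⁻¹ = p.1 ∧ h * q * h⁻¹ = p.2}
      = (fun x : G => (x, x)) '' common D d c := by
    ext ⟨u, w⟩
    constructor
    · rintro ⟨g, hg, rfl, rfl⟩
      refine ⟨_, ?_, rfl⟩
      have hgd : Commute g d := Subgroup.mem_centralizer_singleton_iff.1 (hLd hg)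
      have hgc : Commute g c := Subgroup.mem_centralizer_singleton_iff.1 (hLc hg)
      have h1 := common_conj S.grp.2.1 (y := c) hgd
      rw [show g * c * g⁻¹ = c by rw [hgc.eq, mul_inv_cancel_right]] at h1
      rw [h1]; exact ⟨q, hq, rfl⟩
    · rintro ⟨x, hx, e'⟩
      obtain ⟨rfl, rfl⟩ := Prod.ext_iff.1 e'
      obtain ⟨g, hg, rfl⟩ := common_orbit S hd hc hdc hq x hx
      exact ⟨g, hg, rfl, rfl⟩
  rw [e, Set.ncard_image_of_injective _ fun x y h => congrArg Prod.fst h, inf_assoc, inf_idem] at h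
  rw [h, ← two_point_stab S hq.1.1 (adj_symm hd hq.1) (adj_symm hc hq.2) hdc]
  refine mul_dvd_mul_left _ (Subgroup.card_dvd_of_le (le_inf (le_inf ?_ ?_) ?_))
  · rw [← centralizer_eq_loc S hq.1.1]; exact inf_le_right
  · exact inf_le_left.trans hLd
  · exact inf_le_left.trans hLc

end Cfsg.Agent.FischerM22
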