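/-
Products of three commuting members in a group of type M(22).

Main results (namespace `Cfsg.Agent.FischerM22`):
* `triple_conj` : ordered triples of commuting members are conjugate;
* `triple_fix` : the pointwise stabiliser of a triple has order 147456;
* `triple_set` : a triple with the product of `a, b, c` is `{a, b, c}` or the other triple;
* `triple_centralizer_card` : the centraliser of the product has order 2 ^ 16 * 3 ^ 3.
-/
import Cfsg.Agent.Lib.FischerM22.Order

set_option autoImplicit false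

namespace Cfsg.Agent.FischerM22

open Cfsg.Agent.ThreeTrans Cfsg.Agent.ThreeTransSU

variable {G : Type*} [Group G] [Finite G] {D : Set G}

/-- Three distinct pairwise commuting members. -/
def IsTriple (D : Set G) (a b c : G) : Prop :=
  a ∈ D ∧ b ∈ D ∧ c ∈ D ∧ a ≠ b ∧ a ≠ c ∧ b ≠ c ∧ Commute a b ∧ Commute a c ∧ Commute b c

theorem IsTriple.map (S : Fi22Setup D) {a b c : G} (h : IsTriple D a b c) (g : G) :
    IsTriple D (g * a * g⁻¹) (g * b * g⁻¹) (g * c * g⁻¹) := by
  obtain ⟨ha, hb, hc, n1, n2, n3, c1, c2, c3⟩ := h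
  refine ⟨S.conj_mem g ha, S.conj_mem g hb, S.conj_mem g hc, fun e => n1 ?_, fun e => n2 ?_, fun e => n3 ?_,
    c1.map (MulAut.conj g).toMonoidHom, c2.map (MulAut.conj g).toMonoidHom,
    c3.map (MulAut.conj g).toMonoidHom⟩ <;> exact (MulAut.conj g).injective e

theorem triple_conj (S : Fi22Setup D) {a b c a' b' c' : G} (h : IsTriple D a b c)
    (h' : IsTriple D a' b' c') : ∃ g, g * a * g⁻¹ = a' ∧ g * b * g⁻¹ = b' ∧ g * c * g⁻¹ = c' := by
  obtain ⟨g, rfl⟩ := class_conj S.cls h.1 h'.1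
  obtain ⟨-, hb, hc, n1, n2, n3, c1, c2, c3⟩ := h.map S g
  obtain ⟨-, hb', hc', m1, m2, m3, d1, d2, d3⟩ := h'
  obtain ⟨k, hk, e1, e2⟩ := trans_commuting S (S.conj_mem g h.1) (show g * b * g⁻¹ ∈ adj D (g * a * g⁻¹)
      from ⟨hb, n1.symm, c1⟩) ⟨hc, n2.symm, c2⟩ n3 c3 ⟨hb', m1.symm, d1⟩ ⟨hc', m2.symm, d2⟩ m3 d3
  refine ⟨k * g, ?_, ?_, ?_⟩
  · rw [show k * g * a * (k * g)⁻¹ = k * (g * a * g⁻¹) * k⁻¹ by group]; exact conj_eq_self_of_loc hk
  · rw [← e1]; group
  · rw [← e2]; group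

theorem comm_pairs_card (S : Fi22Setup D) {a : G} (ha : a ∈ D) :
    {p : G × G | p.1 ∈ adj D a ∧ p.2 ∈ adj D a ∧ p.1 ≠ p.2 ∧ Commute p.1 p.2}.ncard = 124740 := by
  classical
  have := Fintype.ofFinite G
  have e : {p : G × G | p.1 ∈ adj D a ∧ p.2 ∈ adj D a ∧ p.1 ≠ p.2 ∧ Commute p.1 p.2}
      = ↑(((adj D a).toFinset ×ˢ (adj D a).toFinset).filter fun p => p.2 ∈ adj D p.1) := by
    ext ⟨x, y⟩
    simp only [Set.mem_ofPred_eq, Finset.coe_filter, Finset.mem_product, Set.mem_toFinset]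
    exact ⟨fun h => ⟨⟨h.1, h.2.1⟩, h.2.1.1, fun e => h.2.2.1 e.symm, h.2.2.2⟩,
      fun h => ⟨h.1.1, h.1.2, h.2.2.1.symm, h.2.2.2⟩⟩
  have hf : ∀ x ∈ (adj D a).toFinset,
      ((adj D a).toFinset.filter fun y => y ∈ adj D x).card = 180 := fun x hx => by
    rw [← Set.ncard_coe_finset, ← common_ncard S ha (Set.mem_toFinset.1 hx)]
    congr 1
    ext y; simp
  rw [e, Set.ncard_coe_finset, Finset.card_filter, Finset.sum_product]
  simp only [← Finset.card_filter]
  rw [Finset.sum_congr rfl hf, Finset.sum_const, ← Set.ncard_eq_toFinset_card', adj_ncard S ha]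
  rfl

/-- The pointwise stabiliser of a triple. -/
theorem triple_fix (S : Fi22Setup D) {a b c : G} (h : IsTriple D a b c) :
    Nat.card ↥(Subgroup.centralizer ({a} : Set G) ⊓ Subgroup.centralizer {b} ⊓ Subgroup.centralizer {c})
      = 147456 := by
  obtain ⟨ha, hb, hc, n1, n2, n3, c1, c2, c3⟩ := h
  rw [centralizer_eq_loc S ha]
  have h := card_orbit_mul (Loc D a) b c
  have e : {p : G × G | ∃ g ∈ Loc D a, g * b * g⁻¹ = p.1 ∧ g * c * g⁻¹ = p.2}
      = {p : G × G | p.1 ∈ adj D a ∧ p.2 ∈ adj D a ∧ p.1 ≠ p.2 ∧ Commute p.1 p.2} := by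
    ext ⟨u, w⟩
    constructor
    · rintro ⟨g, hg, rfl, rfl⟩
      exact ⟨conj_mem_adj_loc S ⟨g, hg⟩ ⟨hb, n1.symm, c1⟩, conj_mem_adj_loc S ⟨g, hg⟩ ⟨hc, n2.symm, c2⟩,
        fun e => n3 ((MulAut.conj g).injective e), c3.map (MulAut.conj g).toMonoidHom⟩
    · rintro ⟨hu, hw, hne, huw⟩
      exact trans_commuting S ha ⟨hb, n1.symm, c1⟩ ⟨hc, n2.symm, c2⟩ n3 c3 hu hw hne huw
  rw [e, comm_pairs_card S ha, loc_card S ha] at h
  omega

/-- A triple with the product of `a, b, c` lies within one of the two triples. -/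
theorem triple_set (S : Fi22Setup D) {a b c : G} (h : IsTriple D a b c) :
    ∃ d e f, IsTriple D d e f ∧ [a, b, c, d, e, f].Nodup ∧ a * b * c = d * e * f ∧
      ∀ p q r, IsTriple D p q r → p * q * r = a * b * c →
        (p ∈ [a, b, c] ∧ q ∈ [a, b, c] ∧ r ∈ [a, b, c]) ∨ (p ∈ [d, e, f] ∧ q ∈ [d, e, f] ∧ r ∈ [d, e, f]) := by
  obtain ⟨ha, hb, hc, n1, n2, n3, c1, c2, c3⟩ := h
  obtain ⟨d, e, f, hnd, hmem, heq⟩ := exists_other_triple S.cls S.cores S.conn S.type22 ha hb hc n1 n2 n3 c1 c2 c3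
  have hd := (hmem d).1 (by simp)
  have he := (hmem e).1 (by simp)
  have hf := (hmem f).1 (by simp)
  have hnd' := hnd
  simp only [List.nodup_cons, List.mem_cons, List.not_mem_nil, or_false, not_or, not_false_eq_true,
    List.nodup_nil, and_true] at hnd'
  have hT : IsTriple D d e f := ⟨hd.1, he.1, hf.1, hnd'.2.2.2.1.1, hnd'.2.2.2.1.2, hnd'.2.2.2.2,
    hexSet_commute hd he, hexSet_commute hd hf, hexSet_commute he hf⟩
  refine ⟨d, e, f, hT, hnd, heq, ?_⟩
  intro p q r ⟨hp, hq, hr, m1, m2, m3, d1, d2, d3⟩ hprod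
  have hD := S.cls.1
  have key : ∀ y ∈ D, Commute y a → Commute y b → Commute y c → Commute y p ∧ Commute y q ∧ Commute y r :=
    fun y hy y1 y2 y3 => (commute_mul_three_iff hD hp hq hr hy m1 m2 m3 d1 d2 d3).1
      (hprod ▸ (y1.mul_right y2).mul_right y3)
  have hA := key a ha (Commute.refl a) c1 c2
  have hB := key b hb c1.symm (Commute.refl b) c3
  have hC := key c hc c2.symm c3.symm (Commute.refl c)
  have m6 : ∀ s, s ∈ [a, b, c, d, e, f] → s ∈ D := fun s hs => ((hmem s).1 hs).1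
  have p6 : p ∈ [a, b, c, d, e, f] :=
    (hmem p).2 ⟨hp, hA.1.symm, hB.1.symm, hC.1.symm, fun y hy y1 y2 y3 => (key y hy y1 y2 y3).1.symm⟩
  have q6 : q ∈ [a, b, c, d, e, f] :=
    (hmem q).2 ⟨hq, hA.2.1.symm, hB.2.1.symm, hC.2.1.symm, fun y hy y1 y2 y3 => (key y hy y1 y2 y3).2.1.symm⟩
  have r6 : r ∈ [a, b, c, d, e, f] :=
    (hmem r).2 ⟨hr, hA.2.2.symm, hB.2.2.symm, hC.2.2.symm, fun y hy y1 y2 y3 => (key y hy y1 y2 y3).2.2.symm⟩
  -- two members of one triple determine the third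
  have third : ∀ {u v w : G}, IsTriple D u v w → u * v * w = a * b * c → ∀ s t, s ∈ [u, v, w] → t ∈ [u, v, w] →
      s ≠ t → ∀ z, z ∈ D → s * t * z = a * b * c → z ∈ [u, v, w] := by
    intro u v w ⟨hu, hv, hw, _, _, _, k1, k2, k3⟩ huvw s t hs ht hst z hz hz'
    have perms : u * v * w = u * w * v ∧ u * v * w = v * u * w ∧ u * v * w = v * w * u ∧
        u * v * w = w * u * v ∧ u * v * w = w * v * u := by
      refine ⟨by rw [mul_assoc, k3.eq, mul_assoc], by rw [k1.eq], ?_, ?_, ?_⟩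
      · rw [mul_assoc, (k1.mul_right k2).eq]
      · rw [((k2.symm).mul_right k3.symm).eq.symm.trans (mul_assoc w u v).symm]
      · rw [((k2.symm).mul_right k3.symm).eq.symm.trans (mul_assoc w u v).symm, mul_assoc, k1.eq, mul_assoc]
    simp only [List.mem_cons, List.not_mem_nil, or_false] at hs ht ⊢
    rw [← huvw] at hz'
    rcases hs with rfl | rfl | rfl <;> rcases ht with rfl | rfl | rfl
    · exact absurd rfl hst
    · exact Or.inr (Or.inr (mul_left_cancel hz'))
    · exact Or.inr (Or.inl (mul_left_cancel (hz'.trans perms.1)))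
    · exact Or.inr (Or.inr (mul_left_cancel (hz'.trans perms.2.1)))
    · exact absurd rfl hst
    · exact Or.inl (mul_left_cancel (hz'.trans perms.2.2.1))
    · exact Or.inr (Or.inl (mul_left_cancel (hz'.trans perms.2.2.2.1)))
    · exact Or.inl (mul_left_cancel (hz'.trans perms.2.2.2.2))
    · exact absurd rfl hst
  have split : ∀ s ∈ [a, b, c, d, e, f], s ∈ [a, b, c] ∨ s ∈ [d, e, f] := fun s hs =>
    List.mem_append.1 (show s ∈ [a, b, c] ++ [d, e, f] from hs)
  have e132 : p * r * q = a * b * c := by rw [mul_assoc, ← d3.eq, ← mul_assoc]; exact hprod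
  have e231 : q * r * p = a * b * c := by rw [← (d1.mul_right d2).eq, ← mul_assoc]; exact hprod
  have hTa : IsTriple D a b c := ⟨ha, hb, hc, n1, n2, n3, c1, c2, c3⟩
  rcases split p p6 with h1 | h1 <;> rcases split q q6 with h2 | h2 <;> rcases split r r6 with h3 | h3
  · exact Or.inl ⟨h1, h2, h3⟩
  · exact Or.inl ⟨h1, h2, third hTa rfl p q h1 h2 m1 r hr hprod⟩
  · exact Or.inl ⟨h1, third hTa rfl p r h1 h3 m2 q hq e132, h3⟩
  · exact Or.inr ⟨third hT heq.symm q r h2 h3 m3 p hp e231, h2, h3⟩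
  · exact Or.inl ⟨third hTa rfl q r h2 h3 m3 p hp e231, h2, h3⟩
  · exact Or.inr ⟨h1, third hT heq.symm p r h1 h3 m2 q hq e132, h3⟩
  · exact Or.inr ⟨h1, h2, third hT heq.symm p q h1 h2 m1 r hr hprod⟩
  · exact Or.inr ⟨h1, h2, h3⟩

/-- The centraliser of the product of three commuting members. -/
theorem triple_centralizer_card (S : Fi22Setup D) {a b c : G} (h : IsTriple D a b c) :
    Nat.card ↥(Subgroup.centralizer ({a * b * c} : Set G)) = 1769472 := by
  classical
  obtain ⟨d, e, f, hT, hnd, heq, hset⟩ := triple_set S h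
  set C := Subgroup.centralizer ({a * b * c} : Set G) with hCdef
  have memC : ∀ g, g ∈ C ↔ g * (a * b * c) = a * b * c * g := fun g => Subgroup.mem_centralizer_singleton_iff
  have h3 := card_orbit_mul C a b
  -- the twelve ordered pairs
  set P : Finset (G × G) := ({a, b, c} : Finset G).offDiag ∪ ({d, e, f} : Finset G).offDiag with hP
  have hnd' := hnd
  simp only [List.nodup_cons, List.mem_cons, List.not_mem_nil, or_false, not_or, not_false_eq_true,
    List.nodup_nil, and_true] at hnd'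
  have hPc : P.card = 12 := by
    rw [hP, Finset.card_union_of_disjoint, Finset.offDiag_card, Finset.offDiag_card,
      Finset.card_eq_three.2 ⟨a, b, c, hnd'.1.1, hnd'.1.2.1, hnd'.2.1.1, rfl⟩,
      Finset.card_eq_three.2 ⟨d, e, f, hT.2.2.2.1, hT.2.2.2.2.1, hT.2.2.2.2.2.1, rfl⟩]
    rw [Finset.disjoint_left]
    intro x hx hy
    simp only [Finset.mem_offDiag, Finset.mem_insert, Finset.mem_singleton] at hx hy
    rcases hx.1 with h1 | h1 | h1 <;> rcases hy.1 with h2 | h2 | h2 <;> rw [h1] at h2 <;> simp_all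
  have horb : {p : G × G | ∃ g ∈ C, g * a * g⁻¹ = p.1 ∧ g * b * g⁻¹ = p.2} = ↑P := by
    ext ⟨u, v⟩
    simp only [hP, Finset.coe_union, Set.mem_union, Finset.mem_coe, Finset.mem_offDiag, Set.mem_ofPred_eq,
      Finset.mem_insert, Finset.mem_singleton]
    constructor
    · rintro ⟨g, hg, rfl, rfl⟩
      have hne : g * a * g⁻¹ ≠ g * b * g⁻¹ := fun e => h.2.2.2.1 ((MulAut.conj g).injective e)
      rcases hset _ _ (g * c * g⁻¹) (h.map S g) (by
        rw [show g * a * g⁻¹ * (g * b * g⁻¹) * (g * c * g⁻¹) = g * (a * b * c) * g⁻¹ by group,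
          (memC g).1 hg, mul_inv_cancel_right]) with ⟨h1, h2, -⟩ | ⟨h1, h2, -⟩
      · simp only [List.mem_cons, List.not_mem_nil, or_false] at h1 h2
        exact Or.inl ⟨h1, h2, hne⟩
      · simp only [List.mem_cons, List.not_mem_nil, or_false] at h1 h2
        exact Or.inr ⟨h1, h2, hne⟩
    · intro hp
      -- complete the pair to a triple with the same product
      have main : ∀ x y z : G, IsTriple D x y z → x * y * z = a * b * c → u ∈ [x, y, z] → v ∈ [x, y, z] →
          u ≠ v → ∃ g ∈ C, g * a * g⁻¹ = u ∧ g * b * g⁻¹ = v := by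
        intro x y z ⟨hx, hy, hz, k1, k2, k3, l1, l2, l3⟩ hxyz hu hv huv
        obtain ⟨w, hw, hw'⟩ : ∃ w, IsTriple D u v w ∧ u * v * w = a * b * c := by
          simp only [List.mem_cons, List.not_mem_nil, or_false] at hu hv
          rcases hu with rfl | rfl | rfl <;> rcases hv with rfl | rfl | rfl
          · exact absurd rfl huv
          · exact ⟨z, ⟨hx, hy, hz, k1, k2, k3, l1, l2, l3⟩, hxyz⟩
          · exact ⟨y, ⟨hx, hz, hy, k2, k1, k3.symm, l2, l1, l3.symm⟩,
              by rw [mul_assoc, ← l3.eq, ← mul_assoc]; exact hxyz⟩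
          · exact ⟨z, ⟨hy, hx, hz, k1.symm, k3, k2, l1.symm, l3, l2⟩, by rw [← l1.eq]; exact hxyz⟩
          · exact absurd rfl huv
          · exact ⟨x, ⟨hy, hz, hx, k3, k1.symm, k2.symm, l3, l1.symm, l2.symm⟩,
              by rw [← (l1.mul_right l2).eq, ← mul_assoc]; exact hxyz⟩
          · exact ⟨y, ⟨hz, hx, hy, k2.symm, k3.symm, k1, l2.symm, l3.symm, l1⟩,
              by rw [mul_assoc, (l2.symm.mul_right l3.symm).eq]; exact hxyz⟩
          · exact ⟨x, ⟨hz, hy, hx, k3.symm, k2.symm, k1.symm, l3.symm, l2.symm, l1.symm⟩,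
              by rw [mul_assoc, ← l1.eq, (l2.symm.mul_right l3.symm).eq]; exact hxyz⟩
          · exact absurd rfl huv
        obtain ⟨g, e1, e2, e3⟩ := triple_conj S h hw
        refine ⟨g, (memC g).2 ?_, e1, e2⟩
        calc g * (a * b * c) = (g * a * g⁻¹) * (g * b * g⁻¹) * (g * c * g⁻¹) * g := by group
          _ = a * b * c * g := by rw [e1, e2, e3, hw']
      rcases hp with ⟨h1, h2, h3⟩ | ⟨h1, h2, h3⟩
      · exact main a b c h rfl (by simpa using h1) (by simpa using h2) h3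
      · exact main d e f hT heq.symm (by simpa using h1) (by simpa using h2) h3
  have hK : C ⊓ Subgroup.centralizer {a} ⊓ Subgroup.centralizer {b}
      = Subgroup.centralizer ({a} : Set G) ⊓ Subgroup.centralizer {b} ⊓ Subgroup.centralizer {c} := by
    ext g
    simp only [Subgroup.mem_inf, memC, Subgroup.mem_centralizer_singleton_iff]
    constructor
    · rintro ⟨⟨h1, h2⟩, h3⟩
      refine ⟨⟨h2, h3⟩, mul_left_cancel (a := a * b) ?_⟩
      calc a * b * (g * c) = g * (a * b * c) := by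
            rw [← mul_assoc, mul_assoc a b g, ← h3, ← mul_assoc a g b, ← h2]
            simp only [mul_assoc]
        _ = a * b * (c * g) := by rw [h1]; simp only [mul_assoc]
    · rintro ⟨⟨h2, h3⟩, h4⟩
      exact ⟨⟨((show Commute g a from h2).mul_right (show Commute g b from h3)).mul_right
        (show Commute g c from h4), h2⟩, h3⟩
  rw [horb, Set.ncard_coe_finset, hPc, hK, triple_fix S h] at h3
  rw [h3]

end Cfsg.Agent.FischerM22
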