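/-
Hexads of commuting members in a group of type M(22).

Main results (namespace `Cfsg.Agent.FischerM22`):
* `hexSet_ncard`, `hexSet_eq_of_mem` : a hexad has six members and is determined by any three of them;
* `hexad_three_fixed` : an element fixing four members of a hexad fixes all six;
* `hexad_shift` : the pointwise stabiliser of three members moves the others transitively;
* `hexad_moved_false` : an element of order two fixes some member of an invariant hexad;
* `exists_fixed_member` : every element of order two commutes with some member.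
-/
import Cfsg.Agent.Lib.FischerM22.Triple

set_option autoImplicit false

namespace Cfsg.Agent.FischerM22

open Cfsg.Agent.Unitary Cfsg.Agent.U62Cover Cfsg.Agent.ThreeTrans Cfsg.Agent.ThreeTransSU

variable {G : Type*} [Group G] [Finite G] {D : Set G}

theorem self_mem_hexSet {a b c : G} (h : IsTriple D a b c) :
    a ∈ hexSet D a b c ∧ b ∈ hexSet D a b c ∧ c ∈ hexSet D a b c := by
  obtain ⟨ha, hb, hc, -, -, -, c1, c2, c3⟩ := h
  exact ⟨⟨ha, Commute.refl a, c1, c2, fun _ _ h _ _ => h.symm⟩,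
    ⟨hb, c1.symm, Commute.refl b, c3, fun _ _ _ h _ => h.symm⟩,
    ⟨hc, c2.symm, c3.symm, Commute.refl c, fun _ _ _ _ h => h.symm⟩⟩

theorem isTriple_of_mem {a b c p q r : G} (hp : p ∈ hexSet D a b c) (hq : q ∈ hexSet D a b c)
    (hr : r ∈ hexSet D a b c) (h1 : p ≠ q) (h2 : p ≠ r) (h3 : q ≠ r) : IsTriple D p q r :=
  ⟨hp.1, hq.1, hr.1, h1, h2, h3, hexSet_commute hp hq, hexSet_commute hp hr, hexSet_commute hq hr⟩

theorem hexSet_ncard (S : Fi22Setup D) {a b c : G} (h : IsTriple D a b c) : (hexSet D a b c).ncard = 6 := by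
  classical
  obtain ⟨ha, hb, hc, n1, n2, n3, c1, c2, c3⟩ := h
  obtain ⟨d, e, f, hnd, hmem, -⟩ := exists_other_triple S.cls S.cores S.conn S.type22 ha hb hc n1 n2 n3 c1 c2 c3
  have e1 : hexSet D a b c = ↑([a, b, c, d, e, f].toFinset) := by
    ext p; rw [Finset.mem_coe, List.mem_toFinset]; exact (hmem p).symm
  rw [e1, Set.ncard_coe_finset, List.toFinset_card_of_nodup hnd]
  rfl

omit [Finite G] in
theorem prod_perm_of_commute {L L' : List G} (h : L.Perm L') (hc : ∀ p ∈ L, ∀ q ∈ L, Commute p q) :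
    L.prod = L'.prod :=
  List.Perm.prod_eq' h (List.pairwise_of_forall_mem_list fun p hp q hq => hc p hp q hq)

/-- A hexad is determined by any three of its members. -/
theorem hexSet_eq_of_mem (S : Fi22Setup D) {a b c p q r : G} (h : IsTriple D a b c)
    (hp : p ∈ hexSet D a b c) (hq : q ∈ hexSet D a b c) (hr : r ∈ hexSet D a b c) (h1 : p ≠ q) (h2 : p ≠ r)
    (h3 : q ≠ r) : hexSet D p q r = hexSet D a b c := by
  classical
  have hT := isTriple_of_mem hp hq hr h1 h2 h3
  have hD := S.cls.1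
  obtain ⟨ha, hb, hc, n1, n2, n3, c1, c2, c3⟩ := h
  obtain ⟨d, e, f, hnd, hmem, heq⟩ := exists_other_triple S.cls S.cores S.conn S.type22 ha hb hc n1 n2 n3 c1 c2 c3
  have hH : ∀ s, s ∈ [a, b, c, d, e, f] → s ∈ hexSet D a b c := fun s => (hmem s).1
  have hsub : hexSet D a b c ⊆ hexSet D p q r := by
    intro s hs
    refine ⟨hs.1, hexSet_commute hs hp, hexSet_commute hs hq, hexSet_commute hs hr, fun y hy yp yq yr => ?_⟩
    by_cases e1 : s = p
    · exact e1 ▸ yp.symm
    by_cases e2 : s = q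
    · exact e2 ▸ yq.symm
    by_cases e3 : s = r
    · exact e3 ▸ yr.symm
    -- the other three have the same product as `p, q, r`
    set L := (([a, b, c, d, e, f].erase p).erase q).erase r with hL
    have mp : p ∈ [a, b, c, d, e, f] := (hmem p).2 hp
    have n' := (hnd.erase p).erase q
    have mq : q ∈ [a, b, c, d, e, f].erase p := (hnd.mem_erase_iff).2 ⟨h1.symm, (hmem q).2 hq⟩
    have mr : r ∈ ([a, b, c, d, e, f].erase p).erase q :=
      ((hnd.erase p).mem_erase_iff).2 ⟨h3.symm, (hnd.mem_erase_iff).2 ⟨h2.symm, (hmem r).2 hr⟩⟩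
    have hperm : [a, b, c, d, e, f].Perm (p :: q :: r :: L) :=
      (List.perm_cons_erase mp).trans ((List.perm_cons_erase mq).trans ((List.perm_cons_erase mr).cons q) |>.cons p)
    have ms : s ∈ L := (n'.mem_erase_iff).2 ⟨e3, ((hnd.erase p).mem_erase_iff).2
      ⟨e2, (hnd.mem_erase_iff).2 ⟨e1, (hmem s).2 hs⟩⟩⟩
    have hmemL : ∀ t ∈ L, t ∈ hexSet D a b c := fun t ht =>
      hH t ((List.mem_of_mem_erase (List.mem_of_mem_erase (List.mem_of_mem_erase ht))))
    have hlen : L.length = 3 := by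
      have := hperm.length_eq
      simp only [List.length_cons, List.length_nil] at this
      omega
    have hnL : L.Nodup := n'.erase r
    have h6 : [a, b, c, d, e, f].prod = 1 := by
      have e4 : d * e * f * (d * e * f) = 1 := by
        have hd := (hH d (by simp)); have he := (hH e (by simp)); have hf := (hH f (by simp))
        have k1 := hexSet_commute hd he
        have k2 := hexSet_commute hd hf
        have k3 := hexSet_commute he hf
        calc d * e * f * (d * e * f) = d * e * (f * (d * e)) * f := by simp only [mul_assoc]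
          _ = d * (e * d) * e * (f * f) := by rw [(k2.symm.mul_right k3.symm).eq]; simp only [mul_assoc]
          _ = 1 := by
            rw [← k1.eq]
            simp only [mul_assoc, mul_self_cancel hD hd.1, mul_self hD he.1, mul_self hD hf.1, mul_one,
              mul_self_cancel hD he.1]
      simp only [List.prod_cons, List.prod_nil, mul_one]
      simpa only [mul_assoc] using (show a * b * c * (d * e * f) = 1 by rw [heq]; exact e4)
    rw [prod_perm_of_commute hperm fun u hu v hv => hexSet_commute (hH u hu) (hH v hv)] at h6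
    match L, hlen, hnL, hmemL, ms, h6 with
    | [t₁, t₂, t₃], _, hnL, hmemL, ms, h6 =>
      have k1 := hmemL t₁ (by simp)
      have k2 := hmemL t₂ (by simp)
      have k3 := hmemL t₃ (by simp)
      simp only [List.nodup_cons, List.mem_cons, List.not_mem_nil, or_false, not_or, not_false_eq_true,
        List.nodup_nil, and_true] at hnL
      simp only [List.prod_cons, List.prod_nil, mul_one] at h6
      have hyt : Commute y (t₁ * t₂ * t₃) := by
        have : t₁ * t₂ * t₃ = (p * q * r)⁻¹ := (inv_eq_of_mul_eq_one_right (by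
          simpa only [mul_assoc] using h6)).symm
        rw [this]; exact ((yp.mul_right yq).mul_right yr).inv_right
      obtain ⟨y1, y2, y3⟩ := (commute_mul_three_iff hD k1.1 k2.1 k3.1 hy hnL.1.1 hnL.1.2 hnL.2
        (hexSet_commute k1 k2) (hexSet_commute k1 k3) (hexSet_commute k2 k3)).1 hyt
      simp only [List.mem_cons, List.not_mem_nil, or_false] at ms
      rcases ms with rfl | rfl | rfl
      exacts [y1.symm, y2.symm, y3.symm]
  exact (Set.eq_of_subset_of_ncard_le hsub (le_of_eq (by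
    rw [hexSet_ncard S hT, hexSet_ncard S ⟨ha, hb, hc, n1, n2, n3, c1, c2, c3⟩])) (Set.toFinite _)).symm

omit [Finite G] in
theorem hexSet_image (e : G ≃* G) (he : ∀ x, e x ∈ D ↔ x ∈ D) (a b c : G) :
    hexSet D (e a) (e b) (e c) = e '' hexSet D a b c := by
  have hc : ∀ x y, Commute (e x) (e y) ↔ Commute x y := fun x y =>
    ⟨fun h => h.of_map (f := e.toMonoidHom) e.injective, fun h => h.map e.toMonoidHom⟩
  ext p
  obtain ⟨p, rfl⟩ := e.surjective p
  rw [e.injective.mem_set_image]
  simp only [hexSet, Set.mem_ofPred_eq, he, hc]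
  refine and_congr_right fun _ => and_congr_right fun _ => and_congr_right fun _ => and_congr_right fun _ => ?_
  refine ⟨fun h y hy ya yb yc => (hc _ _).1 (h (e y) ((he y).2 hy) ((hc _ _).2 ya) ((hc _ _).2 yb) ((hc _ _).2 yc)),
    fun h y hy ya yb yc => ?_⟩
  obtain ⟨y, rfl⟩ := e.surjective y
  exact (hc _ _).2 (h y ((he y).1 hy) ((hc _ _).1 ya) ((hc _ _).1 yb) ((hc _ _).1 yc))

theorem conj_mem_iff (S : Fi22Setup D) (g x : G) : MulAut.conj g x ∈ D ↔ x ∈ D := by
  refine ⟨fun h => ?_, fun h => S.conj_mem g h⟩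
  have := S.conj_mem g⁻¹ h
  simpa [mul_assoc] using this

theorem hexSet_conj (S : Fi22Setup D) (g a b c : G) :
    hexSet D (g * a * g⁻¹) (g * b * g⁻¹) (g * c * g⁻¹) = MulAut.conj g '' hexSet D a b c :=
  hexSet_image (MulAut.conj g) (conj_mem_iff S g) a b c

/-- The other members of the hexad of `a, pt u, pt w` are the `pt (u + t • w)`. -/
theorem hexad_vectors {F : Type*} [Field F] [Fintype F] {a : G} {pt : (Fin 6 → F) → G}
    (M : PointModel D a pt) {u w : Fin 6 → F} (hP : OrthPair u w) {p : G}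
    (hp : p ∈ hexSet D a (pt u) (pt w)) (ha : p ≠ a) (hu : p ≠ pt u) (hw : p ≠ pt w) :
    ∃ t : F, t ≠ 0 ∧ Iso (u + t • w) ∧ p = pt (u + t • w) := by
  have hF := M.card
  obtain ⟨ω, hω0, hω⟩ := exists_omega hF
  obtain ⟨hpD, hpa, hpu, hpw, hall⟩ := hp
  obtain ⟨x, hx, rfl⟩ := M.surj p ⟨hpD, ha, hpa.symm⟩
  obtain ⟨q, hq, s, hs, rfl⟩ := double_perp hF hω hP hx fun y hy hyu hyw =>
    (hf_eq_zero_symm hF).1 ((M.comm x y hx hy).1 (hall _ (M.mem y hy).1 (M.mem y hy).2.2.symm
      ((M.comm y u hy hP.1).2 hyu) ((M.comm y w hy hP.2.1).2 hyw)))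
  have hqI := linePts_iso hF ω hP q hq
  rw [M.smul q s hqI hs] at hu hw ⊢
  simp only [linePts, List.mem_cons, List.not_mem_nil, or_false] at hq
  rcases hq with rfl | rfl | rfl | rfl | rfl
  · exact absurd rfl hu
  · exact absurd rfl hw
  · exact ⟨1, one_ne_zero, by simpa using hqI, by rw [one_smul]⟩
  · exact ⟨ω, hω0, hqI, rfl⟩
  · exact ⟨ω ^ 2, pow_ne_zero _ hω0, hqI, rfl⟩

/-- An element fixing four members of a hexad fixes all six. -/
theorem hexad_three_fixed (S : Fi22Setup D) {a b c d g p : G} (h : IsTriple D a b c)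
    (hd : d ∈ hexSet D a b c) (hda : d ≠ a) (hdb : d ≠ b) (hdc : d ≠ c)
    (ga : Commute g a) (gb : Commute g b) (gc : Commute g c) (gd : Commute g d) (hp : p ∈ hexSet D a b c) :
    Commute g p := by
  obtain ⟨ha, hb, hc, n1, n2, n3, c1, c2, c3⟩ := h
  by_cases e1 : p = a
  · exact e1 ▸ ga
  by_cases e2 : p = b
  · exact e2 ▸ gb
  by_cases e3 : p = c
  · exact e3 ▸ gc
  have hg : g ∈ Loc D a := by
    rw [← centralizer_eq_loc S ha]; exact Subgroup.mem_centralizer_singleton_iff.2 ga
  obtain ⟨F, _, _, pt, θ, L⟩ := exists_locModel S ha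
  have M := L.M
  have hF := M.card
  obtain ⟨u, hu, rfl⟩ := M.surj b ⟨hb, n1.symm, c1⟩
  obtain ⟨w, hw, rfl⟩ := M.surj c ⟨hc, n2.symm, c2⟩
  have hP : OrthPair u w := ⟨hu, hw, (M.comm u w hu hw).1 c3, fun s e => n3 (by
    rw [e, M.smul u s hu fun h0 => hw.1 (by rw [e, h0, zero_smul])])⟩
  obtain ⟨t, ht, htI, rfl⟩ := hexad_vectors M hP hd hda hdb hdc
  obtain ⟨t', -, htI', rfl⟩ := hexad_vectors M hP hp e1 e2 e3
  obtain ⟨A, hA⟩ := QuotientGroup.mk'_surjective _ (θ ⟨g, hg⟩)
  have conj : ∀ v, Iso v → g * pt v * g⁻¹ = pt (act A v) := fun v hv => L.conj_pt S ha hA.symm hv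
  have fixv : ∀ v, Iso v → Commute g (pt v) → ∃ s : F, s ≠ 0 ∧ act A v = s • v := fun v hv hc =>
    M.inj v _ hv (hv.act A) (by rw [← conj v hv, hc.eq, mul_inv_cancel_right])
  obtain ⟨α, hα, eu⟩ := fixv u hu gb
  obtain ⟨β, -, ew⟩ := fixv w hw gc
  obtain ⟨γ, -, et⟩ := fixv _ htI gd
  rw [act_add, act_smul, eu, ew, smul_smul, smul_add, smul_smul] at et
  obtain ⟨q1, q2⟩ := LinearIndependent.pair_iff.1 hP.li (α - γ) (t * β - γ * t) (by
    rw [sub_smul, sub_smul, sub_add_sub_comm, et, sub_self])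
  have hβ : β = α := mul_left_cancel₀ ht (by linear_combination q2 - t * q1)
  have e := conj _ htI'
  rw [act_add, act_smul, eu, ew, hβ, smul_comm t' α w, ← smul_add, M.smul _ α htI' hα] at e
  show g * pt (u + t' • w) = pt (u + t' • w) * g
  conv_rhs => rw [← e]
  group

/-- The pointwise stabiliser of three members of a hexad is transitive on the other three. -/
theorem hexad_shift (S : Fi22Setup D) {a b c d d' : G} (h : IsTriple D a b c)
    (hd : d ∈ hexSet D a b c) (hda : d ≠ a) (hdb : d ≠ b) (hdc : d ≠ c)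
    (hd' : d' ∈ hexSet D a b c) (hda' : d' ≠ a) (hdb' : d' ≠ b) (hdc' : d' ≠ c) :
    ∃ g, Commute g a ∧ Commute g b ∧ Commute g c ∧ g * d * g⁻¹ = d' := by
  obtain ⟨ha, hb, hc, n1, n2, n3, c1, c2, c3⟩ := h
  obtain ⟨F, _, _, pt, θ, L⟩ := exists_locModel S ha
  have M := L.M
  have hF := M.card
  obtain ⟨u, hu, rfl⟩ := M.surj b ⟨hb, n1.symm, c1⟩
  obtain ⟨w, hw, rfl⟩ := M.surj c ⟨hc, n2.symm, c2⟩
  have hP : OrthPair u w := ⟨hu, hw, (M.comm u w hu hw).1 c3, fun s e => n3 (by
    rw [e, M.smul u s hu fun h0 => hw.1 (by rw [e, h0, zero_smul])])⟩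
  obtain ⟨t, ht, htI, rfl⟩ := hexad_vectors M hP hd hda hdb hdc
  obtain ⟨t', ht', htI', rfl⟩ := hexad_vectors M hP hd' hda' hdb' hdc'
  have hs : t⁻¹ * t' ≠ 0 := mul_ne_zero (inv_ne_zero ht) ht'
  obtain ⟨A, gu, gw⟩ := exists_act_two hF (by norm_num) hP (hP.smul_right hF hs)
  obtain ⟨g, hg⟩ := L.realise S ha A
  refine ⟨g, commute_of_mem_Loc g.2, ?_, ?_, ?_⟩
  · have := hg u hu
    rw [gu] at this
    show (g : G) * pt u = pt u * g
    conv_rhs => rw [← this]
    group
  · have := hg w hw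
    rw [gw, M.smul w _ hw hs] at this
    show (g : G) * pt w = pt w * g
    conv_rhs => rw [← this]
    group
  · rw [hg _ htI, act_add, act_smul, gu, gw, smul_smul, mul_inv_cancel_left₀ ht]

/-- An element of order two cannot move all six members of a hexad which it leaves invariant. -/
theorem hexad_moved_false (S : Fi22Setup D) {x a q : G} (hx : x * x = 1) (T : IsTriple D a (x * a * x) q)
    (hmapH : ∀ p ∈ hexSet D a (x * a * x) q, x * p * x ∈ hexSet D a (x * a * x) q)
    (hmov : ∀ p ∈ hexSet D a (x * a * x) q, x * p * x ≠ p) : False := by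
  classical
  have := Fintype.ofFinite G
  have hxi : x⁻¹ = x := inv_eq_of_mul_eq_one_left hx
  have hinv : ∀ p, x * (x * p * x) * x = p := fun p => by
    calc x * (x * p * x) * x = x * x * p * (x * x) := by simp only [mul_assoc]
      _ = p := by rw [hx, one_mul, mul_one]
  generalize hb : x * a * x = b at T hmapH hmov
  obtain ⟨-, -, -, hne, n2, n3, -, -, -⟩ := id T
  obtain ⟨ma, mb, mq⟩ := self_mem_hexSet T
  set q' := x * q * x with hq'
  have mq' := hmapH q mq
  have hq'S : q' ≠ a ∧ q' ≠ b := ⟨fun e => n3 (by rw [← hinv q, ← hq', e, hb]),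
    fun e => n2 (by rw [← hinv q, ← hq', e, ← hb, hinv])⟩
  have hqq' : q ≠ q' := fun e => hmov q mq e.symm
  obtain ⟨r, mr, hrn⟩ : ∃ r ∈ hexSet D a b q, r ∉ ({a, b, q, q'} : Set G) := by
    by_contra h
    have hsub : hexSet D a b q ⊆ {a, b, q, q'} := fun r hr => by_contra fun h' => h ⟨r, hr, h'⟩
    have h1 := Set.ncard_le_ncard hsub (Set.toFinite _)
    rw [hexSet_ncard S T] at h1
    have h2 := Set.ncard_insert_le a ({b, q, q'} : Set G)
    have h3 := Set.ncard_insert_le b ({q, q'} : Set G)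
    have h4 := Set.ncard_insert_le q ({q'} : Set G)
    rw [Set.ncard_singleton] at h4
    omega
  simp only [Set.mem_insert_iff, Set.mem_singleton_iff, not_or] at hrn
  obtain ⟨ra, rb, rq, rq'⟩ := hrn
  set r' := x * r * x with hr'
  have mr' := hmapH r mr
  have rn : r ≠ r' := fun e => hmov r mr e.symm
  have r'a : r' ≠ a := fun e => rb (by rw [← hinv r, ← hr', e, hb])
  have r'b : r' ≠ b := fun e => ra (by rw [← hinv r, ← hr', e, ← hb, hinv])
  have r'q : r' ≠ q := fun e => rq' (by rw [← hinv r, ← hr', e, hq'])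
  have r'q' : r' ≠ q' := fun e => rq (by rw [← hinv r, ← hr', e, hq', hinv])
  -- an element fixing a and b and exchanging q and q'
  have T' : IsTriple D a b q' := isTriple_of_mem ma mb mq' hne hq'S.1.symm hq'S.2.symm
  have hH' : hexSet D a b q' = hexSet D a b q := hexSet_eq_of_mem S T ma mb mq' hne hq'S.1.symm hq'S.2.symm
  obtain ⟨k, ka, kb, kq⟩ := triple_conj S T T'
  have kH : ∀ p ∈ hexSet D a b q, k * p * k⁻¹ ∈ hexSet D a b q := fun p hp => by
    rw [← hH', ← ka, ← kb, ← kq, hexSet_conj S k]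
    exact ⟨p, hp, rfl⟩
  have kinj : ∀ {p s : G}, k * p * k⁻¹ = k * s * k⁻¹ → p = s := fun e => (MulAut.conj k).injective e
  obtain ⟨h, hha, hhb, hhq', hhk⟩ := hexad_shift S T' (d := k * q' * k⁻¹) (d' := q)
    (by rw [hH']; exact kH q' mq') (fun e => hq'S.1 (kinj (e.trans ka.symm)))
    (fun e => hq'S.2 (kinj (e.trans kb.symm))) (fun e => hqq' (kinj (e.trans kq.symm)).symm)
    (by rw [hH']; exact mq) n2.symm n3.symm hqq'
  set g := h * k with hg
  have gx : ∀ p, g * p * g⁻¹ = h * (k * p * k⁻¹) * h⁻¹ := fun p => by rw [hg]; group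
  have ga : Commute g a := by
    have : g * a * g⁻¹ = a := by rw [gx, ka, hha.eq, mul_inv_cancel_right]
    exact mul_inv_eq_iff_eq_mul.1 this
  have gb : Commute g b := by
    have : g * b * g⁻¹ = b := by rw [gx, kb, hhb.eq, mul_inv_cancel_right]
    exact mul_inv_eq_iff_eq_mul.1 this
  have gq : g * q * g⁻¹ = q' := by rw [gx, kq, hhq'.eq, mul_inv_cancel_right]
  have gq' : g * q' * g⁻¹ = q := by rw [gx, hhk]
  have ginj : ∀ {p s : G}, g * p * g⁻¹ = g * s * g⁻¹ → p = s := fun e => (MulAut.conj g).injective e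
  have ga' : g * a * g⁻¹ = a := by rw [ga.eq, mul_inv_cancel_right]
  have gb' : g * b * g⁻¹ = b := by rw [gb.eq, mul_inv_cancel_right]
  -- g exchanges r and r'
  have six : ∀ p ∈ hexSet D a b q, p = a ∨ p = b ∨ p = q ∨ p = q' ∨ p = r ∨ p = r' := by
    intro p hp
    have hsub : ({a, b, q, q', r, r'} : Finset G) ⊆ (hexSet D a b q).toFinset := fun s hs => by
      simp only [Finset.mem_insert, Finset.mem_singleton] at hs
      rw [Set.mem_toFinset]
      rcases hs with rfl | rfl | rfl | rfl | rfl | rfl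
      exacts [ma, mb, mq, mq', mr, mr']
    have h6 : ({a, b, q, q', r, r'} : Finset G).card = 6 := by
      rw [Finset.card_insert_of_notMem (by
          simp only [Finset.mem_insert, Finset.mem_singleton, not_or]
          exact ⟨hne, n2.symm.symm, hq'S.1.symm, Ne.symm ra, Ne.symm r'a⟩),
        Finset.card_insert_of_notMem (by
          simp only [Finset.mem_insert, Finset.mem_singleton, not_or]
          exact ⟨n3.symm.symm, hq'S.2.symm, Ne.symm rb, Ne.symm r'b⟩),
        Finset.card_insert_of_notMem (by simp [hqq', Ne.symm rq, Ne.symm r'q]),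
        Finset.card_insert_of_notMem (by simp [Ne.symm rq', Ne.symm r'q']),
        Finset.card_pair rn]
    have := Finset.eq_of_subset_of_card_le hsub (by
      rw [h6, ← Set.ncard_eq_toFinset_card', hexSet_ncard S T])
    have hp' : p ∈ ({a, b, q, q', r, r'} : Finset G) := by rw [this, Set.mem_toFinset]; exact hp
    simpa using hp'
  have gH : ∀ p ∈ hexSet D a b q, g * p * g⁻¹ ∈ hexSet D a b q := fun p hp => by
    have hG : hexSet D (g * a * g⁻¹) (g * b * g⁻¹) (g * q * g⁻¹) = hexSet D a b q := by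
      rw [ga', gb', gq, hH']
    rw [← hG, hexSet_conj S g]; exact ⟨p, hp, rfl⟩
  have gr : g * r * g⁻¹ = r' := by
    rcases six _ (gH r mr) with e | e | e | e | e | e
    · exact absurd (ginj (e.trans ga'.symm)) ra
    · exact absurd (ginj (e.trans gb'.symm)) rb
    · exact absurd (ginj (e.trans gq'.symm)) rq'
    · exact absurd (ginj (e.trans gq.symm)) rq
    · -- then g fixes a, b, r and r', hence q
      have gr0 : Commute g r := mul_inv_eq_iff_eq_mul.1 e
      have gr1 : Commute g r' := by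
        rcases six _ (gH r' mr') with e' | e' | e' | e' | e' | e'
        · exact absurd (ginj (e'.trans ga'.symm)) r'a
        · exact absurd (ginj (e'.trans gb'.symm)) r'b
        · exact absurd (ginj (e'.trans gq'.symm)) r'q'
        · exact absurd (ginj (e'.trans gq.symm)) r'q
        · exact absurd (ginj (e'.trans e.symm)) rn.symm
        · exact mul_inv_eq_iff_eq_mul.1 e'
      have hR : hexSet D a b r = hexSet D a b q := hexSet_eq_of_mem S T ma mb mr hne (Ne.symm ra) (Ne.symm rb)
      have := hexad_three_fixed S (isTriple_of_mem ma mb mr hne (Ne.symm ra) (Ne.symm rb)) (hR ▸ mr') r'a r'b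
        rn.symm ga gb gr0 gr1 (hR ▸ mq)
      rw [this.eq, mul_inv_cancel_right] at gq
      exact absurd gq hqq'
    · exact e
  have gr' : g * r' * g⁻¹ = r := by
    rcases six _ (gH r' mr') with e | e | e | e | e | e
    · exact absurd (ginj (e.trans ga'.symm)) r'a
    · exact absurd (ginj (e.trans gb'.symm)) r'b
    · exact absurd (ginj (e.trans gq'.symm)) r'q'
    · exact absurd (ginj (e.trans gq.symm)) r'q
    · exact e
    · exact absurd (ginj (e.trans gr.symm)) rn.symm
  -- x g fixes four members and moves a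
  have fix : ∀ {p s : G}, g * p * g⁻¹ = s → x * s * x = p → Commute (x * g) p := fun {p s} e1 e2 => by
    refine mul_inv_eq_iff_eq_mul.1 ?_
    calc x * g * p * (x * g)⁻¹ = x * (g * p * g⁻¹) * x⁻¹ := by group
      _ = p := by rw [e1, hxi, e2]
  have y1 : Commute (x * g) q := fix gq (hinv q)
  have y2 : Commute (x * g) q' := fix gq' rfl
  have y3 : Commute (x * g) r := fix gr (hinv r)
  have y4 : Commute (x * g) r' := fix gr' rfl
  have hQ : hexSet D q q' r = hexSet D a b q := hexSet_eq_of_mem S T mq mq' mr hqq' (Ne.symm rq) (Ne.symm rq')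
  have := hexad_three_fixed S (isTriple_of_mem mq mq' mr hqq' (Ne.symm rq) (Ne.symm rq')) (hQ ▸ mr') r'q r'q'
    rn.symm y1 y2 y3 y4 (hQ ▸ ma)
  refine hne ?_
  calc a = (x * g) * a * (x * g)⁻¹ := by rw [this.eq, mul_inv_cancel_right]
    _ = x * (g * a * g⁻¹) * x := by rw [mul_inv_rev, hxi]; simp only [mul_assoc]
    _ = b := by rw [ga', hb]


/-- Every element of order two commutes with a member. -/
theorem exists_fixed_member (S : Fi22Setup D) {x : G} (hx : x * x = 1) : ∃ a ∈ D, Commute x a := by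
  classical
  by_contra hcon
  have hall : ∀ a ∈ D, ¬ Commute x a := fun a ha h => hcon ⟨a, ha, h⟩
  have hD := S.cls.1
  have hxi : x⁻¹ = x := inv_eq_of_mul_eq_one_left hx
  have hconj : ∀ p, x * p * x = MulAut.conj x p := fun p => by rw [MulAut.conj_apply, hxi]
  have hmov : ∀ p, p ∈ D → x * p * x ≠ p := fun p hp e => hall p hp (by
    show x * p = p * x
    calc x * p = x * p * (x * x) := by rw [hx, mul_one]
      _ = x * p * x * x := by simp only [mul_assoc]
      _ = p * x := by rw [e])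
  have hinv : ∀ p, x * (x * p * x) * x = p := fun p => by
    calc x * (x * p * x) * x = x * x * p * (x * x) := by simp only [mul_assoc]
      _ = p := by rw [hx, one_mul, mul_one]
  obtain ⟨a, ha, -⟩ := S.two_members
  set b := x * a * x with hb
  have hbD : b ∈ D := by rw [hb, hconj]; exact S.conj_mem x ha
  have hab : Commute a b := by
    by_contra hn
    have hc := Cfsg.Agent.ThreeTrans.conj_mem hD S.grp.2.1 ha hbD
    refine hmov _ hc ?_
    calc x * (a * b * a) * x = (x * a * x) * (x * b * x) * (x * a * x) := by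
          rw [hconj, hconj, hconj, map_mul, map_mul]
      _ = b * a * b := by rw [← hb, show x * b * x = a from hinv a]
      _ = a * b * a := (braid hD ha hbD hn).symm
  have hne : a ≠ b := fun e => hmov a ha e.symm
  have hmemS : ∀ q, q ∈ common D a b ↔ q ∈ D ∧ q ≠ a ∧ q ≠ b ∧ Commute a q ∧ Commute b q := fun q =>
    ⟨fun h => ⟨h.1.1, h.1.2.1, h.2.2.1, h.1.2.2, h.2.2.2⟩,
      fun h => ⟨⟨h.1, h.2.1, h.2.2.2.1⟩, h.1, h.2.2.1, h.2.2.2.2⟩⟩
  have tri : ∀ q ∈ common D a b, IsTriple D a b q := fun q hq =>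
    ⟨ha, hbD, hq.1.1, hne, hq.1.2.1.symm, hq.2.2.1.symm, hab, hq.1.2.2, hq.2.2.2⟩
  have inS : ∀ q ∈ common D a b, ∀ p ∈ hexSet D a b q, p ≠ a → p ≠ b → p ∈ common D a b :=
    fun q hq p hp h1 h2 => (hmemS p).2 ⟨hp.1, h1, h2, hp.2.1.symm, hp.2.2.1.symm⟩
  -- conjugation by x on hexads
  have himg : ∀ p q r, MulAut.conj x '' hexSet D p q r = hexSet D (x * p * x) (x * q * x) (x * r * x) :=
    fun p q r => by rw [hconj, hconj, hconj]; exact (hexSet_conj S x p q r).symm
  have hxS : ∀ q ∈ common D a b, x * q * x ∈ common D a b := fun q hq => by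
    refine (hmemS _).2 ⟨by rw [hconj]; exact S.conj_mem x hq.1.1, fun e => hq.2.2.1 ?_, fun e => hq.1.2.1 ?_,
      ?_, ?_⟩
    · rw [← hinv q, e]
    · rw [← hinv q, e, hb, hinv]
    · have := hq.2.2.2.map (MulAut.conj x).toMonoidHom
      simp only [MulEquiv.coe_toMonoidHom, ← hconj] at this
      rwa [hb, hinv] at this
    · have := hq.1.2.2.map (MulAut.conj x).toMonoidHom
      simp only [MulEquiv.coe_toMonoidHom, ← hconj] at this
      exact this
  -- the hexads through a and b
  have := Fintype.ofFinite G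
  set Sf : Finset G := (common D a b).toFinset with hSf
  set Hs := Sf.image fun q => hexSet D a b q with hHs
  have hfib : ∀ H ∈ Hs, (Sf.filter fun q => hexSet D a b q = H).card = 4 := by
    intro H hH
    obtain ⟨q, hq, rfl⟩ := Finset.mem_image.1 hH
    rw [hSf, Set.mem_toFinset] at hq
    have e : (↑(Sf.filter fun p => hexSet D a b p = hexSet D a b q) : Set G) = hexSet D a b q \ {a, b} := by
      ext p
      simp only [hSf, Finset.coe_filter, Set.mem_toFinset, Set.mem_ofPred_eq, Set.mem_sdiff, Set.mem_insert_iff,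
        Set.mem_singleton_iff, not_or]
      refine ⟨fun ⟨hp, e⟩ => ⟨e ▸ (self_mem_hexSet (tri p hp)).2.2, hp.1.2.1, hp.2.2.1⟩, fun ⟨hp, h1, h2⟩ => ?_⟩
      exact ⟨inS q hq p hp h1 h2, hexSet_eq_of_mem S (tri q hq) (self_mem_hexSet (tri q hq)).1
        (self_mem_hexSet (tri q hq)).2.1 hp hne (Ne.symm h1) (Ne.symm h2)⟩
    rw [← Set.ncard_coe_finset, e, Set.ncard_sdiff (Set.insert_subset (self_mem_hexSet (tri q hq)).1
      (Set.singleton_subset_iff.2 (self_mem_hexSet (tri q hq)).2.1)), hexSet_ncard S (tri q hq),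
      Set.ncard_pair hne]
  have hcard : Hs.card = 45 := by
    have h := Finset.card_eq_sum_card_image (fun q => hexSet D a b q) Sf
    rw [← hHs, Finset.sum_congr rfl hfib, Finset.sum_const, hSf, ← Set.ncard_eq_toFinset_card',
      show (common D a b).ncard = 180 from common_ncard S ha ⟨hbD, hne.symm, hab⟩, smul_eq_mul] at h
    omega
  have hperm : ∀ H ∈ Hs, MulAut.conj x '' H ∈ Hs := fun H hH => by
    obtain ⟨q, hq, rfl⟩ := Finset.mem_image.1 hH
    rw [hSf, Set.mem_toFinset] at hq
    refine Finset.mem_image.2 ⟨x * q * x, Set.mem_toFinset.2 (hxS q hq), ?_⟩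
    rw [himg, ← hb, show x * b * x = a from hinv a, hexSet_swap]
  have hinvo : ∀ H : Set G, MulAut.conj x '' (MulAut.conj x '' H) = H := fun H => by
    rw [Set.image_image]
    simp only [← hconj, hinv, Set.image_id']
  let σ : Equiv.Perm {H // H ∈ Hs} :=
    ⟨fun H => ⟨_, hperm H.1 H.2⟩, fun H => ⟨_, hperm H.1 H.2⟩, fun H => Subtype.ext (hinvo H.1),
      fun H => Subtype.ext (hinvo H.1)⟩
  have : Fact (Nat.Prime 2) := ⟨Nat.prime_two⟩
  obtain ⟨⟨H, hH⟩, hHf⟩ := Equiv.Perm.exists_fixed_point_of_prime (p := 2) (n := 1)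
    (show ¬ 2 ∣ Fintype.card {H // H ∈ Hs} by rw [Fintype.card_coe, hcard]; norm_num) (σ := σ) (by
      ext H : 1
      exact Subtype.ext (hinvo H.1))
  replace hHf : MulAut.conj x '' H = H := congrArg Subtype.val hHf
  obtain ⟨q, hq, rfl⟩ := Finset.mem_image.1 hH
  rw [hSf, Set.mem_toFinset] at hq
  have T := tri q hq
  obtain ⟨ma, mb, mq⟩ := self_mem_hexSet T
  have hmapH : ∀ p ∈ hexSet D a b q, x * p * x ∈ hexSet D a b q := fun p hp => by
    rw [hconj]; exact hHf.subset ⟨p, hp, rfl⟩
  exact hexad_moved_false S hx (a := a) (q := q) T hmapH fun p hp => hmov p hp.1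

end Cfsg.Agent.FischerM22
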