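/-
The elements of order two in a group of type M(22).

Main results (namespace `Cfsg.Agent.FischerM22`):
* `IsProd D m x` : `x` is a product of `m` distinct pairwise commuting members;
* `involution_prod` : every element of order two is such a product with `m ≤ 3`;
* `pair_conj`, `pair_centralizer_card` : products of two members;
* `prod_conj`, `prod_order`, `prod_unique` : the three classes of elements of order two.
-/
import Cfsg.Agent.Lib.FischerM22.Hexads
import Cfsg.Agent.Lib.FischerM22.Total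

set_option autoImplicit false

namespace Cfsg.Agent.FischerM22

open Cfsg.Agent.Unitary Cfsg.Agent.U62Cover Cfsg.Agent.ThreeTrans Cfsg.Agent.ThreeTransSU

variable {G : Type*} [Group G] [Finite G] {D : Set G}

/-- `x` is the product of `m` distinct pairwise commuting members. -/
def IsProd (D : Set G) (m : ℕ) (x : G) : Prop :=
  ∃ l : List G, l.Nodup ∧ l.length = m ∧ (∀ a ∈ l, a ∈ D) ∧ (∀ a ∈ l, ∀ b ∈ l, Commute a b) ∧ l.prod = x

omit [Finite G] in
theorem isProd_one {a : G} (ha : a ∈ D) : IsProd D 1 a :=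
  ⟨[a], List.nodup_singleton a, rfl, by simp [ha], by simp, by simp⟩

omit [Finite G] in
theorem isProd_two {a b : G} (ha : a ∈ D) (hb : b ∈ adj D a) : IsProd D 2 (a * b) := by
  refine ⟨[a, b], by simp [hb.2.1.symm], rfl, by simp [ha, hb.1], fun x hx y hy => ?_, by simp⟩
  simp only [List.mem_cons, List.not_mem_nil, or_false] at hx hy
  rcases hx with rfl | rfl <;> rcases hy with rfl | rfl
  exacts [Commute.refl _, hb.2.2, hb.2.2.symm, Commute.refl _]

omit [Finite G] in
theorem isProd_three {a b c : G} (h : IsTriple D a b c) : IsProd D 3 (a * b * c) := by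
  obtain ⟨ha, hb, hc, n1, n2, n3, c1, c2, c3⟩ := h
  refine ⟨[a, b, c], by simp [n1, n2, n3], rfl, by simp [ha, hb, hc], fun x hx y hy => ?_, by simp [mul_assoc]⟩
  simp only [List.mem_cons, List.not_mem_nil, or_false] at hx hy
  rcases hx with rfl | rfl | rfl <;> rcases hy with rfl | rfl | rfl
  exacts [Commute.refl _, c1, c2, c1.symm, Commute.refl _, c3, c2.symm, c3.symm, Commute.refl _]

omit [Finite G] in
theorem isProd_cases {m : ℕ} {x : G} (h1 : 1 ≤ m) (h3 : m ≤ 3) (h : IsProd D m x) :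
    (m = 1 ∧ x ∈ D) ∨ (m = 2 ∧ ∃ a ∈ D, ∃ b ∈ adj D a, x = a * b) ∨
      (m = 3 ∧ ∃ a b c, IsTriple D a b c ∧ x = a * b * c) := by
  obtain ⟨l, hn, hlen, hD, hc, rfl⟩ := h
  match l, hlen with
  | [], h => simp at h; omega
  | [a], h => exact Or.inl ⟨by simpa using h.symm, by simpa using hD a (by simp)⟩
  | [a, b], h =>
    exact Or.inr (Or.inl ⟨by simpa using h.symm, a, hD a (by simp), b,
      ⟨hD b (by simp), fun e => by simp [e] at hn, hc a (by simp) b (by simp)⟩, by simp⟩)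
  | [a, b, c], h =>
    simp only [List.nodup_cons, List.mem_cons, List.not_mem_nil, or_false, not_or, not_false_eq_true,
      List.nodup_nil, and_true] at hn
    exact Or.inr (Or.inr ⟨by simpa using h.symm, a, b, c, ⟨hD a (by simp), hD b (by simp), hD c (by simp),
      hn.1.1, hn.1.2, hn.2, hc a (by simp) b (by simp), hc a (by simp) c (by simp),
      hc b (by simp) c (by simp)⟩, by simp [mul_assoc]⟩)
  | a :: b :: c :: d :: l, h => simp at h; omega

/-- A member times the product of three independent neighbours is the product of three members. -/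
theorem four_reduce {F : Type*} [Field F] [Fintype F] (S : Fi22Setup D) {a : G} (ha : a ∈ D)
    {pt : (Fin 6 → F) → G} (M : PointModel D a pt) {u v w : Fin 6 → F}
    (horth : ∀ p ∈ [u, v, w], ∀ q ∈ [u, v, w], hf p q = 0)
    (hli : ∀ α β γ : F, α • u + β • v + γ • w = 0 → α = 0 ∧ β = 0 ∧ γ = 0) :
    IsProd D 3 (a * (pt u * pt v * pt w)) := by
  have hF := M.card
  obtain ⟨ω, hω0, hω⟩ := exists_omega hF
  have hω1 : ω ≠ 1 := fun e => by
    rw [e] at hω; exact one_ne_zero (show (1 : F) = 0 by linear_combination -hω)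
  have hu : Iso u := ⟨fun e => one_ne_zero (hli 1 0 0 (by simp [e])).1, horth u (by simp) u (by simp)⟩
  have hv : Iso v := ⟨fun e => one_ne_zero (hli 0 1 0 (by simp [e])).2.1, horth v (by simp) v (by simp)⟩
  have hw : Iso w := ⟨fun e => one_ne_zero (hli 0 0 1 (by simp [e])).2.2, horth w (by simp) w (by simp)⟩
  have hiso : ∀ t, ∀ p ∈ ovalPts ω t u v w, Iso p := by
    intro t p hp
    refine ⟨fun h0 => ?_, ?_⟩
    · simp only [ovalPts, List.mem_cons, List.not_mem_nil, or_false] at hp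
      rcases hp with rfl | rfl | rfl | rfl | rfl | rfl
      · exact hu.1 h0
      · exact hv.1 h0
      · exact hw.1 h0
      all_goals
        exact one_ne_zero (hli 1 _ _ (by rw [one_smul]; first | exact h0 | (rw [one_smul]; exact h0))).1
    · obtain ⟨_, _, _, rfl⟩ := ovalPts_comb ω t u v w p hp
      exact comb_orth hF horth _ _ _ _ _ _
  have ne_of : ∀ {p q : Fin 6 → F}, Iso p → Iso q → ∀ α β γ α' β' γ' : F,
      p = α • u + β • v + γ • w → q = α' • u + β' • v + γ' • w →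
      (α * β' ≠ α' * β ∨ α * γ' ≠ α' * γ ∨ β * γ' ≠ β' * γ) → pt p ≠ pt q := by
    intro p q hp hq α β γ α' β' γ' ep eq hne e
    obtain ⟨c, -, e1⟩ := M.inj p q hp hq e
    rw [ep, eq, smul_add, smul_add, smul_smul, smul_smul, smul_smul] at e1
    obtain ⟨q1, q2, q3⟩ := hli (α' - c * α) (β' - c * β) (γ' - c * γ) (by
      rw [sub_smul, sub_smul, sub_smul,
        show α' • u - (c * α) • u + (β' • v - (c * β) • v) + (γ' • w - (c * γ) • w)
          = α' • u + β' • v + γ' • w - ((c * α) • u + (c * β) • v + (c * γ) • w) by abel,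
        e1, sub_self])
    rcases hne with h | h | h
    · exact h (by linear_combination α * q2 - β * q1)
    · exact h (by linear_combination α * q3 - γ * q1)
    · exact h (by linear_combination β * q3 - γ * q2)
  have eu : u = (1 : F) • u + (0 : F) • v + (0 : F) • w := by simp
  have ev : v = (0 : F) • u + (1 : F) • v + (0 : F) • w := by simp
  have ew : w = (0 : F) • u + (0 : F) • v + (1 : F) • w := by simp
  set x1 : F → (Fin 6 → F) := fun t => u + v + t • w with hx1
  set x2 : F → (Fin 6 → F) := fun t => u + ω • v + (ω ^ 2 * t) • w with hx2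
  set x3 : F → (Fin 6 → F) := fun t => u + ω ^ 2 • v + (ω * t) • w with hx3
  have m1 : ∀ t, x1 t ∈ ovalPts ω t u v w := fun t => by simp [ovalPts, hx1]
  have m2 : ∀ t, x2 t ∈ ovalPts ω t u v w := fun t => by simp [ovalPts, hx2]
  have m3 : ∀ t, x3 t ∈ ovalPts ω t u v w := fun t => by simp [ovalPts, hx3]
  have c1 : ∀ t, x1 t = (1 : F) • u + (1 : F) • v + t • w := fun t => by simp [hx1]
  have c2 : ∀ t, x2 t = (1 : F) • u + ω • v + (ω ^ 2 * t) • w := fun t => by simp [hx2]
  have c3 : ∀ t, x3 t = (1 : F) • u + ω ^ 2 • v + (ω * t) • w := fun t => by simp [hx3]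
  have hω2 : ω ^ 2 ≠ 1 := fun e => hω0 (by linear_combination e - hω)
  have hω3 : ω ^ 2 ≠ ω := fun e => one_ne_zero (show (1 : F) = 0 by linear_combination e - hω)
  have n12 : ∀ t s, pt (x1 t) ≠ pt (x2 s) := fun t s =>
    ne_of (hiso t _ (m1 t)) (hiso s _ (m2 s)) _ _ _ _ _ _ (c1 t) (c2 s) (Or.inl (by simpa using hω1))
  have n13 : ∀ t s, pt (x1 t) ≠ pt (x3 s) := fun t s =>
    ne_of (hiso t _ (m1 t)) (hiso s _ (m3 s)) _ _ _ _ _ _ (c1 t) (c3 s) (Or.inl (by simpa using hω2))
  have n23 : ∀ t, pt (x2 t) ≠ pt (x3 t) := fun t =>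
    ne_of (hiso t _ (m2 t)) (hiso t _ (m3 t)) _ _ _ _ _ _ (c2 t) (c3 t) (Or.inl (by simpa using hω3))
  have hD1 : ∀ t, ∀ p ∈ ovalPts ω t u v w, pt p ∈ D := fun t p hp => (M.mem p (hiso t p hp)).1
  have cm : ∀ t, ∀ p ∈ ovalPts ω t u v w, ∀ q ∈ ovalPts ω t u v w, Commute (pt p) (pt q) := fun t p hp q hq =>
    (M.comm p q (hiso t p hp) (hiso t q hq)).2 (by
      obtain ⟨_, _, _, rfl⟩ := ovalPts_comb ω t u v w p hp
      obtain ⟨_, _, _, rfl⟩ := ovalPts_comb ω t u v w q hq
      exact comb_orth hF horth _ _ _ _ _ _)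
  have hTx : ∀ t, IsTriple D (pt (x1 t)) (pt (x2 t)) (pt (x3 t)) := fun t =>
    ⟨hD1 t _ (m1 t), hD1 t _ (m2 t), hD1 t _ (m3 t), n12 t t, n13 t t, n23 t, cm t _ (m1 t) _ (m2 t),
      cm t _ (m1 t) _ (m3 t), cm t _ (m2 t) _ (m3 t)⟩
  have hTu : IsTriple D (pt u) (pt v) (pt w) :=
    ⟨(M.mem u hu).1, (M.mem v hv).1, (M.mem w hw).1, ne_of hu hv _ _ _ _ _ _ eu ev (Or.inl (by simp)),
      ne_of hu hw _ _ _ _ _ _ eu ew (Or.inr (Or.inl (by simp))),
      ne_of hv hw _ _ _ _ _ _ ev ew (Or.inr (Or.inr (by simp))), (M.comm u v hu hv).2 (horth u (by simp) v (by simp)),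
      (M.comm u w hu hw).2 (horth u (by simp) w (by simp)), (M.comm v w hv hw).2 (horth v (by simp) w (by simp))⟩
  have hsq : ∀ {p q r : G}, IsTriple D p q r → p * q * r * (p * q * r) = 1 := by
    intro p q r ⟨hp, hq, hr, _, _, _, k1, k2, k3⟩
    calc p * q * r * (p * q * r) = p * q * (r * (p * q)) * r := by simp only [mul_assoc]
      _ = p * (q * p) * q * (r * r) := by rw [(k2.symm.mul_right k3.symm).eq]; simp only [mul_assoc]
      _ = 1 := by
        rw [← k1.eq]
        simp only [mul_assoc, mul_self_cancel S.cls.1 hp, mul_self S.cls.1 hq, mul_self S.cls.1 hr, mul_one,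
          mul_self_cancel S.cls.1 hq]
  have hval : ∀ t, t ≠ 0 → pt u * pt v * pt w * (pt (x1 t) * pt (x2 t) * pt (x3 t)) = 1 ∨
      pt u * pt v * pt w * (pt (x1 t) * pt (x2 t) * pt (x3 t)) = a := by
    intro t ht
    have e : ((ovalPts ω t u v w).map pt).prod = pt u * pt v * pt w * (pt (x1 t) * pt (x2 t) * pt (x3 t)) := by
      simp [ovalPts, hx1, hx2, hx3, mul_assoc]
    rw [← e]
    exact eq_one_or_self S ha
      (Commute.list_prod_left _ _ fun y hy => by
        obtain ⟨p, hp, rfl⟩ := List.mem_map.1 hy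
        exact (M.mem p (hiso t p hp)).2.2.symm)
      fun y hy => (M.rel _ (hiso t) (tv_hyperoval hF hω ht horth) y hy).symm
  have good : ∀ t, pt u * pt v * pt w * (pt (x1 t) * pt (x2 t) * pt (x3 t)) = a →
      IsProd D 3 (a * (pt u * pt v * pt w)) := by
    intro t h
    have hcomm : Commute (pt u * pt v * pt w) (pt (x1 t) * pt (x2 t) * pt (x3 t)) := by
      have k : ∀ q ∈ ovalPts ω t u v w, Commute (pt u * pt v * pt w) (pt q) := fun q hq =>
        ((cm t u (by simp [ovalPts]) q hq).mul_left (cm t v (by simp [ovalPts]) q hq)).mul_left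
          (cm t w (by simp [ovalPts]) q hq)
      exact ((k _ (m1 t)).mul_right (k _ (m2 t))).mul_right (k _ (m3 t))
    rw [← h, hcomm.eq, mul_assoc, hsq hTu, mul_one]
    exact isProd_three (hTx t)
  rcases hval 1 one_ne_zero with h1 | h1
  swap
  · exact good 1 h1
  rcases hval ω hω0 with h2 | h2
  swap
  · exact good ω h2
  exfalso
  obtain ⟨d, e, f, -, -, -, hset⟩ := triple_set S hTu
  have hin : ∀ t, pt u * pt v * pt w * (pt (x1 t) * pt (x2 t) * pt (x3 t)) = 1 →
      pt (x1 t) ∈ [d, e, f] ∧ pt (x2 t) ∈ [d, e, f] ∧ pt (x3 t) ∈ [d, e, f] := by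
    intro t h
    have e1 : pt (x1 t) * pt (x2 t) * pt (x3 t) = pt u * pt v * pt w :=
      mul_left_cancel (h.trans (hsq hTu).symm)
    refine (hset _ _ _ (hTx t) e1).resolve_left fun hh => ?_
    have h1' := hh.1
    simp only [List.mem_cons, List.not_mem_nil, or_false] at h1'
    rcases h1' with h' | h' | h'
    · exact ne_of (hiso t _ (m1 t)) hu _ _ _ _ _ _ (c1 t) eu (Or.inl (by simp)) h'
    · exact ne_of (hiso t _ (m1 t)) hv _ _ _ _ _ _ (c1 t) ev (Or.inl (by simp)) h'
    · exact ne_of (hiso t _ (m1 t)) hw _ _ _ _ _ _ (c1 t) ew (Or.inr (Or.inl (by simp))) h'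
  have n11 : pt (x1 1) ≠ pt (x1 ω) :=
    ne_of (hiso 1 _ (m1 1)) (hiso ω _ (m1 ω)) _ _ _ _ _ _ (c1 1) (c1 ω)
      (Or.inr (Or.inl (by simpa using hω1)))
  have hnd4 : [pt (x1 1), pt (x2 1), pt (x3 1), pt (x1 ω)].Nodup := by
    simp only [List.nodup_cons, List.mem_cons, List.not_mem_nil, or_false, not_or, List.nodup_nil,
      and_true, not_false_eq_true]
    exact ⟨⟨n12 1 1, n13 1 1, n11⟩, ⟨n23 1, (n12 ω 1).symm⟩, (n13 ω 1).symm⟩
  have := (List.subperm_of_subset hnd4 (l₂ := [d, e, f]) fun y hy => by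
    simp only [List.mem_cons, List.not_mem_nil, or_false] at hy
    rcases hy with rfl | rfl | rfl | rfl
    exacts [(hin 1 h1).1, (hin 1 h1).2.1, (hin 1 h1).2.2, (hin ω h2).1]).length_le
  simp at this

/-- Every element of order two is the product of at most three commuting members. -/
theorem involution_prod (S : Fi22Setup D) {x : G} (hx : x * x = 1) (hx1 : x ≠ 1) :
    ∃ m, 1 ≤ m ∧ m ≤ 3 ∧ IsProd D m x := by
  obtain ⟨a, ha, hxa⟩ := exists_fixed_member S hx
  have hxL : x ∈ Loc D a := by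
    rw [← centralizer_eq_loc S ha]; exact Subgroup.mem_centralizer_singleton_iff.2 hxa
  obtain ⟨F, _, _, pt, θ, L⟩ := exists_locModel S ha
  have M := L.M
  have hF := M.card
  obtain ⟨y, hy, hyθ⟩ := exists_lift_involution hF (by norm_num) (c := θ ⟨x, hxL⟩) (by
    rw [← map_mul, show (⟨x, hxL⟩ : ↥(Loc D a)) * ⟨x, hxL⟩ = 1 from Subtype.ext hx, map_one])
  obtain ⟨m, u, hli, horth, rfl⟩ := exists_indep hF y hy
  have hI : ∀ i, Iso (u i) := fun i => ⟨hli.ne_zero i, horth i i⟩
  have hm : m ≤ 3 := by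
    have := two_mul_le hF hli horth
    omega
  let P : ↥(Loc D a) := (List.ofFn fun i => (⟨pt (u i), Subgroup.subset_closure (M.mem _ (hI i))⟩ : ↥(Loc D a))).prod
  have hP : θ P = θ ⟨x, hxL⟩ := by
    rw [← hyθ, map_list_prod, map_list_prod, List.map_ofFn, List.map_ofFn]
    exact congrArg List.prod (congrArg List.ofFn (funext fun i => L.image _ (hI i) _))
  have hPv : (P : G) = (List.ofFn fun i => pt (u i)).prod := by
    simp only [P, Subgroup.val_list_prod, List.map_ofFn]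
    rfl
  have hz : θ (⟨x, hxL⟩ * P⁻¹) = 1 := by rw [map_mul, map_inv, hP, mul_inv_cancel]
  have hcase : x = (P : G) ∨ x = a * (P : G) := by
    rcases (mem_center_loc_iff S ha _).1 (L.ker _ hz) with h | h <;>
      rw [Subgroup.coe_mul, Subgroup.coe_inv] at h
    · exact Or.inl (mul_inv_eq_one.1 h)
    · exact Or.inr (mul_inv_eq_iff_eq_mul.1 h)
  have hadj : ∀ i, pt (u i) ∈ adj D a := fun i => M.mem _ (hI i)
  have hne : ∀ i j, i ≠ j → pt (u i) ≠ pt (u j) := fun i j hij e => by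
    obtain ⟨c, hc, e'⟩ := M.inj _ _ (hI i) (hI j) e
    refine hc ?_
    have := Fintype.linearIndependent_iff.1 hli (Pi.single i c - Pi.single j 1) (by
      simp only [Pi.sub_apply, sub_smul, Finset.sum_sub_distrib]
      rw [Finset.sum_eq_single i (by intro b _ hb; simp [hb]) (by simp),
        Finset.sum_eq_single j (by intro b _ hb; simp [hb]) (by simp)]
      simp [← e']) i
    simpa [hij] using this
  have hcm : ∀ i j, Commute (pt (u i)) (pt (u j)) := fun i j => (M.comm _ _ (hI i) (hI j)).2 (horth i j)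
  rw [hPv] at hcase
  match m, u, hm, hI, hli, horth, hadj, hne, hcm, hcase with
  | 0, u, _, _, _, _, _, _, _, hcase =>
    simp only [List.ofFn_zero, List.prod_nil, mul_one] at hcase
    exact ⟨1, le_rfl, by norm_num, hcase.resolve_left hx1 ▸ isProd_one ha⟩
  | 1, u, _, _, _, _, hadj, _, _, hcase =>
    simp only [List.ofFn_succ, List.ofFn_zero, List.prod_cons, List.prod_nil, mul_one] at hcase
    rcases hcase with rfl | rfl
    · exact ⟨1, le_rfl, by norm_num, isProd_one (hadj 0).1⟩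
    · exact ⟨2, by norm_num, by norm_num, isProd_two ha (hadj 0)⟩
  | 2, u, _, _, _, _, hadj, hne, hcm, hcase =>
    simp only [List.ofFn_succ, List.ofFn_zero, List.prod_cons, List.prod_nil, mul_one] at hcase
    rcases hcase with rfl | rfl
    · exact ⟨2, by norm_num, by norm_num,
        isProd_two (hadj 0).1 ⟨(hadj 1).1, hne 1 0 (by decide), hcm 0 1⟩⟩
    · refine ⟨3, by norm_num, le_rfl, ?_⟩
      rw [← mul_assoc]
      exact isProd_three ⟨ha, (hadj 0).1, (hadj 1).1, (hadj 0).2.1.symm, (hadj 1).2.1.symm,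
        hne 0 1 (by decide), (hadj 0).2.2, (hadj 1).2.2, hcm 0 1⟩
  | 3, u, _, _, hli, horth, hadj, hne, hcm, hcase =>
    simp only [List.ofFn_succ, List.ofFn_zero, List.prod_cons, List.prod_nil, mul_one] at hcase
    refine ⟨3, by norm_num, le_rfl, ?_⟩
    rcases hcase with rfl | rfl
    · rw [← mul_assoc]
      exact isProd_three ⟨(hadj 0).1, (hadj 1).1, (hadj 2).1, hne 0 1 (by decide), hne 0 2 (by decide),
        hne 1 2 (by decide), hcm 0 1, hcm 0 2, hcm 1 2⟩
    · have := four_reduce S ha M (u := u 0) (v := u 1) (w := u 2) (fun p hp q hq => by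
        simp only [List.mem_cons, List.not_mem_nil, or_false] at hp hq
        rcases hp with rfl | rfl | rfl <;> rcases hq with rfl | rfl | rfl <;> exact horth _ _)
        (fun α β γ h => by
          have := Fintype.linearIndependent_iff.1 hli ![α, β, γ] (by rw [Fin.sum_univ_three]; exact h)
          exact ⟨this 0, this 1, this 2⟩)
      rw [mul_assoc (pt (u 0))] at this
      exact this
  | m + 4, _, hm, _, _, _, _, _, _, _ => omega

theorem common_pair_nonempty (S : Fi22Setup D) {a b : G} (ha : a ∈ D) (hb : b ∈ adj D a) :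
    ∃ c, IsTriple D a b c := by
  obtain ⟨c, hc⟩ : (adj D a ∩ adj D b).Nonempty := by
    rw [← Set.ncard_pos (Set.toFinite _), common_ncard S ha hb]; norm_num
  exact ⟨c, ha, hb.1, hc.1.1, hb.2.1.symm, hc.1.2.1.symm, hc.2.2.1.symm, hb.2.2, hc.1.2.2, hc.2.2.2⟩

theorem pair_conj (S : Fi22Setup D) {a b a' b' : G} (ha : a ∈ D) (hb : b ∈ adj D a) (ha' : a' ∈ D)
    (hb' : b' ∈ adj D a') : ∃ g, g * a * g⁻¹ = a' ∧ g * b * g⁻¹ = b' := by
  obtain ⟨c, hc⟩ := common_pair_nonempty S ha hb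
  obtain ⟨c', hc'⟩ := common_pair_nonempty S ha' hb'
  obtain ⟨g, h1, h2, -⟩ := triple_conj S hc hc'
  exact ⟨g, h1, h2⟩

theorem pair_product_unique (S : Fi22Setup D) {a b a' b' : G} (ha : a ∈ D) (hb : b ∈ adj D a) (ha' : a' ∈ D)
    (hb' : b' ∈ adj D a') (e : a' * b' = a * b) : a' = a ∨ a' = b := by
  have hD := S.cls.1
  obtain ⟨c, hc, hcn⟩ : ∃ c ∈ adj D a ∩ adj D b, c ∉ ({a', b'} : Set G) := by
    by_contra h
    have hsub : adj D a ∩ adj D b ⊆ {a', b'} := fun c hc => by_contra fun h' => h ⟨c, hc, h'⟩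
    have h1 := Set.ncard_le_ncard hsub (Set.toFinite _)
    rw [common_ncard S ha hb] at h1
    have h2 := Set.ncard_insert_le a' ({b'} : Set G)
    rw [Set.ncard_singleton] at h2
    omega
  simp only [Set.mem_insert_iff, Set.mem_singleton_iff, not_or] at hcn
  have hT : IsTriple D a b c :=
    ⟨ha, hb.1, hc.1.1, hb.2.1.symm, hc.1.2.1.symm, hc.2.2.1.symm, hb.2.2, hc.1.2.2, hc.2.2.2⟩
  have hcc : Commute c a' ∧ Commute c b' := (commute_mul_iff hD ha' hb'.1 hc.1.1 hb'.2.1.symm hb'.2.2).1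
    (e ▸ hc.1.2.2.symm.mul_right hc.2.2.2.symm)
  obtain ⟨d, e', f, -, hnd, -, hset⟩ := triple_set S hT
  rcases hset a' b' c ⟨ha', hb'.1, hc.1.1, hb'.2.1.symm, Ne.symm hcn.1, Ne.symm hcn.2, hb'.2.2, hcc.1.symm,
    hcc.2.symm⟩ (by rw [e]) with ⟨h1, -, -⟩ | ⟨-, -, h3⟩
  · simp only [List.mem_cons, List.not_mem_nil, or_false] at h1
    exact h1.imp id fun h => h.resolve_right fun h' => hcn.1 h'.symm
  · exfalso
    simp only [List.nodup_cons, List.mem_cons, List.not_mem_nil, or_false, not_or] at hnd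
    simp only [List.mem_cons, List.not_mem_nil, or_false] at h3
    rcases h3 with h | h | h
    exacts [hnd.2.2.1.1 h, hnd.2.2.1.2.1 h, hnd.2.2.1.2.2 h]

theorem pair_fix_card (S : Fi22Setup D) {a b : G} (ha : a ∈ D) (hb : b ∈ adj D a) :
    Nat.card ↥(Subgroup.centralizer ({a} : Set G) ⊓ Subgroup.centralizer {b}) = 26542080 := by
  rw [centralizer_eq_loc S ha]
  have h := card_orbit_mul (Loc D a) b b
  have e : {p : G × G | ∃ g ∈ Loc D a, g * b * g⁻¹ = p.1 ∧ g * b * g⁻¹ = p.2}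
      = (fun y : G => (y, y)) '' adj D a := by
    ext ⟨u, w⟩
    constructor
    · rintro ⟨g, hg, rfl, rfl⟩
      exact ⟨_, conj_mem_adj_loc S ⟨g, hg⟩ hb, rfl⟩
    · rintro ⟨y, hy, e'⟩
      obtain ⟨rfl, rfl⟩ := Prod.ext_iff.1 e'
      obtain ⟨g, hg1, hg2⟩ := pair_conj S ha hb ha hy
      refine ⟨g, ?_, hg2, hg2⟩
      rw [← centralizer_eq_loc S ha]
      exact Subgroup.mem_centralizer_singleton_iff.2 (mul_inv_eq_iff_eq_mul.1 hg1)
  rw [e, Set.ncard_image_of_injective _ fun x y h => congrArg Prod.fst h, adj_ncard S ha, loc_card S ha,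
    inf_assoc, inf_idem] at h
  omega

theorem pair_centralizer_card (S : Fi22Setup D) {a b : G} (ha : a ∈ D) (hb : b ∈ adj D a) :
    Nat.card ↥(Subgroup.centralizer ({a * b} : Set G)) = 53084160 := by
  set C := Subgroup.centralizer ({a * b} : Set G) with hC
  have memC : ∀ g, g ∈ C ↔ g * (a * b) = a * b * g := fun g => Subgroup.mem_centralizer_singleton_iff
  have h := card_orbit_mul C a a
  have e : {p : G × G | ∃ g ∈ C, g * a * g⁻¹ = p.1 ∧ g * a * g⁻¹ = p.2} = {(a, a), (b, b)} := by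
    ext ⟨u, w⟩
    simp only [Set.mem_ofPred_eq, Set.mem_insert_iff, Set.mem_singleton_iff, Prod.mk.injEq]
    constructor
    · rintro ⟨g, hg, rfl, rfl⟩
      rcases pair_product_unique S ha hb (S.conj_mem g ha) ((conj_adj S.grp.2.1 g a (g * b * g⁻¹)).2
          (by simpa [mul_assoc] using hb)) (by
        rw [show g * a * g⁻¹ * (g * b * g⁻¹) = g * (a * b) * g⁻¹ by group, (memC g).1 hg, mul_inv_cancel_right])
        with h | h
      · exact Or.inl ⟨h, h⟩
      · exact Or.inr ⟨h, h⟩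
    · rintro (⟨eu, ew⟩ | ⟨eu, ew⟩) <;> rw [eu, ew]
      · exact ⟨1, one_mem _, by simp, by simp⟩
      · obtain ⟨g, h1, h2⟩ := pair_conj S ha hb hb.1 (adj_symm ha hb)
        refine ⟨g, (memC g).2 ?_, h1, h1⟩
        calc g * (a * b) = (g * a * g⁻¹) * (g * b * g⁻¹) * g := by group
          _ = a * b * g := by rw [h1, h2, ← hb.2.2.eq]
  have hK : C ⊓ Subgroup.centralizer {a} = Subgroup.centralizer ({a} : Set G) ⊓ Subgroup.centralizer {b} := by
    ext g
    simp only [Subgroup.mem_inf, memC, Subgroup.mem_centralizer_singleton_iff]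
    constructor
    · rintro ⟨h1, h2⟩
      refine ⟨h2, mul_left_cancel (a := a) ?_⟩
      calc a * (g * b) = g * (a * b) := by rw [← mul_assoc, ← h2, mul_assoc]
        _ = a * (b * g) := by rw [h1, mul_assoc]
    · rintro ⟨h2, h3⟩
      exact ⟨(show Commute g a from h2).mul_right (show Commute g b from h3), h2⟩
  rw [e, Set.ncard_pair (fun h' => hb.2.1 (Prod.ext_iff.1 h').1.symm), inf_assoc, inf_idem, hK,
    pair_fix_card S ha hb] at h
  rw [h]

theorem prod_centralizer_card (S : Fi22Setup D) {m : ℕ} {x : G} (h1 : 1 ≤ m) (h3 : m ≤ 3) (h : IsProd D m x) :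
    (m = 1 ∧ Nat.card ↥(Subgroup.centralizer ({x} : Set G)) = 18393661440) ∨
      (m = 2 ∧ Nat.card ↥(Subgroup.centralizer ({x} : Set G)) = 53084160) ∨
      (m = 3 ∧ Nat.card ↥(Subgroup.centralizer ({x} : Set G)) = 1769472) := by
  rcases isProd_cases h1 h3 h with ⟨rfl, hx⟩ | ⟨rfl, a, ha, b, hb, rfl⟩ | ⟨rfl, a, b, c, hT, rfl⟩
  · exact Or.inl ⟨rfl, by rw [centralizer_eq_loc S hx, loc_card S hx]⟩
  · exact Or.inr (Or.inl ⟨rfl, pair_centralizer_card S ha hb⟩)
  · exact Or.inr (Or.inr ⟨rfl, triple_centralizer_card S hT⟩)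

theorem prod_unique (S : Fi22Setup D) {m m' : ℕ} {x : G} (h1 : 1 ≤ m) (h3 : m ≤ 3) (h1' : 1 ≤ m') (h3' : m' ≤ 3)
    (h : IsProd D m x) (h' : IsProd D m' x) : m = m' := by
  have := prod_centralizer_card S h1 h3 h
  have := prod_centralizer_card S h1' h3' h'
  omega

theorem prod_ne_one (S : Fi22Setup D) {m : ℕ} {x : G} (h1 : 1 ≤ m) (h3 : m ≤ 3) (h : IsProd D m x) : x ≠ 1 := by
  rintro rfl
  have h' := prod_centralizer_card S h1 h3 h
  have e : Nat.card ↥(Subgroup.centralizer ({1} : Set G)) = Nat.card G := by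
    rw [show Subgroup.centralizer ({1} : Set G) = ⊤ from
      eq_top_iff.2 fun g _ => Subgroup.mem_centralizer_singleton_iff.2 (by simp), Subgroup.card_top]
  rw [e, group_card S] at h'
  omega

theorem prod_conj (S : Fi22Setup D) {m : ℕ} {x y : G} (h1 : 1 ≤ m) (h3 : m ≤ 3) (hx : IsProd D m x)
    (hy : IsProd D m y) : IsConj x y := by
  rw [isConj_iff]
  rcases isProd_cases h1 h3 hx with ⟨rfl, hx'⟩ | ⟨rfl, a, ha, b, hb, rfl⟩ | ⟨rfl, a, b, c, hT, rfl⟩ <;>
    rcases isProd_cases h1 h3 hy with ⟨e, hy'⟩ | ⟨e, a', ha', b', hb', rfl⟩ | ⟨e, a', b', c', hT', rfl⟩ <;>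
    first
      | omega
      | exact class_conj S.cls hx' hy'
      | (obtain ⟨g, k1, k2⟩ := pair_conj S ha hb ha' hb'
         exact ⟨g, by rw [← k1, ← k2]; group⟩)
      | (obtain ⟨g, k1, k2, k3⟩ := triple_conj S hT hT'
         exact ⟨g, by rw [← k1, ← k2, ← k3]; group⟩)

theorem prod_order (S : Fi22Setup D) {m : ℕ} {x : G} (h1 : 1 ≤ m) (h3 : m ≤ 3) (h : IsProd D m x) :
    orderOf x = 2 := by
  refine orderOf_eq_prime ?_ (prod_ne_one S h1 h3 h)
  obtain ⟨l, -, -, hD, hc, rfl⟩ := h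
  clear h1 h3
  induction l with
  | nil => simp
  | cons a l ih =>
    rw [List.prod_cons, (Commute.list_prod_right l a fun y hy => hc a (by simp) y (by simp [hy])).mul_pow,
      ih (fun y hy => hD y (by simp [hy])) (fun y hy z hz => hc y (by simp [hy]) z (by simp [hz])), pow_two,
      mul_self S.cls.1 (hD a (by simp)), one_mul]

theorem exists_isProd (S : Fi22Setup D) {m : ℕ} (h1 : 1 ≤ m) (h3 : m ≤ 3) : ∃ x : G, IsProd D m x := by
  obtain ⟨a, ha, -⟩ := S.two_members
  obtain ⟨b, hb⟩ := S.adj_nonempty ha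
  obtain ⟨c, hc⟩ := common_pair_nonempty S ha hb
  rcases (by omega : m = 1 ∨ m = 2 ∨ m = 3) with rfl | rfl | rfl
  exacts [⟨a, isProd_one ha⟩, ⟨_, isProd_two ha hb⟩, ⟨_, isProd_three hc⟩]

end Cfsg.Agent.FischerM22
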