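/-
Totals for a group of type M(22).

Main results (namespace `Cfsg.Agent.FischerM22`):
* `proj_refl_dvd` : orders of the projective reflection groups in dimension six over three elements;
* `common_card` : two non-commuting members have 126 common neighbours;
* `class_ncard`, `group_card` : `|D| = 3510`, `|G| = 64561751654400`;
* `width_eq` : at most 22 members commute pairwise, and 22 occur.
-/
import Cfsg.Agent.Lib.FischerM22.Order

set_option autoImplicit false

namespace Cfsg.Agent.FischerM22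

open Cfsg.Agent.Unitary Cfsg.Agent.U62Cover Cfsg.Agent.ThreeTrans Cfsg.Agent.ThreeTransSU

theorem proj_refl_dvd {X : Type*} [Group X] {μ c : ZMod 3} (hc : c ≠ 0)
    (h : Cfsg.IsProjReflectionGroupModThree X 6 μ c) : 729 * 13 ∣ Nat.card X ∨ 729 * 7 ∣ Nat.card X := by
  obtain ⟨Q, hQ, -, ⟨e⟩⟩ := h
  have hn : 5 ≤ Fintype.card (Fin 6) := by simp
  have hG := good_three hQ
  rw [Nat.card_congr e.toEquiv]
  set R := Cfsg.reflectionSubgroup (⇑Q) c with hR
  have hZ : IsPGroup 2 ↥(Subgroup.center ↥R) := fun z => by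
    refine ⟨2, Subtype.ext (Subtype.ext ?_)⟩
    set g : Orth.IsoGrp Q := ((z : ↥R) : Orth.IsoGrp Q) with hg
    have h2 : g * g ∈ Cfsg.Omega (ZMod 3) ⇑Q := by
      rw [Orth.mem_omega_iff hG, Orth.dick_mul hG, Orth.spin_mul hG]
      exact ⟨by rcases Orth.dick_eq_or g with h | h <;> simp [h],
        by rcases Orth.spin_eq_or hG g with h | h <;> simp [h]⟩
    have hcen : (⟨g * g, h2⟩ : ↥(Cfsg.Omega (ZMod 3) ⇑Q)) ∈ Subgroup.center _ :=
      Subgroup.mem_center_iff.2 fun w => by
        have hw := congrArg Subtype.val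
          (Subgroup.mem_center_iff.1 z.2 ⟨(w : Orth.IsoGrp Q), omega_le_reflSub hQ hn hc w.2⟩)
        change (w : Orth.IsoGrp Q) * g = g * w at hw
        exact Subtype.ext (show (w : Orth.IsoGrp Q) * (g * g) = g * g * w by
          rw [← mul_assoc, hw, mul_assoc, hw, mul_assoc])
    obtain ⟨a, ha, hga⟩ := (Orth.mem_center_omega_iff hQ (by simp)
      (Orth.omega_eq_eichGen hG (by simp) (.inr hn)).ge _).1 hcen
    show g ^ 2 ^ 2 = 1
    rw [show g ^ 2 ^ 2 = (g * g) * (g * g) by rw [show (2 ^ 2 : ℕ) = 4 from rfl]; simp [pow_succ, mul_assoc]]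
    refine Orth.ext_ap fun x => ?_
    rw [Orth.ap_mul, hga, hga, smul_smul, ha, one_smul, Orth.ap_one]
  obtain ⟨k, hk⟩ := hZ.exists_card_eq
  have hO : Nat.card (Orth.IsoGrp Q) = Nat.card (↥R ⧸ Subgroup.center ↥R) * 2 ^ (k + 1) := by
    rw [← Subgroup.card_mul_index R, hR, reflSub_index hQ hn hc, ← hR,
      Subgroup.card_eq_card_quotient_mul_card_subgroup (Subgroup.center ↥R), hk, pow_succ, mul_assoc]
  have fin : ∀ n, Nat.Coprime n 2 → n ∣ Nat.card (Orth.IsoGrp Q) →
      n ∣ Nat.card (↥R ⧸ Subgroup.center ↥R) := fun n hn2 hd => by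
    rw [hO] at hd
    exact (Nat.Coprime.pow_right (k + 1) hn2).dvd_of_dvd_mul_right hd
  have hab : ∀ x y : ZMod 3, x ^ 2 + 0 * x * y + 1 * y ^ 2 = 0 → x = 0 ∧ y = 0 := by decide
  have : Fact (Nat.Prime 3) := ⟨Nat.prime_three⟩
  rcases Forms.classify_even Q hQ (m := 3) (by simp) hab with ⟨f, hf⟩ | ⟨-, f, hf⟩
  · refine Or.inl (fin _ (by decide +kernel) ?_)
    rw [← Nat.card_congr ((Forms.isometryGroupEquiv (Cfsg.quadFormPlus 3 (ZMod 3))).trans
      ((Forms.preservingFunCongr (Cfsg.quadFormPlus 3 (ZMod 3)) (⇑Q) f 1 one_ne_zero fun v => by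
        rw [hf, Forms.qfPlus_apply, one_mul]).trans (Forms.isometryGroupEquiv (⇑Q)).symm)).toEquiv,
      S0287.result (ZMod.card 3) 3 (by norm_num)]
    simp [Finset.prod_range_succ]
  · refine Or.inr (fin _ (by decide +kernel) ?_)
    rw [← Nat.card_congr ((Forms.isometryGroupEquiv (Cfsg.quadFormMinus (3 - 1) (ZMod 3) 0 1)).trans
      ((Forms.preservingFunCongr (Cfsg.quadFormMinus (3 - 1) (ZMod 3) 0 1) (⇑Q) f 1 one_ne_zero fun v => by
        rw [hf, Forms.qfMinus_apply, one_mul]).trans (Forms.isometryGroupEquiv (⇑Q)).symm)).toEquiv,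
      S0288.result (ZMod.card 3) 3 (by norm_num) 0 1 hab]
    simp [Finset.prod_range_succ]

variable {G : Type*} [Group G] [Finite G] {D : Set G}

/-- Two non-commuting members have 126 common neighbours. -/
theorem common_card (S : Fi22Setup D) {a e : G} (ha : a ∈ D) (he : e ∈ D) (hae : ¬ Commute a e) :
    (common D a e).ncard = 126 := by
  suffices h0 : ∃ d ∈ D, ∃ c ∈ D, ¬ Commute d c ∧ (common D d c).ncard = 126 by
    obtain ⟨d, hd, c, hc, hdc, h⟩ := h0
    obtain ⟨g, rfl⟩ := class_conj S.cls hd ha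
    have hc' := S.conj_mem g hc
    have hn : ¬ Commute (g * d * g⁻¹) (g * c * g⁻¹) := fun h' =>
      hdc (Commute.of_map (f := (MulAut.conj g).toMonoidHom) (MulAut.conj g).injective h')
    obtain ⟨k, hk, hke⟩ := centralizer_transitive S ha hc' he hn hae
    rw [ncard_common S.grp.2.1 ⟨k, hk, hke⟩, common, adj_conj_image S.grp.2.1 g d, adj_conj_image S.grp.2.1 g c,
      ← Set.image_inter (fun u v h => mul_left_cancel (mul_right_cancel h)),
      Set.ncard_image_of_injective _ (fun u v h => mul_left_cancel (mul_right_cancel h))]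
    exact h
  obtain ⟨-, d, hd, c, hc, hdc, -, c3, hc3, hR⟩ := S.type22
  refine ⟨d, hd, c, hc, hdc, ?_⟩
  change Cfsg.IsProjReflectionGroupModThree (↥(Subgroup.closure (common D d c)) ⧸
    Subgroup.center ↥(Subgroup.closure (common D d c))) 6 1 c3 at hR
  have hdvd : Nat.card (↥(Subgroup.closure (common D d c)) ⧸
      Subgroup.center ↥(Subgroup.closure (common D d c))) ∣ (common D d c).ncard * 51840 :=
    (Subgroup.card_quotient_dvd_card _).trans (closure_common_dvd S hd hc hdc)
  have hmul := far_mul_common S hd hc hdc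
  obtain ⟨h1, h2⟩ := common_bounds S hd hc hdc
  generalize (common D d c).ncard = s at hdvd hmul h1 h2
  have hs : s ∣ 354816 := Dvd.intro_left _ hmul
  rcases proj_refl_dvd hc3 hR with h | h
  · obtain ⟨t, ht⟩ := h.trans hdvd
    obtain ⟨j, hj⟩ : 13 ∣ s := by
      refine (Nat.Coprime.dvd_of_dvd_mul_right (by decide +kernel : Nat.Coprime 13 51840)) ?_
      rw [ht]; exact dvd_mul_of_dvd_left (Dvd.intro_left _ rfl) _
    have h13 : 13 ∣ 354816 := (Dvd.intro j hj.symm).trans hs
    norm_num at h13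
  · obtain ⟨t, ht⟩ := h.trans hdvd
    have h63 : 63 ∣ s := by
      refine (Nat.Coprime.dvd_of_dvd_mul_right (by decide +kernel : Nat.Coprime 63 640)) ?_
      exact ⟨t, by linarith [ht]⟩
    rcases Nat.lt_or_ge s 127 with h3 | h3
    · omega
    · obtain rfl : s = 189 := by omega
      norm_num at hs

theorem far_ncard (S : Fi22Setup D) {a : G} (ha : a ∈ D) : {y | y ∈ D ∧ ¬ Commute a y}.ncard = 2816 := by
  obtain ⟨e, he, hae⟩ := exists_not_commute S.cls S.two_members ha
  have h := far_mul_common S ha he hae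
  rw [common_card S ha he hae] at h
  omega

theorem class_ncard (S : Fi22Setup D) : D.ncard = 3510 := by
  obtain ⟨a, ha, -⟩ := S.two_members
  have e : D = insert a (adj D a ∪ {y | y ∈ D ∧ ¬ Commute a y}) := by
    ext y
    simp only [Set.mem_insert_iff, Set.mem_union, Set.mem_ofPred_eq]
    refine ⟨fun hy => ?_, ?_⟩
    · by_cases h1 : y = a
      · exact Or.inl h1
      by_cases h2 : Commute a y
      · exact Or.inr (Or.inl ⟨hy, h1, h2⟩)
      · exact Or.inr (Or.inr ⟨hy, h2⟩)
    · rintro (rfl | h | h)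
      exacts [ha, h.1, h.1]
  rw [e, Set.ncard_insert_of_notMem (by
      rintro (h | h)
      exacts [h.2.1 rfl, h.2 (Commute.refl a)]),
    Set.ncard_union_eq (Set.disjoint_left.2 fun y h h' => h'.2 h.2.2) (Set.toFinite _) (Set.toFinite _),
    adj_ncard S ha, far_ncard S ha]

theorem group_card (S : Fi22Setup D) : Nat.card G = 64561751654400 := by
  obtain ⟨a, ha, -⟩ := S.two_members
  rw [card_centralizer_mul_class S.cls ha, centralizer_eq_loc S ha, loc_card S ha, class_ncard S]

end Cfsg.Agent.FischerM22
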