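/-
Groups of type M(22) are simple and their local groups are quasisimple.

Main results (namespace `Cfsg.Agent.FischerM22`):
* `tv_hyperoval` : the six transvections of a hyperoval of a totally isotropic plane multiply to one;
* `exists_six` : every member is the product of six of its neighbours;
* `loc_quasisimple`, `commutator_eq_top`, `isSimpleGroup`.
-/
import Cfsg.Agent.Lib.FischerM22.Local
import Cfsg.Agent.Lib.ThreeTrans.Structure

set_option autoImplicit false

namespace Cfsg.Agent.FischerM22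

open Cfsg.Agent.Unitary Cfsg.Agent.U62Cover Cfsg.Agent.ThreeTrans Cfsg.Agent.ThreeTransSU

section Geometry

variable {F : Type*} [Field F] [Fintype F] {n : ℕ}

/-- A hyperoval of the plane of `u, v, w`. -/
def ovalPts (ω t : F) (u v w : Fin n → F) : List (Fin n → F) :=
  [u, v, w, u + v + t • w, u + ω • v + (ω ^ 2 * t) • w, u + ω ^ 2 • v + (ω * t) • w]

theorem comb_orth (hF : Fintype.card F = 4) {u v w : Fin n → F}
    (h : ∀ p ∈ [u, v, w], ∀ q ∈ [u, v, w], hf p q = 0) (α β γ α' β' γ' : F) :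
    hf (α • u + β • v + γ • w) (α' • u + β' • v + γ' • w) = 0 := by
  simp only [hf_add_left hF, hf_add_right hF, hf_smul_left hF, hf_smul_right hF, h u (by simp) u (by simp),
    h u (by simp) v (by simp), h u (by simp) w (by simp), h v (by simp) u (by simp), h v (by simp) v (by simp),
    h v (by simp) w (by simp), h w (by simp) u (by simp), h w (by simp) v (by simp), h w (by simp) w (by simp)]
  ring

theorem ovalPts_comb (ω t : F) (u v w : Fin n → F) :
    ∀ p ∈ ovalPts ω t u v w, ∃ α β γ : F, p = α • u + β • v + γ • w := by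
  intro p hp
  simp only [ovalPts, List.mem_cons, List.not_mem_nil, or_false] at hp
  rcases hp with rfl | rfl | rfl | rfl | rfl | rfl
  exacts [⟨1, 0, 0, by simp⟩, ⟨0, 1, 0, by simp⟩, ⟨0, 0, 1, by simp⟩, ⟨1, 1, t, by simp⟩,
    ⟨1, ω, ω ^ 2 * t, by simp⟩, ⟨1, ω ^ 2, ω * t, by simp⟩]

/-- The six transvections of a hyperoval of a totally isotropic plane multiply to one. -/
theorem tv_hyperoval (hF : Fintype.card F = 4) {ω : F} (hω : ω ^ 2 = ω + 1) {t : F} (ht : t ≠ 0)
    {u v w : Fin n → F} (h : ∀ p ∈ [u, v, w], ∀ q ∈ [u, v, w], hf p q = 0) :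
    ((ovalPts ω t u v w).map (tv hF)).prod = 1 := by
  have h1 : ω ^ 2 + ω + 1 = 0 := by linear_combination hω + (ω + 1) * two_eq_zero hF
  have h3 : ω ^ 3 = 1 := by linear_combination (ω - 1) * h1
  have ht3 : t ^ 3 = 1 := pow_three hF ht
  refine act_ext fun x => ?_
  rw [act_list_tv hF _ (fun p hp q hq => by
    obtain ⟨_, _, _, rfl⟩ := ovalPts_comb ω t u v w p hp
    obtain ⟨_, _, _, rfl⟩ := ovalPts_comb ω t u v w q hq
    exact comb_orth hF h _ _ _ _ _ _), act_one, add_eq_left]
  funext i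
  simp only [ovalPts, List.map_cons, List.map_nil, List.sum_cons, List.sum_nil, Pi.add_apply, Pi.smul_apply,
    hf_add_right hF, hf_smul_right hF, smul_eq_mul, add_zero, Pi.zero_apply]
  linear_combination
    (hf x u * v i + t * hf x u * w i + hf x v * u i + t * hf x v * w i + t ^ 2 * hf x w * u i
      + t ^ 2 * hf x w * v i) * h1
    + (ω * hf x v * u i + (ω + ω ^ 2) * t * hf x v * w i + ω * t ^ 2 * hf x w * u i
      + (ω + ω ^ 2) * t ^ 2 * hf x w * v i + (ω ^ 3 + 2) * (hf x v * v i + hf x w * w i)) * h3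
    + (1 + ω ^ 6 + ω ^ 3) * hf x w * w i * ht3
    + 2 * (hf x u * u i + hf x v * v i + hf x w * w i) * two_eq_zero hF

theorem exists_plane (hF : Fintype.card F = 4) :
    ∃ u v w : Fin 6 → F, Iso u ∧ Iso v ∧ Iso w ∧ (∀ p ∈ [u, v, w], ∀ q ∈ [u, v, w], hf p q = 0) ∧
      ∀ a b c : F, a • u + b • v + c • w = 0 → a = 0 ∧ b = 0 ∧ c = 0 := by
  have hne : ∀ i j : Fin 6, i ≠ j → hf (Pi.single i (1 : F)) (Pi.single j 1) = 0 := fun i j h =>
    (single_orthonormal (card_sq hF) 6).2 h
  have he : ∀ i : Fin 6, hf (Pi.single i (1 : F)) (Pi.single i 1) = 1 :=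
    (single_orthonormal (card_sq hF) 6).1
  have iso : ∀ i j : Fin 6, i ≠ j → Iso ((Pi.single i 1 : Fin 6 → F) + Pi.single j 1) := fun i j h => by
    refine ⟨fun h0 => ?_, ?_⟩
    · have := congrFun h0 i
      simp [h] at this
    · rw [hf_add_left hF, hf_add_right hF, hf_add_right hF, he, he, hne i j h, hne j i h.symm]
      linear_combination two_eq_zero hF
  have h1 := iso 0 1 (by decide)
  have h2 := iso 2 3 (by decide)
  have h3 := iso 4 5 (by decide)
  refine ⟨_, _, _, h1, h2, h3, fun p hp q hq => ?_, fun a b c h => ?_⟩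
  · simp only [List.mem_cons, List.not_mem_nil, or_false] at hp hq
    rcases hp with rfl | rfl | rfl <;> rcases hq with rfl | rfl | rfl <;>
      first
        | exact h1.2 | exact h2.2 | exact h3.2
        | (rw [hf_add_left hF, hf_add_right hF, hf_add_right hF, hne _ _ (by decide), hne _ _ (by decide),
            hne _ _ (by decide), hne _ _ (by decide)]; simp)
  · have e0 := congrFun h 0
    have e2 := congrFun h 2
    have e4 := congrFun h 4
    simp at e0 e2 e4
    exact ⟨e0, e2, e4⟩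

end Geometry

variable {G : Type*} [Group G] {D : Set G}

/-- Every member is the product of six of its neighbours. -/
theorem exists_six [Finite G] (S : Fi22Setup D) {a : G} (ha : a ∈ D) :
    ∃ L : List G, L.length = 6 ∧ (∀ y ∈ L, y ∈ adj D a) ∧ L.prod = a := by
  obtain ⟨F, _, _, pt, M⟩ := S.exists_model ha
  have hF := M.card
  obtain ⟨ω, -, hω⟩ := exists_omega hF
  have hω0 : ω ≠ 0 := fun e => by
    rw [e] at hω; exact one_ne_zero (show (1 : F) = 0 by linear_combination -hω)
  have hω1 : ω ≠ 1 := fun e => by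
    rw [e] at hω; exact one_ne_zero (show (1 : F) = 0 by linear_combination -hω)
  obtain ⟨u, v, w, hu, hv, hw, horth, hli⟩ := exists_plane hF
  have hiso : ∀ t, ∀ p ∈ ovalPts ω t u v w, Iso p := by
    intro t p hp
    refine ⟨fun h0 => ?_, ?_⟩
    · simp only [ovalPts, List.mem_cons, List.not_mem_nil, or_false] at hp
      rcases hp with rfl | rfl | rfl | rfl | rfl | rfl
      · exact hu.1 h0
      · exact hv.1 h0
      · exact hw.1 h0
      all_goals
        exact one_ne_zero (hli 1 _ _ (by rw [one_smul]; first | exact h0 | (rw [one_smul]; exact h0))).1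
    · obtain ⟨_, _, _, rfl⟩ := ovalPts_comb ω t u v w p hp
      exact comb_orth hF horth _ _ _ _ _ _
  have key : ∀ t, t ≠ 0 → ((ovalPts ω t u v w).map pt).prod = 1 ∨
      ((ovalPts ω t u v w).map pt).prod = a := fun t ht =>
    eq_one_or_self S ha
      (Commute.list_prod_left _ _ fun y hy => by
        obtain ⟨p, hp, rfl⟩ := List.mem_map.1 hy
        exact (M.mem p (hiso t p hp)).2.2.symm)
      fun y hy => (M.rel _ (hiso t) (tv_hyperoval hF hω ht horth) y hy).symm
  by_contra hcon
  have hone : ∀ t, t ≠ 0 → ((ovalPts ω t u v w).map pt).prod = 1 := fun t ht =>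
    (key t ht).resolve_right fun h => hcon ⟨_, by simp [ovalPts], fun y hy => by
      obtain ⟨p, hp, rfl⟩ := List.mem_map.1 hy
      exact M.mem p (hiso t p hp), h⟩
  -- coefficients
  have ne_of : ∀ {p q : Fin 6 → F}, Iso p → Iso q → ∀ α β γ α' β' γ' : F,
      p = α • u + β • v + γ • w → q = α' • u + β' • v + γ' • w →
      (α * β' ≠ α' * β ∨ α * γ' ≠ α' * γ ∨ β * γ' ≠ β' * γ) → pt p ≠ pt q := by
    intro p q hp hq α β γ α' β' γ' ep eq hne e
    obtain ⟨c, -, e1⟩ := M.inj p q hp hq e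
    rw [ep, eq, smul_add, smul_add, smul_smul, smul_smul, smul_smul] at e1
    obtain ⟨q1, q2, q3⟩ := hli (α' - c * α) (β' - c * β) (γ' - c * γ) (by
      rw [sub_smul, sub_smul, sub_smul,
        show α' • u - (c * α) • u + (β' • v - (c * β) • v) + (γ' • w - (c * γ) • w)
          = α' • u + β' • v + γ' • w - ((c * α) • u + (c * β) • v + (c * γ) • w) by abel,
        e1, sub_self])
    rcases hne with h | h | h
    · exact h (by linear_combination α * q2 - β * q1)
    · exact h (by linear_combination α * q3 - γ * q1)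
    · exact h (by linear_combination β * q3 - γ * q2)
  have eu : u = (1 : F) • u + (0 : F) • v + (0 : F) • w := by simp
  have ev : v = (0 : F) • u + (1 : F) • v + (0 : F) • w := by simp
  have ew : w = (0 : F) • u + (0 : F) • v + (1 : F) • w := by simp
  have nuv : pt u ≠ pt v := ne_of hu hv _ _ _ _ _ _ eu ev (Or.inl (by simp))
  have nuw : pt u ≠ pt w := ne_of hu hw _ _ _ _ _ _ eu ew (Or.inr (Or.inl (by simp)))
  have nvw : pt v ≠ pt w := ne_of hv hw _ _ _ _ _ _ ev ew (Or.inr (Or.inr (by simp)))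
  have cuv := (M.comm u v hu hv).2 (horth u (by simp) v (by simp))
  have cuw := (M.comm u w hu hw).2 (horth u (by simp) w (by simp))
  have cvw := (M.comm v w hv hw).2 (horth v (by simp) w (by simp))
  obtain ⟨d, e, f, hnd, hmem, -⟩ := exists_other_triple S.cls S.cores S.conn S.type22
    (M.mem u hu).1 (M.mem v hv).1 (M.mem w hw).1 nuv nuw nvw cuv cuw cvw
  let x1 : F → (Fin 6 → F) := fun t => u + v + t • w
  let x2 : F → (Fin 6 → F) := fun t => u + ω • v + (ω ^ 2 * t) • w
  let x3 : F → (Fin 6 → F) := fun t => u + ω ^ 2 • v + (ω * t) • w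
  have m1 : ∀ t, x1 t ∈ ovalPts ω t u v w := fun t => by simp [ovalPts, x1]
  have m2 : ∀ t, x2 t ∈ ovalPts ω t u v w := fun t => by simp [ovalPts, x2]
  have m3 : ∀ t, x3 t ∈ ovalPts ω t u v w := fun t => by simp [ovalPts, x3]
  have c1 : ∀ t, x1 t = (1 : F) • u + (1 : F) • v + t • w := fun t => by simp [x1]
  have c2 : ∀ t, x2 t = (1 : F) • u + ω • v + (ω ^ 2 * t) • w := fun t => by simp [x2]
  have c3 : ∀ t, x3 t = (1 : F) • u + ω ^ 2 • v + (ω * t) • w := fun t => by simp [x3]
  have hω2 : ω ^ 2 ≠ 1 := fun e => hω0 (by linear_combination e - hω)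
  have hω3 : ω ^ 2 ≠ ω := fun e => one_ne_zero (show (1 : F) = 0 by linear_combination e - hω)
  have n12 : ∀ t s, pt (x1 t) ≠ pt (x2 s) := fun t s =>
    ne_of (hiso t _ (m1 t)) (hiso s _ (m2 s)) _ _ _ _ _ _ (c1 t) (c2 s) (Or.inl (by simpa using hω1))
  have n13 : ∀ t s, pt (x1 t) ≠ pt (x3 s) := fun t s =>
    ne_of (hiso t _ (m1 t)) (hiso s _ (m3 s)) _ _ _ _ _ _ (c1 t) (c3 s) (Or.inl (by simpa using hω2))
  have n23 : ∀ t, pt (x2 t) ≠ pt (x3 t) := fun t =>
    ne_of (hiso t _ (m2 t)) (hiso t _ (m3 t)) _ _ _ _ _ _ (c2 t) (c3 t) (Or.inl (by simpa using hω3))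
  have n11 : pt (x1 1) ≠ pt (x1 ω) :=
    ne_of (hiso 1 _ (m1 1)) (hiso ω _ (m1 ω)) _ _ _ _ _ _ (c1 1) (c1 ω)
      (Or.inr (Or.inl (by simpa using hω1)))
  have main : ∀ t, t ≠ 0 → ∀ x ∈ [x1 t, x2 t, x3 t], pt x ∈ [d, e, f] := by
    intro t ht x hx
    have hxm : ∀ z ∈ [x1 t, x2 t, x3 t], z ∈ ovalPts ω t u v w := fun z hz => by
      simp only [List.mem_cons, List.not_mem_nil, or_false] at hz
      rcases hz with rfl | rfl | rfl
      exacts [m1 t, m2 t, m3 t]
    have hxI := hiso t x (hxm x hx)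
    have horth' : ∀ p ∈ ovalPts ω t u v w, ∀ q ∈ ovalPts ω t u v w, hf p q = 0 := fun p hp q hq => by
      obtain ⟨_, _, _, rfl⟩ := ovalPts_comb ω t u v w p hp
      obtain ⟨_, _, _, rfl⟩ := ovalPts_comb ω t u v w q hq
      exact comb_orth hF horth _ _ _ _ _ _
    have cm : ∀ p ∈ ovalPts ω t u v w, ∀ q ∈ ovalPts ω t u v w, Commute (pt p) (pt q) := fun p hp q hq =>
      (M.comm p q (hiso t p hp) (hiso t q hq)).2 (horth' p hp q hq)
    have hu' : u ∈ ovalPts ω t u v w := by simp [ovalPts]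
    have hv' : v ∈ ovalPts ω t u v w := by simp [ovalPts]
    have hw' : w ∈ ovalPts ω t u v w := by simp [ovalPts]
    have hD1 : ∀ p ∈ ovalPts ω t u v w, pt p ∈ D := fun p hp => (M.mem p (hiso t p hp)).1
    have hprod : pt u * pt v * pt w = pt (x1 t) * pt (x2 t) * pt (x3 t) := by
      have h := hone t ht
      simp only [ovalPts, List.map_cons, List.map_nil, List.prod_cons, List.prod_nil, mul_one] at h
      have hsq : ∀ p ∈ ovalPts ω t u v w, pt p * pt p = 1 := fun p hp => mul_self S.cls.1 (hD1 p hp)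
      have e1 : pt (x1 t) * pt (x2 t) * pt (x3 t) = (pt u * pt v * pt w)⁻¹ := by
        refine (inv_eq_of_mul_eq_one_right ?_).symm
        simp only [x1, x2, x3, mul_assoc]
        exact h
      rw [e1, mul_inv_rev, mul_inv_rev, inv_eq S.cls.1 (hD1 u hu'), inv_eq S.cls.1 (hD1 v hv'),
        inv_eq S.cls.1 (hD1 w hw')]
      calc pt u * pt v * pt w = pt w * (pt u * pt v) :=
            ((cuw.symm.mul_right cvw.symm).eq).symm
        _ = pt w * (pt v * pt u) := by rw [cuv.eq]
    have hin : pt x ∈ [pt u, pt v, pt w, d, e, f] := by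
      refine (hmem _).2 ⟨hD1 x (hxm x hx), cm x (hxm x hx) u hu', cm x (hxm x hx) v hv',
        cm x (hxm x hx) w hw', fun y hy yu yv yw => ?_⟩
      have h1 : Commute y (pt (x1 t) * pt (x2 t) * pt (x3 t)) :=
        hprod ▸ (yu.mul_right yv).mul_right yw
      obtain ⟨k1, k2, k3⟩ := (commute_mul_three_iff S.cls.1 (hD1 _ (m1 t)) (hD1 _ (m2 t)) (hD1 _ (m3 t))
        hy (n12 t t) (n13 t t) (n23 t) (cm _ (m1 t) _ (m2 t)) (cm _ (m1 t) _ (m3 t))
        (cm _ (m2 t) _ (m3 t))).1 h1
      simp only [List.mem_cons, List.not_mem_nil, or_false] at hx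
      rcases hx with rfl | rfl | rfl
      exacts [k1.symm, k2.symm, k3.symm]
    have hne3 : pt x ≠ pt u ∧ pt x ≠ pt v ∧ pt x ≠ pt w := by
      obtain ⟨β, γ, hβ, ex⟩ : ∃ β γ : F, β ≠ 0 ∧ x = (1 : F) • u + β • v + γ • w := by
        simp only [List.mem_cons, List.not_mem_nil, or_false] at hx
        rcases hx with rfl | rfl | rfl
        exacts [⟨1, t, one_ne_zero, c1 t⟩, ⟨ω, _, hω0, c2 t⟩, ⟨ω ^ 2, _, pow_ne_zero _ hω0, c3 t⟩]
      exact ⟨ne_of hxI hu _ _ _ _ _ _ ex eu (Or.inl (by simpa using hβ.symm)),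
        ne_of hxI hv _ _ _ _ _ _ ex ev (Or.inl (by simp)),
        ne_of hxI hw _ _ _ _ _ _ ex ew (Or.inr (Or.inl (by simp)))⟩
    simp only [List.mem_cons, List.not_mem_nil, or_false] at hin ⊢
    rcases hin with h | h | h | h | h | h
    exacts [absurd h hne3.1, absurd h hne3.2.1, absurd h hne3.2.2, Or.inl h, Or.inr (Or.inl h),
      Or.inr (Or.inr h)]
  have hnd4 : [pt (x1 1), pt (x2 1), pt (x3 1), pt (x1 ω)].Nodup := by
    simp only [List.nodup_cons, List.mem_cons, List.not_mem_nil, or_false, not_or, List.nodup_nil,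
      and_true, not_false_eq_true]
    exact ⟨⟨n12 1 1, n13 1 1, n11⟩, ⟨n23 1, (n12 ω 1).symm⟩, (n13 ω 1).symm⟩
  have hsub : [pt (x1 1), pt (x2 1), pt (x3 1), pt (x1 ω)] ⊆ [d, e, f] := by
    intro y hy
    simp only [List.mem_cons, List.not_mem_nil, or_false] at hy
    rcases hy with rfl | rfl | rfl | rfl
    exacts [main 1 one_ne_zero _ (by simp), main 1 one_ne_zero _ (by simp), main 1 one_ne_zero _ (by simp),
      main ω hω0 _ (by simp)]
  have := (List.subperm_of_subset hnd4 hsub).length_le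
  simp at this

theorem map_prod_eq_pow {H : Type*} [Monoid H] {K : Type*} [Monoid K] (f : H →* K) {x : K} :
    ∀ L : List H, (∀ y ∈ L, f y = x) → f L.prod = x ^ L.length
  | [], _ => by simp
  | y :: L, h => by
    rw [List.prod_cons, map_mul, h y List.mem_cons_self,
      map_prod_eq_pow f L (fun z hz => h z (List.mem_cons_of_mem _ hz)), List.length_cons, pow_succ']

theorem commutator_eq_top [Finite G] (S : Fi22Setup D) : commutator G = ⊤ := by
  obtain ⟨a, ha, -⟩ := S.two_members
  obtain ⟨L, hlen, hmem, hprod⟩ := exists_six S ha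
  have hconst : ∀ y ∈ D, Abelianization.of y = Abelianization.of a := fun y hy => by
    obtain ⟨g, rfl⟩ := class_conj S.cls ha hy
    rw [map_mul, map_mul, map_inv, mul_right_comm, mul_inv_cancel, one_mul]
  have h6 := map_prod_eq_pow Abelianization.of L fun y hy => hconst y (hmem y hy).1
  rw [hprod, hlen] at h6
  have h2 : Abelianization.of a * Abelianization.of a = 1 := by
    rw [← map_mul, mul_self S.cls.1 ha, map_one]
  have h1 : Abelianization.of a = 1 := by
    rw [h6, show 6 = 2 * 3 from rfl, pow_mul, pow_two, h2, one_pow]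
  rw [eq_top_iff, ← S.cls.2.2, Subgroup.closure_le]
  intro y hy
  have := hconst y hy
  rw [h1] at this
  rw [SetLike.mem_coe, ← Abelianization.ker_of]
  exact this

theorem loc_perfect [Finite G] (S : Fi22Setup D) {a : G} (ha : a ∈ D) :
    commutator ↥(Loc D a) = ⊤ := by
  obtain ⟨b, hb, c, hc, hbc, hcomm⟩ := exists_adj_pair S ha
  obtain ⟨d, e, f, hnd, hmem, h⟩ := exists_other_triple S.cls S.cores S.conn S.type22 ha hb.1 hc.1
    hb.2.1.symm hc.2.1.symm hbc hb.2.2 hc.2.2 hcomm
  have hin : ∀ p ∈ [b, c, d, e, f], p ∈ adj D a := fun p hp => by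
    have h1 := (hmem p).1 (List.mem_cons_of_mem _ hp)
    exact ⟨h1.1, fun e1 => (List.nodup_cons.1 hnd).1 (e1 ▸ hp), h1.2.1.symm⟩
  have hL := loc_class S.cls S.cores ha ⟨b, hb⟩
  let B : ↥(Loc D a) := ⟨b, Subgroup.subset_closure hb⟩
  have hconst : ∀ y, y ∈ adj D a → ∀ hy : y ∈ Loc D a,
      Abelianization.of (⟨y, hy⟩ : ↥(Loc D a)) = Abelianization.of B := fun y hy hy' => by
    obtain ⟨g, hg⟩ := class_conj hL (show B ∈ locSet D a from hb) (show ⟨y, hy'⟩ ∈ locSet D a from hy)
    rw [← hg, map_mul, map_mul, map_inv, mul_right_comm, mul_inv_cancel, one_mul]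
  obtain ⟨L, hlen, hsix, hprod⟩ := exists_six S ha
  let A : ↥(Loc D a) := ⟨a, mem_loc_self S ha⟩
  let L' : List ↥(Loc D a) := L.attach.map fun y => ⟨y.1, Subgroup.subset_closure (hsix y.1 y.2)⟩
  have hA6 : Abelianization.of A = Abelianization.of B ^ 6 := by
    have e1 : L'.prod = A := Subtype.ext (by
      rw [Subgroup.val_list_prod, List.map_map, show (Subtype.val ∘ fun y : {x // x ∈ L} =>
        (⟨y.1, Subgroup.subset_closure (hsix y.1 y.2)⟩ : ↥(Loc D a))) = Subtype.val from rfl,
        List.attach_map_subtype_val]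
      exact hprod)
    rw [← e1, map_prod_eq_pow Abelianization.of L' (fun y hy => by
      obtain ⟨z, -, rfl⟩ := List.mem_map.1 hy
      exact hconst _ (hsix z.1 z.2) _), List.length_map, List.length_attach, hlen]
  have hB2 : Abelianization.of B * Abelianization.of B = 1 := by
    rw [← map_mul, show B * B = 1 from Subtype.ext (mul_self S.cls.1 hb.1), map_one]
  have mem : ∀ p ∈ [b, c, d, e, f], p ∈ Loc D a := fun p hp => Subgroup.subset_closure (hin p hp)
  have eA : A = ⟨d, mem d (by simp)⟩ * ⟨e, mem e (by simp)⟩ * ⟨f, mem f (by simp)⟩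
      * (⟨c, mem c (by simp)⟩ : ↥(Loc D a))⁻¹ * (⟨b, mem b (by simp)⟩)⁻¹ :=
    Subtype.ext (by show a = d * e * f * c⁻¹ * b⁻¹; rw [← h]; group)
  have hA5 : Abelianization.of A = Abelianization.of B := by
    rw [eA, map_mul, map_mul, map_mul, map_mul, map_inv, map_inv, hconst d (hin d (by simp)),
      hconst e (hin e (by simp)), hconst f (hin f (by simp)), hconst c (hin c (by simp)),
      hconst b (hin b (by simp)), mul_inv_cancel_right, mul_inv_cancel_right]
  have h1 : Abelianization.of B = 1 := by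
    rw [hA5] at hA6
    rw [hA6, show 6 = 2 * 3 from rfl, pow_mul, pow_two, hB2, one_pow]
  rw [eq_top_iff, ← hL.2.2, Subgroup.closure_le]
  intro y hy
  have := hconst (y : G) hy y.2
  rw [h1] at this
  rw [SetLike.mem_coe, ← Abelianization.ker_of]
  exact this

theorem loc_map (S : Fi22Setup D) (g a : G) :
    (Loc D a).map (MulAut.conj g).toMonoidHom = Loc D (g * a * g⁻¹) := by
  have h := MonoidHom.map_closure (MulAut.conj g).toMonoidHom (adj D a)
  rw [Loc, h, Loc, adj_conj_image S.grp.2.1]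
  rfl

/-- The local groups are conjugate. -/
noncomputable def locEquiv (S : Fi22Setup D) (g a : G) :
    ↥(Loc D a) ≃* ↥(Loc D (g * a * g⁻¹)) :=
  (Subgroup.equivMapOfInjective (Loc D a) (MulAut.conj g).toMonoidHom (MulAut.conj g).injective).trans
    (MulEquiv.subgroupCongr (loc_map S g a))

theorem simple_quotient_loc [Finite G] (S : Fi22Setup D) {a : G} (ha : a ∈ D) :
    IsSimpleGroup (↥(Loc D a) ⧸ Subgroup.center ↥(Loc D a)) := by
  obtain ⟨d, hd, hs⟩ := exists_simple_of_M22 S.type22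
  obtain ⟨g, rfl⟩ := class_conj S.cls hd ha
  let e := locEquiv S g d
  exact (QuotientGroup.congr (Subgroup.center ↥(Loc D d)) (Subgroup.center _) e (by
    ext x
    obtain ⟨x, rfl⟩ := e.surjective x
    rw [Subgroup.mem_map, Subgroup.mem_center_iff]
    constructor
    · rintro ⟨z, hz, hzx⟩ y
      obtain rfl : z = x := e.injective hzx
      obtain ⟨y, rfl⟩ := e.surjective y
      rw [← map_mul, ← map_mul, Subgroup.mem_center_iff.1 hz y]
    · refine fun h => ⟨x, Subgroup.mem_center_iff.2 fun y => e.injective ?_, rfl⟩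
      rw [map_mul, map_mul]; exact h (e y))).symm.isSimpleGroup

theorem loc_quasisimple [Finite G] (S : Fi22Setup D) {a : G} (ha : a ∈ D) :
    Cfsg.IsQuasisimple ↥(Loc D a) :=
  ⟨Group.isPerfect_def.2 (loc_perfect S ha), simple_quotient_loc S ha⟩

theorem isSimpleGroup [Finite G] (S : Fi22Setup D) : IsSimpleGroup G := by
  obtain ⟨L, hL, hLn, -⟩ := exists_component S.cls S.two_members S.cores
  have htop : L = ⊤ := by
    rw [eq_top_iff, ← commutator_eq_top S]
    exact commutator_le_of_index_le_two L (index_le_two_of_connected S.cls S.two_members S.cores S.conn hL)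
  have hs : IsSimpleGroup (↥L ⧸ Subgroup.center ↥L) := hL.2.2
  subst htop
  have hZ : Subgroup.center ↥(⊤ : Subgroup G) = ⊥ := by
    rw [eq_bot_iff]
    intro z hz
    have h1 : (z : G) ∈ Subgroup.center G := Subgroup.mem_center_iff.2 fun g =>
      congrArg Subtype.val (Subgroup.mem_center_iff.1 hz ⟨g, Subgroup.mem_top g⟩)
    rw [S.type22.1, Subgroup.mem_bot] at h1
    exact Subgroup.mem_bot.2 (Subtype.ext h1)
  exact ((((QuotientGroup.quotientMulEquivOfEq hZ).trans QuotientGroup.quotientBot).trans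
    Subgroup.topEquiv)).symm.isSimpleGroup

end Cfsg.Agent.FischerM22
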