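/-
The width of a group of type M(22).

Main results (namespace `Cfsg.Agent.FischerM22`):
* `iso_submodule_card` : a totally isotropic subspace of the six-space has at most 63 nonzero vectors;
* `width_eq` : the width of a class of type M(22) is 22.
-/
import Cfsg.Agent.Lib.FischerM22.Heptad
import Cfsg.Agent.Lib.FischerM22.Counts

set_option autoImplicit false

namespace Cfsg.Agent.FischerM22

open Cfsg.Agent.Unitary Cfsg.Agent.U62Cover Cfsg.Agent.ThreeTrans Cfsg.Agent.ThreeTransSU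

variable {F : Type*} [Field F] [Fintype F]

theorem hf_span_zero (hF : Fintype.card F = 4) {n : ℕ} {T : Set (Fin n → F)}
    (h : ∀ p ∈ T, ∀ q ∈ T, hf p q = 0) :
    ∀ p ∈ Submodule.span F T, ∀ q ∈ Submodule.span F T, hf p q = 0 := by
  intro p hp q hq
  induction hp using Submodule.span_induction with
  | mem p hp =>
    induction hq using Submodule.span_induction with
    | mem q hq => exact h p hp q hq
    | zero => exact hf_zero_right hF p
    | add x y _ _ hx hy => rw [hf_add_right hF, hx, hy, add_zero]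
    | smul c x _ hx => rw [hf_smul_right hF, hx, mul_zero]
  | zero => exact hf_zero_left hF q
  | add x y _ _ hx hy => rw [hf_add_left hF, hx, hy, add_zero]
  | smul c x _ hx => rw [hf_smul_left hF, hx, mul_zero]

theorem submodule_nonzero_card (hF : Fintype.card F = 4) (W : Submodule F (Fin 6 → F)) :
    ((W : Set (Fin 6 → F)) \ {0}).ncard = 4 ^ Module.finrank F W - 1 := by
  have h0 : (0 : Fin 6 → F) ∈ (W : Set (Fin 6 → F)) := zero_mem W
  have hc : (W : Set (Fin 6 → F)).ncard = 4 ^ Module.finrank F W := by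
    show Nat.card ↥W = _
    rw [Module.natCard_eq_pow_finrank (K := F) (V := ↥W), Nat.card_eq_fintype_card, hF]
  rw [Set.ncard_sdiff_singleton_of_mem h0, hc]

theorem iso_submodule_card (hF : Fintype.card F = 4) {W : Submodule F (Fin 6 → F)}
    (hW : ∀ p ∈ W, ∀ q ∈ W, hf p q = 0) : ((W : Set (Fin 6 → F)) \ {0}).ncard ≤ 63 := by
  have hb := two_mul_le hF (u := fun i => ((Module.finBasis F W i : W) : Fin 6 → F))
    ((Module.finBasis F W).linearIndependent.map' W.subtype W.ker_subtype)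
    fun i j => hW _ (Module.finBasis F W i).2 _ (Module.finBasis F W j).2
  rw [submodule_nonzero_card hF]
  have : 4 ^ Module.finrank F W ≤ 4 ^ 3 := Nat.pow_le_pow_right (by norm_num) (by omega)
  omega

variable {G : Type*} [Group G] [Finite G] {D : Set G}

theorem commuting_le (S : Fi22Setup D) {E : Set G} (hE : E ⊆ D)
    (hc : ∀ a ∈ E, ∀ b ∈ E, Commute a b) : E.ncard ≤ 22 := by
  rcases E.eq_empty_or_nonempty with rfl | ⟨a, haE⟩
  · simp
  have ha := hE haE
  obtain ⟨F, _, _, pt, M⟩ := S.exists_model ha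
  have hF := M.card
  set T := {v : Fin 6 → F | Iso v ∧ pt v ∈ E} with hT
  have hW := hf_span_zero hF (T := T) fun p hp q hq =>
    (M.comm p q hp.1 hq.1).1 (hc _ hp.2 _ hq.2)
  have h1 := iso_submodule_card hF hW
  have h2 : T.ncard ≤ 63 := (Set.ncard_le_ncard
    (show T ⊆ (Submodule.span F T : Set (Fin 6 → F)) \ {0} from
      fun v hv => ⟨Submodule.subset_span hv, hv.1.1⟩) (Set.toFinite _)).trans h1
  have h3 : T.ncard = 3 * {y | y ∈ adj D a ∧ y ∈ E}.ncard := by
    rw [← card_pts M (· ∈ E)]; rfl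
  have h4 : E ⊆ insert a {y | y ∈ adj D a ∧ y ∈ E} := fun y hy => by
    by_cases e : y = a
    · exact Or.inl e
    · exact Or.inr ⟨⟨hE hy, e, hc a haE y hy⟩, hy⟩
  have h5 := (Set.ncard_le_ncard h4 (Set.toFinite _)).trans (Set.ncard_insert_le _ _)
  omega

theorem exists_commuting (S : Fi22Setup D) :
    ∃ E : Set G, E ⊆ D ∧ E.Finite ∧ (∀ a ∈ E, ∀ b ∈ E, Commute a b) ∧ E.ncard = 22 := by
  obtain ⟨a, ha, -⟩ := S.two_members
  obtain ⟨F, _, _, pt, M⟩ := S.exists_model ha
  have hF := M.card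
  obtain ⟨u, v, w, -, -, -, horth, hli⟩ := exists_plane hF
  set W := Submodule.span F (Set.range ![u, v, w]) with hW'
  have hW : ∀ p ∈ W, ∀ q ∈ W, hf p q = 0 := hf_span_zero hF fun p hp q hq => by
    obtain ⟨i, rfl⟩ := hp
    obtain ⟨j, rfl⟩ := hq
    exact horth _ (by fin_cases i <;> simp) _ (by fin_cases j <;> simp)
  have hrank : Module.finrank F W = 3 := by
    rw [hW', finrank_span_eq_card (Fintype.linearIndependent_iff.2 fun g hg => by
      rw [Fin.sum_univ_three] at hg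
      obtain ⟨h0, h1, h2⟩ := hli (g 0) (g 1) (g 2) hg
      intro i; fin_cases i <;> assumption)]
    simp
  set T := (W : Set (Fin 6 → F)) \ {0} with hT
  have hTc : T.ncard = 63 := by rw [hT, submodule_nonzero_card hF, hrank]; rfl
  have hTI : ∀ p ∈ T, Iso p := fun p hp => ⟨hp.2, hW p hp.1 p hp.1⟩
  set E' := pt '' T with hE'
  have h3 : {x : Fin 6 → F | Iso x ∧ pt x ∈ E'} = T := by
    ext x
    refine ⟨fun ⟨hx, p, hp, e⟩ => ?_, fun hx => ⟨hTI x hx, x, hx, rfl⟩⟩
    obtain ⟨c, hc, rfl⟩ := M.inj p x (hTI p hp) hx e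
    exact ⟨W.smul_mem c hp.1, hx.1⟩
  have h4 := card_pts M (· ∈ E')
  have h5 : {y | y ∈ adj D a ∧ y ∈ E'} = E' := by
    ext y
    refine ⟨fun h => h.2, ?_⟩
    rintro ⟨p, hp, rfl⟩
    exact ⟨M.mem p (hTI p hp), p, hp, rfl⟩
  rw [h5] at h4
  have h6 : Nat.card {x : Fin 6 → F // Iso x ∧ pt x ∈ E'} = T.ncard := by rw [← h3]; rfl
  refine ⟨insert a E', ?_, Set.toFinite _, ?_, ?_⟩
  · rintro _ (rfl | ⟨p, hp, rfl⟩)
    exacts [ha, (M.mem p (hTI p hp)).1]
  · rintro x (rfl | ⟨p, hp, rfl⟩) y (rfl | ⟨q, hq, rfl⟩)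
    exacts [Commute.refl _, (M.mem q (hTI q hq)).2.2, (M.mem p (hTI p hp)).2.2.symm,
      (M.comm p q (hTI p hp) (hTI q hq)).2 (hW p hp.1 q hq.1)]
  · rw [Set.ncard_insert_of_notMem (by
      rintro ⟨p, hp, e⟩
      exact (M.mem p (hTI p hp)).2.1 e)]
    omega

theorem width_eq (S : Fi22Setup D) : Cfsg.commutingWidth D = 22 := by
  refine le_antisymm ?_ (le_csSup ⟨22, ?_⟩ (exists_commuting S))
  · refine csSup_le ⟨22, exists_commuting S⟩ ?_
    rintro n ⟨E, hE, -, hc, rfl⟩
    exact commuting_le S hE hc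
  · rintro n ⟨E, hE, -, hc, rfl⟩
    exact commuting_le S hE hc

end Cfsg.Agent.FischerM22
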