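/-
Bases of a group of type M(22): sets of 22 pairwise commuting members, and the abelian two-groups
normalising them.

Main results (namespace `Cfsg.Agent.FischerM22`):
* `IsBase.mem_of_commute` : a base is a maximal commuting set of members;
* `IsBase.common_six` : an outside member commuting with one member of a base commutes with exactly six;
* `IsBase.fixed_six` : an element of order two normalising a base, outside its span, fixes exactly six members;
* `IsBase.span_card` : a base spans a group of order 2 ^ 10;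
* `IsBase.abelian_eq` : an elementary abelian two-group of order at least 2 ^ 10 normalising a base is its span.
-/
import Cfsg.Agent.Lib.FischerM22.Involutions
import Cfsg.Agent.Lib.FischerM22.Width

set_option autoImplicit false

namespace Cfsg.Agent.FischerM22

open Cfsg.Agent.Unitary Cfsg.Agent.U62Cover Cfsg.Agent.ThreeTrans Cfsg.Agent.ThreeTransSU

variable {G : Type*} [Group G] {D : Set G}

/-- Twenty-two pairwise commuting members. -/
structure IsBase (D B : Set G) : Prop where
  sub : B ⊆ D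
  comm : ∀ a ∈ B, ∀ b ∈ B, Commute a b
  card : B.ncard = 22

/-- A member commuting with a product of at most three commuting members commutes with each of them. -/
theorem commute_components (S : Fi22Setup D) {l : List G} (hn : l.Nodup) (hlen : l.length ≤ 3)
    (hD : ∀ p ∈ l, p ∈ D) (hc : ∀ p ∈ l, ∀ q ∈ l, Commute p q) {e : G} (he : e ∈ D)
    (h : Commute e l.prod) : ∀ p ∈ l, Commute e p := by
  match l, hlen with
  | [], _ => simp
  | [p], _ => simpa using h
  | [p, q], _ =>
    simp only [List.nodup_cons, List.mem_cons, List.not_mem_nil, or_false] at hn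
    have := (commute_mul_iff S.cls.1 (hD p (by simp)) (hD q (by simp)) he hn.1
      (hc p (by simp) q (by simp))).1 (by simpa using h)
    simpa using this
  | [p, q, r], _ =>
    simp only [List.nodup_cons, List.mem_cons, List.not_mem_nil, or_false, not_or] at hn
    have := (commute_mul_three_iff S.cls.1 (hD p (by simp)) (hD q (by simp)) (hD r (by simp)) he hn.1.1 hn.1.2
      hn.2.1 (hc p (by simp) q (by simp)) (hc p (by simp) r (by simp)) (hc q (by simp) r (by simp))).1
      (by simpa [mul_assoc] using h)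
    simpa using this
  | _ :: _ :: _ :: _ :: _, h4 => simp only [List.length_cons] at h4; omega

variable {B : Set G}

theorem IsBase.comm_span (hB : IsBase D B) {x y : G} (hx : x ∈ Subgroup.closure B)
    (hy : y ∈ Subgroup.closure B) : Commute x y := by
  have h1 : ∀ b ∈ B, Commute x b := by
    intro b hb
    have : Subgroup.closure B ≤ Subgroup.centralizer {b} := (Subgroup.closure_le _).2 fun c hc =>
      Subgroup.mem_centralizer_singleton_iff.2 (hB.comm c hc b hb)
    exact Subgroup.mem_centralizer_singleton_iff.1 (this hx)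
  have : Subgroup.closure B ≤ Subgroup.centralizer {x} := (Subgroup.closure_le _).2 fun c hc =>
    Subgroup.mem_centralizer_singleton_iff.2 (h1 c hc).symm
  exact (Subgroup.mem_centralizer_singleton_iff.1 (this hy) : Commute y x).symm

theorem IsBase.span_sq (hB : IsBase D B) (S : Fi22Setup D) {x : G} (hx : x ∈ Subgroup.closure B) :
    x * x = 1 := by
  induction hx using Subgroup.closure_induction with
  | mem b hb => exact mul_self S.cls.1 (hB.sub hb)
  | one => exact mul_one 1
  | mul u v hu hv h1 h2 =>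
    have hc := hB.comm_span hu hv
    calc u * v * (u * v) = u * (v * u) * v := by simp only [mul_assoc]
      _ = u * u * (v * v) := by rw [← hc.eq]; simp only [mul_assoc]
      _ = 1 := by rw [h1, h2, one_mul]
  | inv u _ h1 => rw [← mul_inv_rev, h1, inv_one]

variable [Finite G]

/-- A base is a maximal commuting set of members. -/
theorem IsBase.mem_of_commute (hB : IsBase D B) (S : Fi22Setup D) {p : G} (hp : p ∈ D)
    (h : ∀ b ∈ B, Commute p b) : p ∈ B := by
  by_contra hn
  have h1 := commuting_le S (E := insert p B) (Set.insert_subset hp hB.sub) (by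
    rintro x (rfl | hx) y (rfl | hy)
    exacts [Commute.refl _, h y hy, (h x hx).symm, hB.comm x hx y hy])
  rw [Set.ncard_insert_of_notMem hn (Set.toFinite _), hB.card] at h1
  omega

theorem IsBase.hexSet_sub (hB : IsBase D B) (S : Fi22Setup D) {a b c : G} (ha : a ∈ B) (hb : b ∈ B)
    (hc : c ∈ B) : hexSet D a b c ⊆ B := fun _ hp => hB.mem_of_commute S hp.1 fun y hy =>
  hp.2.2.2.2 y (hB.sub hy) (hB.comm y hy a ha) (hB.comm y hy b hb) (hB.comm y hy c hc)

/-- An element of order two commuting with a base is a product of members of it. -/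
theorem IsBase.exists_support (hB : IsBase D B) (S : Fi22Setup D) {x : G} (hx : x * x = 1) (hx1 : x ≠ 1)
    (hc : ∀ b ∈ B, Commute b x) :
    ∃ l : List G, l.Nodup ∧ 1 ≤ l.length ∧ l.length ≤ 3 ∧ (∀ p ∈ l, p ∈ B) ∧ l.prod = x := by
  obtain ⟨m, h1, h3, l, hn, hl, hD, hcl, rfl⟩ := involution_prod S hx hx1
  exact ⟨l, hn, by omega, by omega, fun p hp => hB.mem_of_commute S (hD p hp) fun b hb =>
    (commute_components S hn (by omega) hD hcl (hB.sub hb) (hc b hb) p hp).symm, rfl⟩

theorem IsBase.mem_span_of_commute (hB : IsBase D B) (S : Fi22Setup D) {x : G} (hx : x * x = 1)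
    (hc : ∀ b ∈ B, Commute b x) : x ∈ Subgroup.closure B := by
  by_cases hx1 : x = 1
  · exact hx1 ▸ one_mem _
  · obtain ⟨l, -, -, -, hl, rfl⟩ := hB.exists_support S hx hx1 hc
    exact list_prod_mem fun p hp => Subgroup.subset_closure (hl p hp)

/-- The members of a base in the model of one of them form a totally isotropic plane. -/
theorem IsBase.plane (hB : IsBase D B) {a : G} (ha : a ∈ B) {F : Type*} [Field F]
    [Fintype F] {pt : (Fin 6 → F) → G} (M : PointModel D a pt) :
    ∃ W : Submodule F (Fin 6 → F), Module.finrank F W = 3 ∧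
      ∀ v, (v ∈ W ∧ v ≠ 0) ↔ Iso v ∧ pt v ∈ B := by
  have hF := M.card
  set T := {v : Fin 6 → F | Iso v ∧ pt v ∈ B} with hT
  set W := Submodule.span F T with hWdef
  have hW := hf_span_zero hF (T := T) fun p hp q hq =>
    (M.comm p q hp.1 hq.1).1 (hB.comm _ hp.2 _ hq.2)
  have h3 : T.ncard = 3 * {y | y ∈ adj D a ∧ y ∈ B}.ncard := by
    rw [← card_pts M (· ∈ B)]; rfl
  have h4 : {y | y ∈ adj D a ∧ y ∈ B} = B \ {a} := by
    ext y
    exact ⟨fun h => ⟨h.2, h.1.2.1⟩, fun h => ⟨⟨hB.sub h.1, h.2, hB.comm a ha y h.1⟩, h.1⟩⟩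
  rw [h4, Set.ncard_sdiff_singleton_of_mem ha, hB.card] at h3
  have hsub : T ⊆ (W : Set (Fin 6 → F)) \ {0} := fun v hv => ⟨Submodule.subset_span hv, hv.1.1⟩
  have h1 := iso_submodule_card hF hW
  rw [← hWdef] at h1
  have heq : T = (W : Set (Fin 6 → F)) \ {0} :=
    Set.eq_of_subset_of_ncard_le hsub (by omega) (Set.toFinite _)
  have hr := submodule_nonzero_card hF W
  rw [← heq, h3] at hr
  refine ⟨W, Nat.pow_right_injective (le_refl 2 |>.trans (by norm_num : (2 : ℕ) ≤ 4))
    (show 4 ^ Module.finrank F W = 4 ^ 3 by omega), fun v => ?_⟩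
  show v ∈ (W : Set (Fin 6 → F)) \ {0} ↔ v ∈ T
  rw [heq]

/-- An outside member commuting with a member of a base commutes with exactly six. -/
theorem IsBase.common_six (hB : IsBase D B) (S : Fi22Setup D) {p a : G} (hp : p ∈ D) (hpB : p ∉ B)
    (ha : a ∈ B) (hap : Commute a p) : {b | b ∈ B ∧ Commute b p}.ncard = 6 := by
  obtain ⟨F, _, _, pt, M⟩ := S.exists_model (hB.sub ha)
  have hF := M.card
  obtain ⟨r, hr, rfl⟩ := M.surj p ⟨hp, fun e => hpB (e ▸ ha), hap⟩
  obtain ⟨W, hW3, hW⟩ := hB.plane ha M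
  let f : W →ₗ[F] F :=
    { toFun := fun w => hf (w : Fin 6 → F) r
      map_add' := fun u v => by simp [hf_add_left hF]
      map_smul' := fun c u => by simp [hf_smul_left hF] }
  have hf0 : f ≠ 0 := by
    intro h0
    refine hpB (hB.mem_of_commute S hp fun b hb => ?_)
    by_cases e : b = a
    · exact e ▸ hap.symm
    obtain ⟨v, hv, rfl⟩ := M.surj b ⟨hB.sub hb, e, hB.comm a ha b hb⟩
    have hvW := ((hW v).2 ⟨hv, hb⟩).1
    exact ((M.comm v r hv hr).2 (LinearMap.congr_fun h0 ⟨v, hvW⟩)).symm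
  have hker : Module.finrank F (LinearMap.ker f) = 2 := by
    have h1 := f.finrank_range_add_finrank_ker
    rw [LinearMap.range_eq_top.2 (LinearMap.surjective hf0), finrank_top, Module.finrank_self, hW3] at h1
    omega
  set K := (LinearMap.ker f).map W.subtype with hK
  have hK2 : Module.finrank F K = 2 := by
    rw [hK, (Submodule.equivMapOfInjective W.subtype W.injective_subtype _).finrank_eq.symm, hker]
  have hset : {v : Fin 6 → F | Iso v ∧ (pt v ∈ B ∧ Commute (pt v) (pt r))} = (K : Set (Fin 6 → F)) \ {0} := by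
    ext v
    simp only [Set.mem_ofPred_eq, Set.mem_sdiff, SetLike.mem_coe, Set.mem_singleton_iff, hK, Submodule.mem_map,
      LinearMap.mem_ker]
    constructor
    · rintro ⟨hv, hvB, hc⟩
      exact ⟨⟨⟨v, ((hW v).2 ⟨hv, hvB⟩).1⟩, (M.comm v r hv hr).1 hc, rfl⟩, hv.1⟩
    · rintro ⟨⟨w, hw, rfl⟩, h0⟩
      obtain ⟨hv, hvB⟩ := (hW _).1 ⟨w.2, h0⟩
      exact ⟨hv, hvB, (M.comm _ r hv hr).2 hw⟩
  have h5 : 3 * {y | y ∈ adj D a ∧ (y ∈ B ∧ Commute y (pt r))}.ncard = 15 := by
    rw [← card_pts M (fun y => y ∈ B ∧ Commute y (pt r))]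
    show ({v : Fin 6 → F | Iso v ∧ (pt v ∈ B ∧ Commute (pt v) (pt r))}).ncard = 15
    rw [hset, submodule_nonzero_card hF, hK2]
    rfl
  have he : {b | b ∈ B ∧ Commute b (pt r)} = insert a {y | y ∈ adj D a ∧ (y ∈ B ∧ Commute y (pt r))} := by
    ext b
    simp only [Set.mem_ofPred_eq, Set.mem_insert_iff]
    constructor
    · intro h
      by_cases e : b = a
      · exact Or.inl e
      · exact Or.inr ⟨⟨hB.sub h.1, e, hB.comm a ha b h.1⟩, h⟩
    · rintro (rfl | h)
      exacts [⟨ha, hap⟩, h.2]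
  rw [he, Set.ncard_insert_of_notMem (fun h => h.1.2.1 rfl) (Set.toFinite _)]
  omega

/-- An element of order two normalising a base fixes one of its members. -/
theorem IsBase.exists_fixed (hB : IsBase D B) (S : Fi22Setup D) {t : G} (ht : t * t = 1)
    (htB : ∀ b ∈ B, t * b * t⁻¹ ∈ B) : ∃ a ∈ B, Commute a t := by
  classical
  by_contra hcon
  have hall : ∀ a ∈ B, ¬ Commute a t := fun a ha h => hcon ⟨a, ha, h⟩
  have hti : t⁻¹ = t := inv_eq_of_mul_eq_one_left ht
  rw [hti] at htB
  have hmov : ∀ p ∈ B, t * p * t ≠ p := fun p hp e => hall p hp (by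
    show p * t = t * p
    calc p * t = t * p * t * t := by rw [e]
      _ = t * p * (t * t) := by simp only [mul_assoc]
      _ = t * p := by rw [ht, mul_one])
  have hinv : ∀ p, t * (t * p * t) * t = p := fun p => by
    calc t * (t * p * t) * t = t * t * p * (t * t) := by simp only [mul_assoc]
      _ = p := by rw [ht, one_mul, mul_one]
  obtain ⟨a, ha⟩ : B.Nonempty := by rw [← Set.ncard_pos (Set.toFinite _), hB.card]; norm_num
  obtain ⟨b, hb⟩ : ∃ b, b = t * a * t := ⟨_, rfl⟩
  have hbB : b ∈ B := hb ▸ htB a ha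
  have hne : a ≠ b := fun e => hmov a ha (hb ▸ e.symm)
  have := Fintype.ofFinite G
  set R : Finset G := (B \ {a, b}).toFinset with hR
  have hR20 : R.card = 20 := by
    rw [hR, ← Set.ncard_eq_toFinset_card', Set.ncard_sdiff (Set.insert_subset ha (Set.singleton_subset_iff.2 hbB)),
      hB.card, Set.ncard_pair hne]
  have memR : ∀ q, q ∈ R ↔ q ∈ B ∧ q ≠ a ∧ q ≠ b := fun q => by
    rw [hR, Set.mem_toFinset]; simp
  have tri : ∀ q ∈ R, IsTriple D a b q := fun q hq => by
    obtain ⟨h1, h2, h3⟩ := (memR q).1 hq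
    exact ⟨hB.sub ha, hB.sub hbB, hB.sub h1, hne, h2.symm, h3.symm, hB.comm a ha b hbB, hB.comm a ha q h1,
      hB.comm b hbB q h1⟩
  have hsub : ∀ q ∈ R, hexSet D a b q ⊆ B := fun q hq => hB.hexSet_sub S ha hbB ((memR q).1 hq).1
  set Hs := R.image fun q => hexSet D a b q with hHs
  have hfib : ∀ H ∈ Hs, (R.filter fun q => hexSet D a b q = H).card = 4 := by
    intro H hH
    obtain ⟨q, hq, rfl⟩ := Finset.mem_image.1 hH
    obtain ⟨ma, mb, -⟩ := self_mem_hexSet (tri q hq)
    have e : (↑(R.filter fun p => hexSet D a b p = hexSet D a b q) : Set G) = hexSet D a b q \ {a, b} := by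
      ext p
      simp only [Finset.coe_filter, Set.mem_ofPred_eq, Set.mem_sdiff, Set.mem_insert_iff,
        Set.mem_singleton_iff, not_or]
      refine ⟨fun ⟨hp, e⟩ => ⟨e ▸ (self_mem_hexSet (tri p hp)).2.2, ((memR p).1 hp).2⟩, fun ⟨hp, h1, h2⟩ =>
        ⟨(memR p).2 ⟨hsub q hq hp, h1, h2⟩, hexSet_eq_of_mem S (tri q hq) ma mb hp hne (Ne.symm h1) (Ne.symm h2)⟩⟩
    rw [← Set.ncard_coe_finset, e, Set.ncard_sdiff (Set.insert_subset ma (Set.singleton_subset_iff.2 mb)),
      hexSet_ncard S (tri q hq), Set.ncard_pair hne]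
  have hcard : Hs.card = 5 := by
    have h := Finset.card_eq_sum_card_image (fun q => hexSet D a b q) R
    rw [← hHs, Finset.sum_congr rfl hfib, Finset.sum_const, hR20, smul_eq_mul] at h
    omega
  have hconj : ∀ p, t * p * t = MulAut.conj t p := fun p => by rw [MulAut.conj_apply, hti]
  have hmapR : ∀ q ∈ R, t * q * t ∈ R := fun q hq => by
    obtain ⟨h1, h2, h3⟩ := (memR q).1 hq
    refine (memR _).2 ⟨htB q h1, fun e => h3 ?_, fun e => h2 ?_⟩
    · rw [← hinv q, e, hb]
    · rw [← hinv q, e, hb, hinv]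
  have himg : ∀ p q r, MulAut.conj t '' hexSet D p q r = hexSet D (t * p * t) (t * q * t) (t * r * t) :=
    fun p q r => by rw [hconj, hconj, hconj]; exact (hexSet_conj S t p q r).symm
  have hperm : ∀ H ∈ Hs, MulAut.conj t '' H ∈ Hs := fun H hH => by
    obtain ⟨q, hq, rfl⟩ := Finset.mem_image.1 hH
    refine Finset.mem_image.2 ⟨t * q * t, hmapR q hq, ?_⟩
    rw [himg, ← hb, show t * b * t = a from hb ▸ hinv a, hexSet_swap]
  have hinvo : ∀ H : Set G, MulAut.conj t '' (MulAut.conj t '' H) = H := fun H => by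
    rw [Set.image_image]
    simp only [← hconj, hinv, Set.image_id']
  let σ : Equiv.Perm {H // H ∈ Hs} :=
    ⟨fun H => ⟨_, hperm H.1 H.2⟩, fun H => ⟨_, hperm H.1 H.2⟩, fun H => Subtype.ext (hinvo H.1),
      fun H => Subtype.ext (hinvo H.1)⟩
  have : Fact (Nat.Prime 2) := ⟨Nat.prime_two⟩
  obtain ⟨⟨H, hH⟩, hHf⟩ := Equiv.Perm.exists_fixed_point_of_prime (p := 2) (n := 1)
    (show ¬ 2 ∣ Fintype.card {H // H ∈ Hs} by rw [Fintype.card_coe, hcard]; norm_num) (σ := σ) (by
      ext H : 1
      exact Subtype.ext (hinvo H.1))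
  replace hHf : MulAut.conj t '' H = H := congrArg Subtype.val hHf
  obtain ⟨q, hq, rfl⟩ := Finset.mem_image.1 hH
  subst hb
  exact hexad_moved_false S ht (tri q hq) (fun p hp => (hconj p).symm ▸ hHf.subset ⟨p, hp, rfl⟩)
    fun p hp => hmov p (hsub q hq hp)

/-- An element of order two normalising a base and fixing a member fixes at least six. -/
theorem IsBase.six_le_fixed (hB : IsBase D B) (S : Fi22Setup D) {t a : G} (ht : t * t = 1)
    (htB : ∀ b ∈ B, t * b * t⁻¹ ∈ B) (ha : a ∈ B) (hat : Commute a t) :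
    6 ≤ {b | b ∈ B ∧ Commute b t}.ncard := by
  have hta : t ∈ Loc D a := by
    rw [← centralizer_eq_loc S (hB.sub ha)]; exact Subgroup.mem_centralizer_singleton_iff.2 hat.symm
  obtain ⟨F, _, _, pt, θ, L⟩ := exists_locModel S (hB.sub ha)
  have M := L.M
  have hF := M.card
  obtain ⟨y, hy, hyθ⟩ := exists_lift_involution hF (by norm_num) (c := θ ⟨t, hta⟩) (by
    rw [← map_mul, show (⟨t, hta⟩ : ↥(Loc D a)) * ⟨t, hta⟩ = 1 from Subtype.ext ht, map_one])
  obtain ⟨W, hW3, hW⟩ := hB.plane ha M
  have hinvW : ∀ v ∈ W, act y v ∈ W := by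
    intro v hv
    by_cases h0 : v = 0
    · rw [h0, act_zero]; exact zero_mem _
    obtain ⟨hi, hvB⟩ := (hW v).1 ⟨hv, h0⟩
    refine ((hW _).2 ⟨hi.act y, ?_⟩).1
    rw [← L.conj_pt S (hB.sub ha) hyθ.symm hi]
    exact htB _ hvB
  have two : ∀ x : Fin 6 → F, x + x = 0 := fun x => by rw [← two_smul F, two_eq_zero hF, zero_smul]
  let N : W →ₗ[F] W :=
    { toFun := fun w => ⟨act y w + w, W.add_mem (hinvW w w.2) w.2⟩
      map_add' := fun u v => Subtype.ext (by simp [act_add, add_add_add_comm])
      map_smul' := fun c u => Subtype.ext (by simp [act_smul]) }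
  have hle : LinearMap.range N ≤ LinearMap.ker N := by
    rintro _ ⟨w, rfl⟩
    refine LinearMap.mem_ker.2 (Subtype.ext ?_)
    show act y (act y w + (w : Fin 6 → F)) + (act y w + (w : Fin 6 → F)) = 0
    rw [act_add, ← act_mul, hy, act_one, add_comm (w : Fin 6 → F) (act y w)]
    exact two _
  have hk : 2 ≤ Module.finrank F (LinearMap.ker N) := by
    have h1 := N.finrank_range_add_finrank_ker
    have h2 := Submodule.finrank_mono hle
    omega
  set K := (LinearMap.ker N).map W.subtype with hK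
  have hK2 : 2 ≤ Module.finrank F K := by
    rw [hK, (Submodule.equivMapOfInjective W.subtype W.injective_subtype _).finrank_eq.symm]; exact hk
  have hsub : (K : Set (Fin 6 → F)) \ {0} ⊆ {v : Fin 6 → F | Iso v ∧ (pt v ∈ B ∧ Commute (pt v) t)} := by
    rintro _ ⟨⟨w, hw, rfl⟩, h0⟩
    obtain ⟨hi, hvB⟩ := (hW _).1 ⟨w.2, h0⟩
    refine ⟨hi, hvB, ?_⟩
    have e1 : act y (w : Fin 6 → F) = w := by
      have e2 : act y (w : Fin 6 → F) + (w : Fin 6 → F) = 0 := congrArg Subtype.val (LinearMap.mem_ker.1 hw)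
      calc act y (w : Fin 6 → F) = act y (w : Fin 6 → F) + ((w : Fin 6 → F) + w) := by rw [two, add_zero]
        _ = w := by rw [← add_assoc, e2, zero_add]
    have e3 := L.conj_pt S (hB.sub ha) hyθ.symm hi
    change t * pt (w : Fin 6 → F) * t⁻¹ = _ at e3
    show pt (w : Fin 6 → F) * t = t * pt (w : Fin 6 → F)
    rw [Submodule.coe_subtype, e1] at *
    conv_lhs => rw [← e3]
    group
  have h15 := Set.ncard_le_ncard hsub (Set.toFinite _)
  rw [submodule_nonzero_card hF] at h15
  have h16 : 4 ^ 2 ≤ 4 ^ Module.finrank F K := Nat.pow_le_pow_right (by norm_num) hK2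
  have h5 : {v : Fin 6 → F | Iso v ∧ (pt v ∈ B ∧ Commute (pt v) t)}.ncard
      = 3 * {z | z ∈ adj D a ∧ (z ∈ B ∧ Commute z t)}.ncard := by
    rw [← card_pts M (fun z => z ∈ B ∧ Commute z t)]; rfl
  have he : insert a {z | z ∈ adj D a ∧ (z ∈ B ∧ Commute z t)} ⊆ {b | b ∈ B ∧ Commute b t} := by
    rintro z (rfl | h)
    exacts [⟨ha, hat⟩, h.2]
  have := Set.ncard_le_ncard he (Set.toFinite _)
  rw [Set.ncard_insert_of_notMem (fun h => h.1.2.1 rfl) (Set.toFinite _)] at this
  omega

/-- An element of order two normalising a base, outside its span, fixes exactly six members. -/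
theorem IsBase.fixed_six (hB : IsBase D B) (S : Fi22Setup D) {t : G} (ht : t * t = 1)
    (htB : ∀ b ∈ B, t * b * t⁻¹ ∈ B) (hout : t ∉ Subgroup.closure B) :
    {b | b ∈ B ∧ Commute b t}.ncard = 6 := by
  obtain ⟨a, ha, hat⟩ := hB.exists_fixed S ht htB
  refine le_antisymm ?_ (hB.six_le_fixed S ht htB ha hat)
  obtain ⟨m, -, h3, l, hn, hl, hD, hc, e⟩ :=
    involution_prod S ht (fun e => hout (e ▸ one_mem _))
  obtain ⟨p, hp, hpB⟩ : ∃ p ∈ l, p ∉ B := by
    by_contra h
    refine hout (e ▸ list_prod_mem fun p hp => Subgroup.subset_closure ?_)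
    by_contra h'
    exact h ⟨p, hp, h'⟩
  have hcomp : ∀ b ∈ B, Commute b t → Commute b p := fun b hb h =>
    commute_components S hn (by omega) hD hc (hB.sub hb) (e.symm ▸ h) p hp
  rw [← hB.common_six S (hD p hp) hpB ha (hcomp a ha hat)]
  exact Set.ncard_le_ncard (fun b hb => ⟨hb.1, hcomp b hb.1 hb.2⟩) (Set.toFinite _)

/-- A base spans a group of order `2 ^ 10`. -/
theorem IsBase.span_card (hB : IsBase D B) (S : Fi22Setup D) :
    Nat.card ↥(Subgroup.closure B) = 1024 := by
  classical
  have := Fintype.ofFinite G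
  set Bf := B.toFinset with hBf
  have hB22 : Bf.card = 22 := by rw [hBf, ← Set.ncard_eq_toFinset_card', hB.card]
  have memB : ∀ {s : Finset G}, s ⊆ Bf → ∀ p ∈ s.toList, p ∈ B := fun hs p hp =>
    Set.mem_toFinset.1 (hs (Finset.mem_toList.1 hp))
  set Ef := (Subgroup.closure B : Set G).toFinset with hEf
  have hEc : Nat.card ↥(Subgroup.closure B) = Ef.card := by
    rw [hEf, ← Set.ncard_eq_toFinset_card']; rfl
  -- lower bound
  have hlow : (Bf.powersetCard 3).card ≤ 2 * ((Bf.powersetCard 3).image fun s => s.toList.prod).card := by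
    refine Finset.card_le_mul_card_image _ 2 fun x hx => ?_
    obtain ⟨s, hs, rfl⟩ := Finset.mem_image.1 hx
    have triOf : ∀ s ∈ Bf.powersetCard 3, ∃ p q r, s.toList = [p, q, r] ∧ IsTriple D p q r := by
      intro s hs
      rw [Finset.mem_powersetCard] at hs
      have hl : s.toList.length = 3 := by rw [Finset.length_toList, hs.2]
      obtain ⟨p, q, r, e⟩ := List.length_eq_three.1 hl
      have hn := s.nodup_toList
      have hm := memB hs.1
      rw [e] at hn hm
      simp only [List.nodup_cons, List.mem_cons, List.not_mem_nil, or_false, not_or] at hn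
      exact ⟨p, q, r, e, hB.sub (hm p (by simp)), hB.sub (hm q (by simp)), hB.sub (hm r (by simp)), hn.1.1,
        hn.1.2, hn.2.1, hB.comm _ (hm p (by simp)) _ (hm q (by simp)), hB.comm _ (hm p (by simp)) _ (hm r (by simp)),
        hB.comm _ (hm q (by simp)) _ (hm r (by simp))⟩
    obtain ⟨a, b, c, es, hT⟩ := triOf s hs
    obtain ⟨d, e, f, -, -, -, hset⟩ := triple_set S hT
    refine (Finset.card_le_card (t := {[a, b, c].toFinset, [d, e, f].toFinset}) fun s' hs' => ?_).trans
      Finset.card_le_two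
    rw [Finset.mem_filter] at hs'
    obtain ⟨p, q, r, es', hT'⟩ := triOf s' hs'.1
    have h3 : s'.card = 3 := (Finset.mem_powersetCard.1 hs'.1).2
    have key : ∀ u v w : G, p ∈ [u, v, w] ∧ q ∈ [u, v, w] ∧ r ∈ [u, v, w] → s' = [u, v, w].toFinset := by
      intro u v w h
      refine Finset.eq_of_subset_of_card_le (fun z hz => ?_) ?_
      · rw [← Finset.mem_toList, es'] at hz
        rw [List.mem_toFinset]
        simp only [List.mem_cons, List.not_mem_nil, or_false] at hz
        rcases hz with rfl | rfl | rfl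
        exacts [h.1, h.2.1, h.2.2]
      · rw [h3]; exact (List.toFinset_card_le _).trans (by simp)
    rcases hset p q r hT' (by simpa [es', es, mul_assoc] using hs'.2) with h | h
    · simp [key a b c h]
    · simp [key d e f h]
  have hsubE : (Bf.powersetCard 3).image (fun s => s.toList.prod) ⊆ Ef := by
    intro x hx
    obtain ⟨s, hs, rfl⟩ := Finset.mem_image.1 hx
    rw [hEf, Set.mem_toFinset]
    exact list_prod_mem fun p hp => Subgroup.subset_closure (memB (Finset.mem_powersetCard.1 hs).1 p hp)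
  rw [Finset.card_powersetCard, hB22, show Nat.choose 22 3 = 1540 from rfl] at hlow
  have h1 := Finset.card_le_card hsubE
  -- upper bound
  have hup : Ef ⊆ ((Finset.range 4).biUnion fun k => Bf.powersetCard k).image fun s => s.toList.prod := by
    intro x hx
    rw [hEf, Set.mem_toFinset] at hx
    refine Finset.mem_image.2 ?_
    by_cases hx1 : x = 1
    · exact ⟨∅, Finset.mem_biUnion.2 ⟨0, by simp⟩, by simp [hx1]⟩
    obtain ⟨l, hn, -, hl3, hl, rfl⟩ := hB.exists_support S (hB.span_sq S hx) hx1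
      fun b hb => hB.comm_span (Subgroup.subset_closure hb) hx
    refine ⟨l.toFinset, Finset.mem_biUnion.2 ⟨l.length, Finset.mem_range.2 (by omega),
      Finset.mem_powersetCard.2 ⟨fun p hp => Set.mem_toFinset.2 (hl p (List.mem_toFinset.1 hp)),
        List.toFinset_card_of_nodup hn⟩⟩, ?_⟩
    exact prod_perm_of_commute (List.toFinset_toList hn) fun p hp q hq =>
      hB.comm p (hl p (by simpa using hp)) q (hl q (by simpa using hq))
  have h2 := ((Finset.card_le_card hup).trans Finset.card_image_le).trans Finset.card_biUnion_le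
  simp only [Finset.sum_range_succ, Finset.sum_range_zero, Finset.card_powersetCard, hB22] at h2
  norm_num [Nat.choose] at h2
  have : Fact (Nat.Prime 2) := ⟨Nat.prime_two⟩
  obtain ⟨k, hk⟩ := IsPGroup.iff_card.1 (show IsPGroup 2 ↥(Subgroup.closure B) from fun x =>
    ⟨1, by rw [pow_one, pow_two]; exact Subtype.ext (hB.span_sq S x.2)⟩)
  rw [hEc] at hk ⊢
  have hk1 : 9 < k := by
    by_contra h
    have := Nat.pow_le_pow_right (show 0 < 2 by norm_num) (show k ≤ 9 by omega)
    omega
  have hk2 : k < 11 := by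
    by_contra h
    have := Nat.pow_le_pow_right (show 0 < 2 by norm_num) (show 11 ≤ k by omega)
    omega
  obtain rfl : k = 10 := by omega
  omega

/-- The fixed points of an outside element of order two in the span of a base have order at most 64. -/
theorem IsBase.span_fixed_le (hB : IsBase D B) (S : Fi22Setup D) {t : G} (ht : t * t = 1)
    (htB : ∀ b ∈ B, t * b * t⁻¹ ∈ B) (hout : t ∉ Subgroup.closure B) :
    Nat.card ↥(Subgroup.closure B ⊓ Subgroup.centralizer {t}) ≤ 64 := by
  classical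
  set E := Subgroup.closure B with hE
  have hmap : ∀ x ∈ E, t * x * t⁻¹ ∈ E := fun x hx => by
    have : E ≤ E.comap (MulAut.conj t).toMonoidHom := (Subgroup.closure_le _).2 fun b hb =>
      Subgroup.subset_closure (htB b hb)
    exact this hx
  let φ : ↥E →* G :=
    { toFun := fun x => (x : G) * (t * x * t⁻¹)
      map_one' := by simp
      map_mul' := fun x y => by
        show (x : G) * y * (t * ((x : G) * y) * t⁻¹) = x * (t * x * t⁻¹) * (y * (t * y * t⁻¹))
        rw [show t * ((x : G) * y) * t⁻¹ = t * x * t⁻¹ * (t * y * t⁻¹) by group]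
        exact (hB.comm_span y.2 (hmap _ x.2)).mul_mul_mul_comm _ _ }
  have hprod : Nat.card φ.range * Nat.card φ.ker = 1024 := by
    rw [← hB.span_card S, ← hE, Subgroup.card_eq_card_quotient_mul_card_subgroup φ.ker,
      Nat.card_congr (QuotientGroup.quotientKerEquivRange φ).toEquiv]
  have hker : Nat.card ↥(E ⊓ Subgroup.centralizer {t}) ≤ Nat.card φ.ker :=
    Nat.card_le_card_of_injective (fun x => ⟨⟨x.1, x.2.1⟩, by
        have hc : (x.1 : G) * t = t * x.1 := Subgroup.mem_centralizer_singleton_iff.1 x.2.2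
        show x.1 * (t * x.1 * t⁻¹) = 1
        rw [← hc, mul_inv_cancel_right, hB.span_sq S x.2.1]⟩)
      fun x y h => Subtype.ext (congrArg (fun z : ↥φ.ker => ((z : ↥E) : G)) h)
  have := Fintype.ofFinite G
  set Mv := (B \ {b | b ∈ B ∧ Commute b t}).toFinset with hMv
  have hM16 : Mv.card = 16 := by
    rw [hMv, ← Set.ncard_eq_toFinset_card', Set.ncard_sdiff (fun b hb => hb.1), hB.card,
      hB.fixed_six S ht htB hout]
  have memM : ∀ b ∈ Mv, b ∈ B ∧ b ≠ t * b * t⁻¹ := fun b hb => by
    rw [hMv, Set.mem_toFinset] at hb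
    exact ⟨hb.1, fun e => hb.2 ⟨hb.1, by
      show b * t = t * b
      conv_lhs => rw [e]
      group⟩⟩
  have hadj : ∀ b ∈ Mv, t * b * t⁻¹ ∈ adj D b := fun b hb =>
    ⟨hB.sub (htB b (memM b hb).1), fun e => (memM b hb).2 e.symm, hB.comm b (memM b hb).1 _ (htB b (memM b hb).1)⟩
  have hcard8 : Mv.card ≤ 2 * (Mv.image fun b => b * (t * b * t⁻¹)).card := by
    refine Finset.card_le_mul_card_image _ 2 fun x hx => ?_
    obtain ⟨b, hb, rfl⟩ := Finset.mem_image.1 hx
    refine (Finset.card_le_card (t := {b, t * b * t⁻¹}) fun c hc => ?_).trans Finset.card_le_two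
    rw [Finset.mem_filter] at hc
    simpa using pair_product_unique S (hB.sub (memM b hb).1) (hadj b hb) (hB.sub (memM c hc.1).1)
      (hadj c hc.1) hc.2
  have hsub : insert 1 (Mv.image fun b => b * (t * b * t⁻¹)) ⊆ (φ.range : Set G).toFinset := by
    intro x hx
    rw [Set.mem_toFinset]
    rcases Finset.mem_insert.1 hx with rfl | hx
    · exact one_mem _
    · obtain ⟨b, hb, rfl⟩ := Finset.mem_image.1 hx
      exact ⟨⟨b, Subgroup.subset_closure (memM b hb).1⟩, rfl⟩
  have hnot : (1 : G) ∉ Mv.image fun b => b * (t * b * t⁻¹) := fun h => by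
    obtain ⟨b, hb, e⟩ := Finset.mem_image.1 h
    exact prod_ne_one S (by norm_num) (by norm_num) (isProd_two (hB.sub (memM b hb).1) (hadj b hb)) e
  have h9 := Finset.card_le_card hsub
  rw [Finset.card_insert_of_notMem hnot, ← Set.ncard_eq_toFinset_card'] at h9
  change _ ≤ Nat.card φ.range at h9
  obtain ⟨j, -, hj⟩ := (Nat.dvd_prime_pow Nat.prime_two).1 (show Nat.card φ.range ∣ 2 ^ 10 from ⟨_, hprod.symm⟩)
  have hj4 : 4 ≤ j := by
    by_contra h
    have := Nat.pow_le_pow_right (show 0 < 2 by norm_num) (show j ≤ 3 by omega)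
    omega
  have h16 : 2 ^ 4 ≤ Nat.card φ.range := hj ▸ Nat.pow_le_pow_right (by norm_num) hj4
  have := Nat.mul_le_mul_right (Nat.card φ.ker) h16
  omega

/-- An elementary abelian two-group normalising a base meets its span in index at most 16. -/
theorem IsBase.image_le (hB : IsBase D B) (S : Fi22Setup D) {A : Subgroup G}
    (hsq : ∀ x ∈ A, x * x = 1) (hnorm : ∀ t ∈ A, ∀ b ∈ B, t * b * t⁻¹ ∈ B) :
    Nat.card A ≤ 16 * Nat.card ↥(A ⊓ Subgroup.closure B) := by
  classical
  letI : MulAction ↥A ↥B :=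
    { smul := fun g b => ⟨g * b * (g : G)⁻¹, hnorm g g.2 b b.2⟩
      one_smul := fun b => Subtype.ext (show (1 : G) * b * (1 : G)⁻¹ = b by simp)
      mul_smul := fun g h b => Subtype.ext (show (g : G) * h * b * ((g : G) * h)⁻¹
        = g * (h * b * (h : G)⁻¹) * (g : G)⁻¹ by group) }
  have := Fintype.ofFinite G
  have hfix : ∀ g : ↥A, Fintype.card (MulAction.fixedBy ↥B g)
      = 6 + if (g : G) ∈ Subgroup.closure B then 16 else 0 := by
    intro g
    rw [← Nat.card_eq_fintype_card]
    have e : Nat.card (MulAction.fixedBy ↥B g) = {b | b ∈ B ∧ Commute b (g : G)}.ncard := by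
      rw [← Nat.card_coe_set_eq]
      refine Nat.card_congr
        { toFun := fun b => ⟨b.1.1, b.1.2, by
            have h : (g : G) * b.1.1 * (g : G)⁻¹ = b.1.1 := congrArg Subtype.val b.2
            exact ((mul_inv_eq_iff_eq_mul.1 h) : Commute (g : G) b.1.1).symm⟩
          invFun := fun b => ⟨⟨b.1, b.2.1⟩, Subtype.ext (by
            show (g : G) * b.1 * (g : G)⁻¹ = b.1
            rw [← b.2.2.eq, mul_inv_cancel_right])⟩
          left_inv := fun _ => rfl
          right_inv := fun _ => rfl }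
    rw [e]
    split
    next h =>
      rw [show {b | b ∈ B ∧ Commute b (g : G)} = B from Set.ext fun b =>
        ⟨fun hb => hb.1, fun hb => ⟨hb, hB.comm_span (Subgroup.subset_closure hb) h⟩⟩, hB.card]
    next h => exact hB.fixed_six S (hsq g g.2) (hnorm g g.2) h
  have hsum := MulAction.sum_card_fixedBy_eq_card_orbits_mul_card_group ↥A ↥B
  rw [Finset.sum_congr rfl (fun g _ => hfix g), Finset.sum_add_distrib, Finset.sum_const, ← Finset.sum_filter,
    Finset.sum_const, smul_eq_mul, smul_eq_mul, Finset.card_univ, ← Fintype.card_subtype] at hsum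
  simp only [← Nat.card_eq_fintype_card] at hsum
  have hI : Nat.card {g : ↥A // (g : G) ∈ Subgroup.closure B} = Nat.card ↥(A ⊓ Subgroup.closure B) :=
    Nat.card_congr
      { toFun := fun g => ⟨g.1.1, g.1.2, g.2⟩
        invFun := fun g => ⟨⟨g.1, g.2.1⟩, g.2.2⟩
        left_inv := fun _ => rfl
        right_inv := fun _ => rfl }
  rw [hI] at hsum
  refine Nat.le_of_dvd (Nat.mul_pos (by norm_num) Nat.card_pos) ?_
  rw [mul_comm 16]
  exact (Nat.dvd_add_right (dvd_mul_right _ _)).1 (Dvd.intro_left _ hsum.symm)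

/-- An elementary abelian two-group of order at least `2 ^ 10` normalising a base is its span. -/
theorem IsBase.abelian_eq (hB : IsBase D B) (S : Fi22Setup D) {A : Subgroup G}
    (hsq : ∀ x ∈ A, x * x = 1) (hcomm : ∀ x ∈ A, ∀ y ∈ A, Commute x y)
    (hnorm : ∀ t ∈ A, ∀ b ∈ B, t * b * t⁻¹ ∈ B) (hbig : 1024 ≤ Nat.card A) :
    A = Subgroup.closure B := by
  set E := Subgroup.closure B with hE
  refine Subgroup.eq_of_le_of_card_ge (fun t ht => ?_) (by rw [hB.span_card S]; exact hbig)
  by_contra hout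
  have hle := hB.image_le S hsq hnorm
  have hfix : ∀ s ∈ A, s ∉ E → A ⊓ E = E ⊓ Subgroup.centralizer {s} := by
    intro s hs hsE
    refine Subgroup.eq_of_le_of_card_ge (fun x hx => ⟨hx.2,
      Subgroup.mem_centralizer_singleton_iff.2 (hcomm x hx.1 s hs)⟩) ?_
    have := hB.span_fixed_le S (hsq s hs) (hnorm s hs) hsE
    rw [← hE] at this hle
    omega
  obtain ⟨b, hb, hbt⟩ : ∃ b ∈ B, ¬ Commute b t := by
    by_contra h
    refine hout (hB.mem_span_of_commute S (hsq t ht) fun b hb => ?_)
    by_contra h'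
    exact h ⟨b, hb, h'⟩
  have hbE : b ∈ E := Subgroup.subset_closure hb
  have htbE : t * b * t⁻¹ ∈ E := Subgroup.subset_closure (hnorm t ht b hb)
  have htne : t * b * t⁻¹ ≠ b := fun e => hbt (mul_inv_eq_iff_eq_mul.1 e : Commute t b).symm
  have hadj : t * b * t⁻¹ ∈ adj D b :=
    ⟨hB.sub (hnorm t ht b hb), htne, hB.comm b hb _ (hnorm t ht b hb)⟩
  have hti : t⁻¹ = t := inv_eq_of_mul_eq_one_left (hsq t ht)
  have hmem : b * (t * b * t⁻¹) ∈ A ⊓ E := by
    rw [hfix t ht hout]
    refine ⟨mul_mem hbE htbE, Subgroup.mem_centralizer_singleton_iff.2 ?_⟩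
    have hbc := hB.comm_span hbE htbE
    calc b * (t * b * t⁻¹) * t = b * t * b := by group
      _ = t * (t * b * t⁻¹) * b := by
        rw [hti, show t * (t * b * t) = t * t * (b * t) by simp only [mul_assoc], hsq t ht, one_mul]
      _ = t * (b * (t * b * t⁻¹)) := by rw [mul_assoc t, ← hbc.eq]
  -- every outside element of A sends b to its partner
  have hsame : ∀ s ∈ A, s ∉ E → s * b * s⁻¹ = t * b * t⁻¹ := by
    intro s hs hsE
    have hbs : s * b * s⁻¹ ≠ b := by
      intro e
      have hbA : b ∈ A ⊓ E := by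
        rw [hfix s hs hsE]
        exact ⟨hbE, Subgroup.mem_centralizer_singleton_iff.2 (mul_inv_eq_iff_eq_mul.1 e : Commute s b).symm⟩
      exact hbt (hcomm b hbA.1 t ht)
    have e : s * b * s⁻¹ * (s * (t * b * t⁻¹) * s⁻¹) = b * (t * b * t⁻¹) := by
      rw [show s * b * s⁻¹ * (s * (t * b * t⁻¹) * s⁻¹) = s * (b * (t * b * t⁻¹)) * s⁻¹ by group,
        (hcomm s hs _ hmem.1).eq, mul_inv_cancel_right]
    exact (pair_product_unique S (hB.sub hb) hadj (S.conj_mem s (hB.sub hb))
      ((conj_adj S.grp.2.1 s b (s * (t * b * t⁻¹) * s⁻¹)).2 (by simpa [mul_assoc] using hadj)) e).resolve_left hbs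
  have hcos : ∀ s ∈ A, s ∉ E → t * s ∈ E := by
    intro s hs hsE
    by_contra h
    have e1 := hsame _ (mul_mem ht hs) h
    rw [show t * s * b * (t * s)⁻¹ = t * (s * b * s⁻¹) * t⁻¹ by group, hsame s hs hsE] at e1
    exact htne ((MulAut.conj t).injective e1)
  have h2 : Nat.card A ≤ 2 * Nat.card ↥(A ⊓ E) := by
    classical
    let f : ↥A → Bool × ↥(A ⊓ E) := fun s =>
      if h : (s : G) ∈ E then (true, ⟨s, s.2, h⟩) else (false, ⟨t * s, mul_mem ht s.2, hcos s s.2 h⟩)
    have hinj : Function.Injective f := by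
      intro s u h
      simp only [f] at h
      split_ifs at h
      · exact Subtype.ext (congrArg (fun z : Bool × ↥(A ⊓ E) => (z.2 : G)) h)
      · exact absurd (congrArg Prod.fst h) (by simp)
      · exact absurd (congrArg Prod.fst h) (by simp)
      · exact Subtype.ext (mul_left_cancel (congrArg (fun z : Bool × ↥(A ⊓ E) => (z.2 : G)) h))
    have := Nat.card_le_card_of_injective f hinj
    rwa [Nat.card_prod, show Nat.card Bool = 2 by simp] at this
  have := hB.span_fixed_le S (hsq t ht) (hnorm t ht) hout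
  rw [← hE, ← hfix t ht hout] at this
  omega

end Cfsg.Agent.FischerM22
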