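/-
Certified tables for the action by conjugation of some generating involutions on their conjugates.

A table is built from a list of steps; each step records an edge `v -l-> u`, meaning that the generator `l`
conjugates the element at vertex `v` to the one at vertex `u`, and justifies it from earlier edges.

Main results (namespace `Cfsg.Agent.FischerM22.ConjTable`):
* `Spec`, `Holds` : a certificate and the relations that it assumes of the generators;
* `Spec.fixes`, `fixed_of_check` : a checked word fixes every generator under conjugation.
-/
import Cfsg.Agent.EqLemmas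
import Mathlib

set_option autoImplicit false

namespace Cfsg.Agent.FischerM22.ConjTable

variable {G : Type*} [Group G]

/-- Successive conjugation by the generators of a word. -/
def crun (s : ℕ → G) (x : G) (W : List ℕ) : G := W.foldl (fun y l => s l * y * (s l)⁻¹) x

theorem crun_eq (s : ℕ → G) : ∀ (W : List ℕ) (x : G),
    crun s x W = (W.reverse.map s).prod * x * ((W.reverse.map s).prod)⁻¹
  | [], x => by simp [crun]
  | l :: W, x => by
    show crun s (s l * x * (s l)⁻¹) W = _
    rw [crun_eq s W]
    simp [mul_assoc]

inductive Step where
  | fix (v l : ℕ)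
  | braid (v l r : ℕ)
  | tree (v l : ℕ)
  | eqn (e : ℕ) (p q : List ℕ)
  | cycle (r k : ℕ) (p : List ℕ)

/-- A certificate. -/
structure Spec where
  comm : List (ℕ × ℕ)
  braid : List (ℕ × ℕ)
  rels : List (List ℕ)
  eqns : List (List ℕ × ℕ × List ℕ × ℕ)
  steps : List Step

/-- The relations assumed by a certificate. -/
structure Holds (C : Spec) (n : ℕ) (s : ℕ → G) : Prop where
  sq : ∀ i, s i * s i = 1
  comm : ∀ p ∈ C.comm, Commute (s p.1) (s p.2)
  braid : ∀ p ∈ C.braid, s p.1 * s p.2 * s p.1 = s p.2 * s p.1 * s p.2
  rels : ∀ R ∈ C.rels, (R.map s).prod = 1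
  eqns : ∀ e ∈ C.eqns, crun s (s e.2.1) e.1 = crun s (s e.2.2.2) e.2.2.1

/-- Follow the edges with the given references from `cur` along the letters. -/
def follow (es : List (ℕ × ℕ × ℕ)) : ℕ → List ℕ → List ℕ → Option ℕ
  | cur, [], [] => some cur
  | cur, l :: W, r :: p =>
    match es[r / 2]? with
    | none => none
    | some (v, l', u) =>
      if l' = l then
        if r % 2 = 0 then (if v = cur then follow es u W p else none)
        else (if u = cur then follow es v W p else none)
      else none
  | _, _, _ => none

/-- A state: the number of vertices and the edges found, the newest first. -/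
abbrev State := ℕ × List (ℕ × ℕ × ℕ)

def run1 (C : Spec) (n : ℕ) : State → Step → Option State
  | (c, es), .fix v l =>
    if (v, l) ∈ C.comm ∧ v < n ∧ l < n then some (c, (v, l, v) :: es) else none
  | (c, es), .braid v l r =>
    if (v, l) ∈ C.braid ∧ v < n ∧ l < n then
      match follow es l [v] [r] with
      | some u => some (c, (v, l, u) :: es)
      | none => none
    else none
  | (c, es), .tree v l => if v < c ∧ l < n then some (c + 1, (v, l, c) :: es) else none
  | (c, es), .eqn e p q =>
    match C.eqns[e]? with
    | some (W, x, W', y) =>
      if x < n ∧ y < n ∧ W ≠ [] ∧ W.getLastD 0 < n then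
        match follow es x W.dropLast p, follow es y W' q with
        | some v, some u => some (c, (v, W.getLastD 0, u) :: es)
        | _, _ => none
      else none
    | none => none
  | (c, es), .cycle r k p =>
    match C.rels[r]? with
    | some R =>
      match p with
      | [] => none
      | r₀ :: _ =>
        match es[r₀ / 2]? with
        | none => none
        | some (v, _, u) =>
          let x := if r₀ % 2 = 0 then v else u
          let W := R.drop k ++ R.take k
          if W ≠ [] ∧ W.getLastD 0 < n then
            match follow es x W.dropLast p with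
            | some y => some (c, (y, W.getLastD 0, x) :: es)
            | none => none
          else none
    | none => none

def runAll (C : Spec) (n : ℕ) : State → List Step → Option State
  | st, [] => some st
  | st, a :: as =>
    match run1 C n st a with
    | some st' => runAll C n st' as
    | none => none

def trace (es : List (ℕ × ℕ × ℕ)) : ℕ → List ℕ → Option ℕ
  | cur, [] => some cur
  | cur, l :: W =>
    match es.find? (fun e => e.2.1 == l && (e.1 == cur || e.2.2 == cur)) with
    | some (v, _, u) => trace es (if v = cur then u else v) W
    | none => none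

/-- The certificate is valid and the word fixes each generator. -/
def Spec.fixes (C : Spec) (n : ℕ) (W : List ℕ) : Bool :=
  match runAll C n (n, []) C.steps with
  | some (_, es) => (List.range n).all fun x => trace es x W == some x
  | none => false

/-- The edges hold for the vertices `T`. -/
def Valid (s : ℕ → G) (n : ℕ) (T : ℕ → G) (st : State) : Prop :=
  n ≤ st.1 ∧ (∀ j, j < n → T j = s j) ∧
    ∀ v l u, (v, l, u) ∈ st.2 → v < st.1 ∧ u < st.1 ∧ l < n ∧ s l * T v * (s l)⁻¹ = T u

theorem conj_back {s : ℕ → G} {l : ℕ} (hl : s l * s l = 1) {x y : G} (h : s l * x * (s l)⁻¹ = y) :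
    s l * y * (s l)⁻¹ = x := by
  have e : (s l)⁻¹ = s l := inv_eq_of_mul_eq_one_left hl
  rw [← h, e]
  simp only [← mul_assoc, hl, one_mul]
  rw [mul_assoc, hl, mul_one]

variable {C : Spec} {n : ℕ} {s : ℕ → G}

theorem follow_sound (H : Holds C n s) {T : ℕ → G} {st : State} (hV : Valid s n T st) :
    ∀ (W p : List ℕ) (cur u : ℕ), cur < st.1 → follow st.2 cur W p = some u →
      u < st.1 ∧ crun s (T cur) W = T u
  | [], [], cur, u, hc, h => by
    simp only [follow, Option.some.injEq] at h
    exact h ▸ ⟨hc, rfl⟩
  | [], _ :: _, _, _, _, h => by simp [follow] at h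
  | _ :: _, [], _, _, _, h => by simp [follow] at h
  | l :: W, r :: p, cur, u, hc, h => by
    simp only [follow] at h
    split at h
    · simp at h
    · rename_i v l' w hget
      obtain ⟨hv, hw, hl', he⟩ := hV.2.2 v l' w (List.mem_of_getElem? hget)
      split_ifs at h with h1 h2 h3 h4
      · subst h1 h3
        obtain ⟨q1, q2⟩ := follow_sound H hV W p w u hw h
        exact ⟨q1, by rw [← q2, ← he]; rfl⟩
      · subst h1 h4
        obtain ⟨q1, q2⟩ := follow_sound H hV W p v u hv h
        exact ⟨q1, by rw [← q2, ← conj_back (H.sq _) he]; rfl⟩

theorem crun_dropLast {x : G} {W : List ℕ} (hW : W ≠ []) :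
    crun s x W = s (W.getLastD 0) * crun s x W.dropLast * (s (W.getLastD 0))⁻¹ := by
  conv_lhs => rw [← List.dropLast_append_getLast hW]
  rw [List.getLastD_eq_getLast?, List.getLast?_eq_some_getLast hW]
  simp [crun, List.foldl_append]

theorem rev_prod (hsq : ∀ i, s i * s i = 1) :
    ∀ L : List ℕ, (L.reverse.map s).prod = ((L.map s).prod)⁻¹
  | [] => by simp
  | b :: L => by
    simp only [List.reverse_cons, List.map_append, List.map_cons, List.map_nil, List.prod_append,
      List.prod_cons, List.prod_nil, mul_one, mul_inv_rev]
    rw [rev_prod hsq L, inv_eq_of_mul_eq_one_left (hsq b)]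

theorem run1_sound (H : Holds C n s) {T : ℕ → G} {st : State} (hV : Valid s n T st) (a : Step) {st' : State}
    (h : run1 C n st a = some st') : ∃ T', Valid s n T' st' := by
  obtain ⟨c, es⟩ := st
  obtain ⟨hn, hT, hE⟩ := id hV
  have push : ∀ v l u, v < c → u < c → l < n → s l * T v * (s l)⁻¹ = T u →
      Valid s n T (c, (v, l, u) :: es) := fun v l u hv hu hl he => ⟨hn, hT, fun v' l' u' hm => by
    rcases List.mem_cons.1 hm with e | hm
    · cases e; exact ⟨hv, hu, hl, he⟩
    · exact hE v' l' u' hm⟩
  cases a with
  | fix v l =>
    simp only [run1] at h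
    split_ifs at h with hg
    obtain ⟨hm, hv, hl⟩ := hg
    cases h
    refine ⟨T, push v l v (by omega) (by omega) hl ?_⟩
    have hc : Commute (s v) (s l) := H.comm _ hm
    rw [hT v hv, ← hc.eq, mul_inv_cancel_right]
  | braid v l r =>
    simp only [run1] at h
    split_ifs at h with hg
    obtain ⟨hm, hv, hl⟩ := hg
    split at h
    · rename_i u hf
      cases h
      obtain ⟨hu, he⟩ := follow_sound H hV [v] [r] l u (show l < c by omega) hf
      refine ⟨T, push v l u (by omega) hu hl ?_⟩
      rw [← he]
      show s l * T v * (s l)⁻¹ = s v * T l * (s v)⁻¹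
      rw [hT v hv, hT l hl, inv_eq_of_mul_eq_one_left (H.sq v), inv_eq_of_mul_eq_one_left (H.sq l)]
      exact (H.braid _ hm).symm
    · simp at h
  | tree v l =>
    simp only [run1] at h
    split_ifs at h with hg
    obtain ⟨hv, hl⟩ := hg
    cases h
    refine ⟨Function.update T c (s l * T v * (s l)⁻¹), by show n ≤ c + 1; omega, fun j hj => ?_,
      fun v' l' u' hm => ?_⟩
    · rw [Function.update_of_ne (by omega)]; exact hT j hj
    · rcases List.mem_cons.1 hm with e | hm
      · cases e
        refine ⟨by show v < c + 1; omega, by show c < c + 1; omega, hl, ?_⟩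
        rw [Function.update_of_ne (by omega), Function.update_self]
      · obtain ⟨q1, q2, q3, q4⟩ := hE v' l' u' hm
        change v' < c at q1; change u' < c at q2
        refine ⟨by show v' < c + 1; omega, by show u' < c + 1; omega, q3, ?_⟩
        rw [Function.update_of_ne (by omega), Function.update_of_ne (by omega)]
        exact q4
  | eqn e p q =>
    simp only [run1] at h
    split at h
    · rename_i W x W' y hget
      split_ifs at h with hg
      obtain ⟨hx, hy, hW, hl⟩ := hg
      split at h
      · rename_i v u hf hf'
        cases h
        obtain ⟨hv, hev⟩ := follow_sound H hV _ p x v (show x < c by omega) hf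
        obtain ⟨hu, heu⟩ := follow_sound H hV _ q y u (show y < c by omega) hf'
        refine ⟨T, push v _ u hv hu hl ?_⟩
        rw [← hev, ← heu, hT x hx, hT y hy, ← crun_dropLast hW]
        exact H.eqns _ (List.mem_of_getElem? hget)
      · simp at h
    · simp at h
  | cycle r k p =>
    simp only [run1] at h
    split at h
    · rename_i R hget
      split at h
      · simp at h
      · rename_i r₀ p'
        split at h
        · simp at h
        · rename_i v l u hg0
          obtain ⟨hv, hu, -, -⟩ := hE v l u (List.mem_of_getElem? hg0)
          generalize hx : (if r₀ % 2 = 0 then v else u) = x at h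
          have hxc : x < c := by rw [← hx]; split_ifs <;> assumption
          split_ifs at h with hg
          obtain ⟨hW, hl'⟩ := hg
          split at h
          · rename_i y hf
            cases h
            obtain ⟨hy, hey⟩ := follow_sound H hV _ (r₀ :: p') x y hxc hf
            refine ⟨T, push y _ x hy hxc hl' ?_⟩
            rw [← hey, ← crun_dropLast hW, crun_eq]
            have e1 : ((R.drop k ++ R.take k).map s).prod = 1 := by
              rw [List.map_append, List.prod_append]
              have := H.rels R (List.mem_of_getElem? hget)
              rw [← List.take_append_drop k R, List.map_append, List.prod_append] at this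
              exact mul_eq_one_symm this
            rw [rev_prod H.sq, e1]
            simp
          · simp at h
    · simp at h

theorem runAll_sound (H : Holds C n s) : ∀ (as : List Step) (T : ℕ → G) (st : State), Valid s n T st →
    ∀ {st' : State}, runAll C n st as = some st' → ∃ T', Valid s n T' st'
  | [], T, st, hV, st', h => by simp only [runAll, Option.some.injEq] at h; exact ⟨T, h ▸ hV⟩
  | a :: as, T, st, hV, st', h => by
    simp only [runAll] at h
    split at h
    · rename_i st1 h1
      obtain ⟨T1, hV1⟩ := run1_sound H hV a h1
      exact runAll_sound H as T1 st1 hV1 h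
    · simp at h

theorem trace_sound (H : Holds C n s) {T : ℕ → G} {st : State} (hV : Valid s n T st) :
    ∀ (W : List ℕ) (cur u : ℕ), trace st.2 cur W = some u → crun s (T cur) W = T u
  | [], cur, u, h => by simp only [trace, Option.some.injEq] at h; exact h ▸ rfl
  | l :: W, cur, u, h => by
    simp only [trace] at h
    split at h
    · rename_i v l' w hf
      obtain ⟨-, -, -, he⟩ := hV.2.2 v l' w (List.mem_of_find?_eq_some hf)
      have hp := List.find?_some hf
      simp only [Bool.and_eq_true, Bool.or_eq_true, beq_iff_eq] at hp
      obtain ⟨rfl, hp⟩ := hp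
      split_ifs at h with h1
      · subst h1
        rw [← trace_sound H hV W w u h, ← he]; rfl
      · obtain rfl : w = cur := hp.resolve_left h1
        rw [← trace_sound H hV W v u h, ← conj_back (H.sq _) he]; rfl
    · simp at h

/-- A checked word commutes with every generator. -/
theorem fixed_of_check (H : Holds C n s) {W : List ℕ} (h : C.fixes n W = true) {x : ℕ} (hx : x < n) :
    Commute (W.map s).prod (s x) := by
  simp only [Spec.fixes] at h
  split at h
  · rename_i c es hr
    obtain ⟨T, hV⟩ := runAll_sound H C.steps s (n, []) ⟨le_rfl, fun _ _ => rfl, by simp⟩ hr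
    simp only [List.all_eq_true, List.mem_range, beq_iff_eq] at h
    have e := trace_sound H hV W x x (h x hx)
    rw [hV.2.1 x hx, crun_eq, rev_prod H.sq, inv_inv] at e
    calc (W.map s).prod * s x = (W.map s).prod * ((W.map s).prod⁻¹ * s x * (W.map s).prod) := by rw [e]
      _ = s x * (W.map s).prod := by group
  · simp at h

end Cfsg.Agent.FischerM22.ConjTable
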