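/-
Certificates for the action by conjugation of Coxeter words in Y-diagrams.

* `e7a`, `e7b` : the diagrams E7 on `a b c d e f h` and on `b c d e f g h`;
* `y222` : the diagram Y222 on `b c d e f h i` with `b` and the highest root reflection `θ` of `c d e f h i`
  not commuting.
-/
import Cfsg.Agent.Lib.FischerM22.ConjTable

set_option autoImplicit false
set_option maxRecDepth 100000

namespace Cfsg.Agent.FischerM22.ConjTable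

/-- The certificate `e7a`. -/
def e7a : Spec where
  comm := [(0, 0), (0, 2), (0, 3), (0, 4), (0, 5), (0, 6), (1, 1), (1, 3), (1, 4), (1, 5), (1, 6), (2, 0), (2, 2), (2, 4), (2, 5), (2, 6), (3, 0), (3, 1), (3, 3), (3, 5), (4, 0), (4, 1), (4, 2), (4, 4), (4, 6), (5, 0), (5, 1), (5, 2), (5, 3), (5, 5), (5, 6), (6, 0), (6, 1), (6, 2), (6, 4), (6, 5), (6, 6)]
  braid := [(0, 1), (1, 0), (1, 2), (2, 1), (2, 3), (3, 2), (3, 4), (3, 6), (4, 3), (4, 5), (5, 4), (6, 3)]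
  rels := [[0, 1, 0, 1, 0, 1], [0, 2, 0, 2], [0, 3, 0, 3], [0, 4, 0, 4], [0, 5, 0, 5], [0, 6, 0, 6], [1, 2, 1, 2, 1, 2], [1, 3, 1, 3], [1, 4, 1, 4], [1, 5, 1, 5], [1, 6, 1, 6], [2, 3, 2, 3, 2, 3], [2, 4, 2, 4], [2, 5, 2, 5], [2, 6, 2, 6], [3, 4, 3, 4, 3, 4], [3, 5, 3, 5], [3, 6, 3, 6, 3, 6], [4, 5, 4, 5, 4, 5], [4, 6, 4, 6], [5, 6, 5, 6]]
  eqns := []
  steps := [
    .fix 0 0,
    .fix 0 2,
    .fix 0 3,
    .fix 0 4,
    .fix 0 5,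
    .fix 0 6,
    .fix 1 1,
    .fix 1 3,
    .fix 1 4,
    .fix 1 5,
    .fix 1 6,
    .fix 2 0,
    .fix 2 2,
    .fix 2 4,
    .fix 2 5,
    .fix 2 6,
    .fix 3 0,
    .fix 3 1,
    .fix 3 3,
    .fix 3 5,
    .fix 4 0,
    .fix 4 1,
    .fix 4 2,
    .fix 4 4,
    .fix 4 6,
    .fix 5 0,
    .fix 5 1,
    .fix 5 2,
    .fix 5 3,
    .fix 5 5,
    .fix 5 6,
    .fix 6 0,
    .fix 6 1,
    .fix 6 2,
    .fix 6 4,
    .fix 6 5,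
    .fix 6 6,
    .tree 0 1,
    .braid 1 0 0,
    .cycle 2 0 [1, 62, 0],
    .cycle 3 0 [3, 62, 2],
    .cycle 4 0 [5, 62, 4],
    .cycle 5 0 [7, 62, 6],
    .tree 1 2,
    .braid 2 1 0,
    .cycle 8 0 [1, 62, 0],
    .cycle 9 0 [3, 62, 2],
    .cycle 10 0 [5, 62, 4],
    .tree 2 3,
    .braid 3 2 0,
    .cycle 1 1 [1, 66, 0],
    .cycle 13 0 [3, 62, 2],
    .tree 3 4,
    .braid 4 3 0,
    .cycle 2 1 [1, 66, 0],
    .cycle 7 1 [3, 66, 2],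
    .tree 3 6,
    .braid 6 3 0,
    .cycle 2 1 [1, 52, 0],
    .cycle 7 1 [3, 52, 2],
    .cycle 16 0 [5, 48, 4],
    .tree 4 5,
    .braid 5 4 0,
    .cycle 3 1 [1, 74, 0],
    .cycle 8 1 [3, 74, 2],
    .cycle 12 1 [5, 74, 4],
    .cycle 19 0 [7, 70, 6],
    .tree 7 2,
    .cycle 1 1 [49, 58, 0],
    .cycle 3 0 [0, 46, 1],
    .cycle 4 0 [2, 46, 3],
    .cycle 5 0 [4, 46, 5],
    .cycle 6 1 [9, 69, 140, 68, 8],
    .tree 8 3,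
    .cycle 7 1 [51, 58, 0],
    .cycle 9 0 [0, 46, 1],
    .cycle 11 1 [5, 65, 136, 64, 4],
    .tree 9 4,
    .cycle 3 1 [1, 54, 0],
    .cycle 12 1 [53, 58, 2],
    .cycle 15 1 [5, 63, 132, 62, 4],
    .tree 9 6,
    .cycle 5 1 [1, 62, 0],
    .cycle 14 1 [53, 66, 2],
    .cycle 17 1 [5, 71, 136, 70, 4],
    .cycle 20 1 [7, 66, 6],
    .tree 10 5,
    .cycle 4 1 [1, 64, 0],
    .cycle 9 1 [3, 64, 2],
    .cycle 16 1 [55, 70, 4],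
    .cycle 18 1 [7, 75, 140, 74, 6],
    .tree 10 6,
    .cycle 5 1 [1, 74, 0],
    .cycle 10 1 [3, 74, 2],
    .cycle 17 1 [5, 81, 138, 80, 4],
    .cycle 19 1 [77, 84, 6],
    .tree 13 3,
    .cycle 2 1 [47, 57, 0],
    .cycle 4 0 [0, 44, 1],
    .cycle 7 1 [5, 52, 4],
    .cycle 11 1 [7, 65, 120, 64, 6],
    .tree 14 4,
    .cycle 8 1 [49, 55, 0],
    .cycle 12 1 [3, 52, 2],
    .cycle 15 1 [5, 61, 116, 60, 4],
    .tree 14 6,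
    .cycle 10 1 [49, 63, 0],
    .cycle 14 1 [3, 60, 2],
    .cycle 17 1 [5, 69, 120, 68, 4],
    .cycle 20 1 [7, 66, 6],
    .tree 15 5,
    .cycle 4 1 [1, 64, 0],
    .cycle 13 1 [51, 65, 2],
    .cycle 16 1 [5, 64, 4],
    .cycle 18 1 [7, 73, 124, 72, 6],
    .tree 15 6,
    .cycle 5 1 [1, 74, 0],
    .cycle 14 1 [51, 75, 2],
    .cycle 19 1 [73, 80, 4],
    .tree 17 6,
    .cycle 5 1 [1, 64, 0],
    .cycle 10 1 [3, 64, 2],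
    .cycle 17 1 [5, 64, 110, 65, 4],
    .cycle 19 1 [7, 64, 6],
    .cycle 20 1 [65, 74, 8],
    .tree 19 4,
    .cycle 3 1 [49, 57, 0],
    .cycle 8 1 [3, 54, 2],
    .cycle 12 1 [5, 54, 4],
    .cycle 15 1 [7, 65, 118, 64, 6],
    .tree 19 6,
    .cycle 5 1 [51, 67, 0],
    .cycle 10 1 [3, 64, 2],
    .cycle 14 1 [5, 64, 4],
    .cycle 17 1 [7, 75, 124, 74, 6],
    .cycle 20 1 [9, 72, 8],
    .tree 20 5,
    .cycle 9 1 [53, 69, 0],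
    .cycle 13 1 [3, 68, 2],
    .cycle 16 1 [5, 68, 4],
    .cycle 18 1 [7, 77, 128, 76, 6],
    .tree 20 6,
    .cycle 10 1 [53, 79, 0],
    .cycle 14 1 [3, 78, 2],
    .cycle 19 1 [77, 84, 4],
    .tree 22 6,
    .cycle 5 1 [1, 68, 0],
    .cycle 14 1 [55, 69, 2],
    .cycle 19 1 [5, 66, 4],
    .cycle 20 1 [67, 76, 6],
    .tree 23 3,
    .cycle 2 1 [1, 68, 0],
    .cycle 11 1 [3, 68, 114, 69, 2],
    .cycle 15 0 [5, 68, 136, 69, 4],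
    .cycle 17 0 [7, 77, 146, 76, 6],
    .tree 25 5,
    .cycle 4 1 [39, 59, 0],
    .cycle 9 1 [3, 58, 2],
    .cycle 13 1 [5, 58, 4],
    .cycle 16 1 [7, 58, 6],
    .cycle 18 1 [9, 69, 122, 68, 8],
    .tree 25 6,
    .cycle 5 1 [41, 71, 0],
    .cycle 10 1 [3, 70, 2],
    .cycle 14 1 [5, 70, 4],
    .cycle 19 1 [69, 78, 6],
    .tree 27 6,
    .cycle 10 1 [43, 59, 0],
    .cycle 14 1 [3, 58, 2],
    .cycle 19 1 [5, 56, 4],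
    .cycle 20 1 [57, 66, 6],
    .tree 28 3,
    .cycle 7 1 [43, 59, 0],
    .cycle 8 0 [0, 38, 1],
    .cycle 10 0 [2, 38, 3],
    .tree 29 3,
    .cycle 2 1 [1, 58, 0],
    .cycle 11 1 [3, 58, 108, 59, 2],
    .cycle 16 0 [55, 57, 4],
    .cycle 17 0 [7, 67, 130, 66, 6],
    .tree 31 6,
    .cycle 5 1 [29, 49, 0],
    .cycle 10 1 [3, 48, 2],
    .cycle 14 1 [5, 48, 4],
    .cycle 19 1 [7, 46, 6],
    .cycle 20 1 [47, 58, 8],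
    .tree 32 3,
    .cycle 2 1 [31, 49, 0],
    .cycle 3 0 [0, 28, 1],
    .cycle 5 0 [2, 28, 3],
    .cycle 7 1 [7, 52, 6],
    .tree 33 3,
    .cycle 7 1 [33, 49, 0],
    .cycle 9 0 [40, 29, 1],
    .cycle 10 0 [2, 28, 3],
    .tree 34 2,
    .cycle 6 1 [1, 46, 86, 47, 0],
    .cycle 11 0 [3, 51, 106, 50, 2],
    .cycle 12 0 [5, 48, 4],
    .cycle 14 0 [7, 48, 6],
    .tree 35 4,
    .cycle 3 1 [1, 48, 0],
    .cycle 12 1 [3, 48, 2],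
    .cycle 15 1 [5, 55, 108, 54, 4],
    .cycle 18 0 [7, 50, 100, 51, 6],
    .cycle 19 0 [9, 50, 8],
    .tree 36 3,
    .cycle 2 1 [31, 51, 0],
    .cycle 4 0 [40, 29, 1],
    .cycle 5 0 [2, 28, 3],
    .cycle 7 1 [7, 54, 6],
    .tree 37 2,
    .cycle 1 1 [33, 49, 0],
    .cycle 2 0 [0, 30, 1],
    .cycle 3 0 [2, 30, 3],
    .cycle 5 0 [4, 30, 5],
    .tree 38 2,
    .cycle 6 1 [1, 48, 78, 49, 0],
    .cycle 11 0 [3, 53, 98, 52, 2],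
    .cycle 13 0 [47, 51, 4],
    .cycle 14 0 [7, 50, 6],
    .tree 38 4,
    .cycle 8 1 [43, 59, 0],
    .cycle 9 0 [0, 36, 1],
    .cycle 10 0 [2, 36, 3],
    .cycle 15 1 [7, 67, 110, 66, 6],
    .tree 41 2,
    .cycle 1 1 [21, 39, 0],
    .cycle 2 0 [0, 18, 1],
    .cycle 4 0 [32, 19, 3],
    .cycle 5 0 [4, 18, 5],
    .tree 41 4,
    .cycle 3 1 [21, 49, 0],
    .cycle 4 0 [0, 18, 1],
    .cycle 5 0 [2, 18, 3],
    .cycle 8 1 [7, 48, 6],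
    .cycle 15 1 [9, 59, 102, 58, 8],
    .tree 42 1,
    .cycle 0 1 [1, 50, 82, 51, 0],
    .cycle 6 0 [3, 55, 96, 54, 2],
    .cycle 7 0 [5, 52, 4],
    .cycle 8 0 [7, 52, 6],
    .cycle 10 0 [9, 52, 8],
    .tree 43 4,
    .cycle 8 1 [1, 52, 0],
    .cycle 12 1 [47, 56, 2],
    .cycle 13 0 [0, 44, 1],
    .cycle 14 0 [2, 44, 3],
    .tree 45 1,
    .cycle 0 1 [1, 42, 62, 43, 0],
    .cycle 6 0 [3, 47, 78, 46, 2],
    .cycle 7 0 [5, 44, 4],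
    .cycle 9 0 [29, 45, 6],
    .cycle 10 0 [9, 44, 8],
    .tree 45 4,
    .cycle 3 1 [23, 55, 0],
    .cycle 4 0 [0, 18, 1],
    .cycle 5 0 [2, 18, 3],
    .cycle 12 1 [53, 62, 6],
    .tree 48 3,
    .cycle 7 1 [1, 30, 0],
    .cycle 11 1 [3, 30, 70, 31, 2],
    .cycle 15 0 [5, 37, 86, 36, 4],
    .cycle 16 0 [7, 32, 6],
    .tree 49 4,
    .cycle 3 1 [1, 30, 0],
    .cycle 8 1 [23, 34, 2],
    .cycle 9 0 [0, 20, 1],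
    .cycle 10 0 [2, 20, 3],
    .cycle 12 1 [9, 36, 8],
    .tree 50 3,
    .cycle 2 1 [23, 31, 0],
    .cycle 3 0 [0, 18, 1],
    .cycle 4 0 [2, 18, 3],
    .cycle 11 1 [7, 30, 74, 31, 6],
    .tree 51 6,
    .cycle 10 1 [1, 30, 0],
    .cycle 14 1 [3, 30, 2],
    .cycle 17 1 [5, 37, 60, 36, 4],
    .cycle 19 1 [7, 32, 6],
    .cycle 20 1 [9, 32, 8],
    .tree 52 3,
    .cycle 2 1 [1, 32, 0],
    .cycle 7 1 [25, 33, 2],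
    .cycle 8 0 [0, 22, 1],
    .cycle 9 0 [2, 22, 3],
    .tree 53 6,
    .cycle 5 1 [23, 31, 0],
    .cycle 14 1 [3, 26, 2],
    .cycle 17 1 [5, 37, 62, 36, 4],
    .cycle 19 1 [7, 34, 6],
    .cycle 20 1 [9, 34, 8],
    .tree 55 2,
    .cycle 1 1 [1, 20, 0],
    .cycle 6 1 [3, 20, 38, 21, 2],
    .cycle 11 0 [5, 27, 50, 26, 4],
    .cycle 12 0 [7, 22, 6],
    .cycle 13 0 [9, 22, 8],
    .tree 55 6,
    .cycle 5 1 [1, 32, 0],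
    .cycle 10 1 [27, 33, 2],
    .cycle 17 1 [5, 39, 64, 38, 4],
    .cycle 19 1 [7, 34, 6],
    .cycle 20 1 [9, 34, 8],
    .tree 57 6,
    .cycle 5 1 [1, 22, 0],
    .cycle 10 1 [3, 22, 2],
    .cycle 14 1 [17, 28, 4],
    .cycle 19 1 [7, 22, 6],
    .cycle 20 1 [9, 22, 8],
    .tree 59 3,
    .cycle 2 1 [1, 10, 0],
    .cycle 7 1 [3, 10, 2],
    .cycle 11 1 [5, 10, 22, 11, 4],
    .cycle 16 0 [7, 8, 6],
    .cycle 17 0 [9, 21, 38, 20, 8],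
    .tree 60 4,
    .cycle 3 1 [1, 10, 0],
    .cycle 8 1 [3, 10, 2],
    .cycle 12 1 [5, 10, 4],
    .cycle 15 1 [7, 19, 22, 18, 6],
    .cycle 19 0 [9, 10, 8],
    .tree 61 5,
    .cycle 4 1 [1, 10, 0],
    .cycle 9 1 [3, 10, 2],
    .cycle 13 1 [5, 10, 4],
    .cycle 16 1 [7, 10, 6],
    .cycle 18 1 [9, 21, 24, 20, 8],
    .cycle 20 0 [11, 12, 10]]

/-- The certificate `e7b`. -/
def e7b : Spec where
  comm := [(0, 0), (0, 2), (0, 3), (0, 4), (0, 5), (0, 6), (1, 1), (1, 3), (1, 4), (1, 5), (1, 6), (2, 0), (2, 2), (2, 4), (2, 5), (3, 0), (3, 1), (3, 3), (3, 5), (3, 6), (4, 0), (4, 1), (4, 2), (4, 4), (4, 6), (5, 0), (5, 1), (5, 2), (5, 3), (5, 5), (5, 6), (6, 0), (6, 1), (6, 3), (6, 4), (6, 5), (6, 6)]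
  braid := [(0, 1), (1, 0), (1, 2), (2, 1), (2, 3), (2, 6), (3, 2), (3, 4), (4, 3), (4, 5), (5, 4), (6, 2)]
  rels := [[0, 1, 0, 1, 0, 1], [0, 2, 0, 2], [0, 3, 0, 3], [0, 4, 0, 4], [0, 5, 0, 5], [0, 6, 0, 6], [1, 2, 1, 2, 1, 2], [1, 3, 1, 3], [1, 4, 1, 4], [1, 5, 1, 5], [1, 6, 1, 6], [2, 3, 2, 3, 2, 3], [2, 4, 2, 4], [2, 5, 2, 5], [2, 6, 2, 6, 2, 6], [3, 4, 3, 4, 3, 4], [3, 5, 3, 5], [3, 6, 3, 6], [4, 5, 4, 5, 4, 5], [4, 6, 4, 6], [5, 6, 5, 6]]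
  eqns := []
  steps := [
    .fix 0 0,
    .fix 0 2,
    .fix 0 3,
    .fix 0 4,
    .fix 0 5,
    .fix 0 6,
    .fix 1 1,
    .fix 1 3,
    .fix 1 4,
    .fix 1 5,
    .fix 1 6,
    .fix 2 0,
    .fix 2 2,
    .fix 2 4,
    .fix 2 5,
    .fix 3 0,
    .fix 3 1,
    .fix 3 3,
    .fix 3 5,
    .fix 3 6,
    .fix 4 0,
    .fix 4 1,
    .fix 4 2,
    .fix 4 4,
    .fix 4 6,
    .fix 5 0,
    .fix 5 1,
    .fix 5 2,
    .fix 5 3,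
    .fix 5 5,
    .fix 5 6,
    .fix 6 0,
    .fix 6 1,
    .fix 6 3,
    .fix 6 4,
    .fix 6 5,
    .fix 6 6,
    .tree 0 1,
    .braid 1 0 0,
    .cycle 2 0 [1, 62, 0],
    .cycle 3 0 [3, 62, 2],
    .cycle 4 0 [5, 62, 4],
    .cycle 5 0 [7, 62, 6],
    .tree 1 2,
    .braid 2 1 0,
    .cycle 8 0 [1, 62, 0],
    .cycle 9 0 [3, 62, 2],
    .tree 2 3,
    .braid 3 2 0,
    .cycle 1 1 [1, 66, 0],
    .cycle 13 0 [3, 62, 2],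
    .tree 2 6,
    .braid 6 2 0,
    .cycle 1 1 [1, 42, 0],
    .cycle 12 0 [3, 38, 2],
    .cycle 13 0 [5, 38, 4],
    .tree 3 4,
    .braid 4 3 0,
    .cycle 2 1 [1, 74, 0],
    .cycle 7 1 [3, 74, 2],
    .cycle 17 0 [5, 70, 4],
    .tree 4 5,
    .braid 5 4 0,
    .cycle 3 1 [1, 74, 0],
    .cycle 8 1 [3, 74, 2],
    .cycle 12 1 [5, 74, 4],
    .cycle 19 0 [7, 70, 6],
    .tree 7 2,
    .cycle 1 1 [49, 58, 0],
    .cycle 3 0 [0, 46, 1],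
    .cycle 4 0 [2, 46, 3],
    .cycle 6 1 [7, 67, 138, 66, 6],
    .tree 8 3,
    .cycle 7 1 [51, 56, 0],
    .cycle 9 0 [0, 46, 1],
    .cycle 11 1 [5, 63, 134, 62, 4],
    .tree 8 6,
    .cycle 10 1 [51, 64, 0],
    .cycle 14 1 [3, 69, 134, 68, 2],
    .cycle 19 1 [5, 66, 4],
    .cycle 20 1 [7, 66, 6],
    .tree 9 4,
    .cycle 3 1 [1, 64, 0],
    .cycle 12 1 [53, 68, 2],
    .cycle 15 1 [5, 73, 140, 72, 4],
    .tree 9 6,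
    .cycle 5 1 [1, 72, 0],
    .cycle 14 1 [3, 77, 134, 76, 2],
    .cycle 17 1 [73, 80, 4],
    .cycle 20 1 [7, 76, 6],
    .tree 11 5,
    .cycle 4 1 [1, 64, 0],
    .cycle 9 1 [3, 64, 2],
    .cycle 16 1 [63, 70, 4],
    .cycle 17 0 [0, 54, 1],
    .cycle 18 1 [9, 77, 152, 76, 8],
    .tree 13 3,
    .cycle 2 1 [49, 57, 0],
    .cycle 4 0 [0, 46, 1],
    .cycle 7 1 [5, 54, 4],
    .cycle 11 1 [7, 65, 120, 64, 6],
    .tree 13 6,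
    .cycle 5 1 [51, 67, 0],
    .cycle 10 1 [3, 62, 2],
    .cycle 14 1 [5, 73, 122, 72, 4],
    .cycle 19 1 [7, 70, 6],
    .cycle 20 1 [9, 70, 8],
    .tree 14 4,
    .cycle 8 1 [53, 69, 0],
    .cycle 12 1 [3, 66, 2],
    .cycle 15 1 [5, 75, 128, 74, 4],
    .tree 14 6,
    .cycle 10 1 [53, 77, 0],
    .cycle 17 1 [73, 80, 2],
    .cycle 20 1 [5, 78, 4],
    .tree 16 5,
    .cycle 4 1 [1, 66, 0],
    .cycle 13 1 [53, 67, 2],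
    .cycle 16 1 [5, 66, 4],
    .cycle 18 1 [7, 75, 136, 74, 6],
    .tree 16 6,
    .cycle 5 1 [1, 76, 0],
    .cycle 14 1 [3, 76, 122, 77, 2],
    .cycle 17 1 [5, 76, 4],
    .cycle 19 1 [77, 84, 6],
    .tree 19 4,
    .cycle 3 1 [37, 57, 0],
    .cycle 8 1 [3, 54, 2],
    .cycle 12 1 [5, 54, 4],
    .cycle 15 1 [7, 65, 118, 64, 6],
    .tree 19 6,
    .cycle 5 1 [39, 67, 0],
    .cycle 10 1 [3, 64, 2],
    .cycle 17 1 [63, 72, 4],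
    .cycle 20 1 [7, 70, 6],
    .tree 21 5,
    .cycle 9 1 [41, 55, 0],
    .cycle 13 1 [3, 54, 2],
    .cycle 16 1 [5, 54, 4],
    .cycle 18 1 [7, 63, 128, 62, 6],
    .tree 21 6,
    .cycle 10 1 [41, 65, 0],
    .cycle 17 1 [3, 62, 2],
    .cycle 19 1 [63, 70, 4],
    .tree 22 2,
    .cycle 6 1 [1, 64, 114, 65, 0],
    .cycle 11 0 [3, 64, 134, 65, 2],
    .cycle 13 0 [5, 64, 4],
    .cycle 14 0 [7, 73, 144, 72, 6],
    .tree 23 6,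
    .cycle 5 1 [1, 66, 0],
    .cycle 14 1 [3, 66, 112, 67, 2],
    .cycle 17 1 [5, 66, 4],
    .cycle 19 1 [7, 66, 6],
    .cycle 20 1 [67, 76, 8],
    .tree 25 5,
    .cycle 4 1 [41, 59, 0],
    .cycle 9 1 [3, 58, 2],
    .cycle 13 1 [5, 58, 4],
    .cycle 16 1 [7, 58, 6],
    .cycle 18 1 [9, 69, 122, 68, 8],
    .tree 25 6,
    .cycle 5 1 [43, 71, 0],
    .cycle 10 1 [3, 70, 2],
    .cycle 17 1 [5, 68, 4],
    .cycle 19 1 [69, 78, 6],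
    .tree 26 2,
    .cycle 1 1 [45, 71, 0],
    .cycle 2 0 [0, 42, 1],
    .cycle 4 0 [2, 42, 3],
    .cycle 5 0 [4, 42, 5],
    .tree 27 6,
    .cycle 10 1 [45, 71, 0],
    .cycle 17 1 [3, 68, 2],
    .cycle 19 1 [5, 68, 4],
    .cycle 20 1 [69, 78, 6],
    .tree 28 2,
    .cycle 6 1 [1, 70, 108, 71, 0],
    .cycle 12 0 [67, 69, 2],
    .cycle 14 0 [5, 77, 138, 76, 4],
    .tree 31 6,
    .cycle 5 1 [19, 49, 0],
    .cycle 10 1 [3, 48, 2],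
    .cycle 17 1 [5, 46, 4],
    .cycle 19 1 [7, 46, 6],
    .cycle 20 1 [47, 58, 8],
    .tree 32 2,
    .cycle 1 1 [21, 49, 0],
    .cycle 3 0 [40, 19, 1],
    .cycle 5 0 [2, 18, 3],
    .tree 33 1,
    .cycle 0 1 [1, 46, 90, 47, 0],
    .cycle 6 0 [3, 51, 118, 50, 2],
    .cycle 7 0 [5, 48, 4],
    .cycle 9 0 [7, 48, 6],
    .cycle 10 0 [9, 48, 8],
    .tree 34 2,
    .cycle 6 1 [1, 48, 90, 49, 0],
    .cycle 12 0 [3, 46, 2],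
    .cycle 13 0 [45, 47, 4],
    .cycle 14 0 [7, 57, 124, 56, 6],
    .tree 35 3,
    .cycle 7 1 [1, 48, 0],
    .cycle 11 1 [3, 53, 120, 52, 2],
    .cycle 15 0 [5, 50, 114, 51, 4],
    .cycle 17 0 [7, 50, 6],
    .tree 36 2,
    .cycle 1 1 [21, 51, 0],
    .cycle 3 0 [0, 18, 1],
    .cycle 4 0 [42, 19, 3],
    .cycle 5 0 [4, 18, 5],
    .tree 37 1,
    .cycle 0 1 [1, 48, 68, 49, 0],
    .cycle 6 0 [3, 53, 98, 52, 2],
    .cycle 8 0 [47, 51, 4],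
    .cycle 10 0 [7, 50, 6],
    .tree 37 3,
    .cycle 2 1 [31, 59, 0],
    .cycle 3 0 [0, 26, 1],
    .cycle 5 0 [2, 26, 3],
    .cycle 11 1 [7, 67, 110, 66, 6],
    .tree 39 3,
    .cycle 7 1 [1, 48, 0],
    .cycle 11 1 [3, 53, 98, 52, 2],
    .cycle 16 0 [45, 49, 4],
    .cycle 17 0 [7, 48, 6],
    .tree 41 1,
    .cycle 0 1 [1, 38, 58, 39, 0],
    .cycle 6 0 [3, 43, 90, 42, 2],
    .cycle 8 0 [5, 40, 4],
    .cycle 9 0 [37, 41, 6],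
    .cycle 10 0 [9, 40, 8],
    .tree 41 3,
    .cycle 2 1 [23, 51, 0],
    .cycle 4 0 [32, 19, 1],
    .cycle 5 0 [2, 18, 3],
    .cycle 11 1 [7, 59, 104, 58, 6],
    .tree 42 3,
    .cycle 2 1 [1, 50, 0],
    .cycle 7 1 [45, 54, 2],
    .cycle 8 0 [0, 42, 1],
    .cycle 10 0 [2, 42, 3],
    .tree 44 4,
    .cycle 8 1 [1, 40, 0],
    .cycle 12 1 [3, 40, 2],
    .cycle 15 1 [5, 47, 92, 46, 4],
    .cycle 18 0 [7, 42, 82, 43, 6],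
    .cycle 19 0 [9, 42, 8],
    .tree 45 3,
    .cycle 2 1 [1, 42, 0],
    .cycle 7 1 [35, 46, 2],
    .cycle 9 0 [22, 33, 1],
    .cycle 10 0 [2, 32, 3],
    .tree 46 4,
    .cycle 3 1 [23, 41, 0],
    .cycle 4 0 [0, 16, 1],
    .cycle 5 0 [2, 16, 3],
    .cycle 12 1 [7, 40, 6],
    .cycle 15 1 [9, 51, 98, 50, 8],
    .tree 47 2,
    .cycle 1 1 [1, 42, 0],
    .cycle 6 1 [3, 42, 80, 43, 2],
    .cycle 11 0 [5, 49, 96, 48, 4],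
    .cycle 12 0 [7, 44, 6],
    .tree 49 2,
    .cycle 1 1 [1, 30, 0],
    .cycle 6 1 [3, 30, 58, 31, 2],
    .cycle 11 0 [5, 37, 76, 36, 4],
    .cycle 13 0 [17, 33, 6],
    .tree 49 4,
    .cycle 3 1 [1, 40, 0],
    .cycle 8 1 [35, 41, 2],
    .cycle 9 0 [0, 32, 1],
    .cycle 10 0 [2, 32, 3],
    .cycle 15 1 [9, 51, 88, 50, 8],
    .tree 51 6,
    .cycle 5 1 [1, 30, 0],
    .cycle 10 1 [3, 30, 2],
    .cycle 14 1 [5, 37, 72, 36, 4],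
    .cycle 17 1 [7, 32, 6],
    .cycle 19 1 [9, 32, 8],
    .tree 52 4,
    .cycle 3 1 [1, 32, 0],
    .cycle 8 1 [3, 32, 2],
    .cycle 12 1 [29, 38, 4],
    .cycle 13 0 [0, 24, 1],
    .tree 52 6,
    .cycle 5 1 [1, 42, 0],
    .cycle 10 1 [3, 42, 2],
    .cycle 14 1 [5, 49, 72, 48, 4],
    .cycle 17 1 [7, 44, 6],
    .cycle 20 1 [31, 45, 8],
    .tree 55 3,
    .cycle 2 1 [1, 20, 0],
    .cycle 7 1 [3, 20, 2],
    .cycle 11 1 [5, 20, 40, 21, 4],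
    .cycle 15 0 [7, 29, 56, 28, 6],
    .cycle 16 0 [9, 22, 8],
    .tree 55 6,
    .cycle 5 1 [1, 32, 0],
    .cycle 10 1 [3, 32, 2],
    .cycle 14 1 [5, 32, 54, 33, 4],
    .cycle 19 1 [31, 40, 6],
    .cycle 20 1 [9, 34, 8],
    .tree 57 6,
    .cycle 5 1 [1, 22, 0],
    .cycle 10 1 [3, 22, 2],
    .cycle 17 1 [17, 28, 4],
    .cycle 19 1 [7, 22, 6],
    .cycle 20 1 [9, 22, 8],
    .tree 59 2,
    .cycle 1 1 [1, 10, 0],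
    .cycle 11 0 [3, 8, 20, 9, 2],
    .cycle 12 0 [5, 8, 4],
    .cycle 13 0 [7, 8, 6],
    .cycle 14 0 [9, 21, 38, 20, 8],
    .tree 60 1,
    .cycle 6 0 [1, 13, 20, 12, 0],
    .cycle 7 0 [3, 10, 2],
    .cycle 8 0 [5, 10, 4],
    .cycle 9 0 [7, 10, 6],
    .cycle 10 0 [9, 10, 8],
    .tree 61 0,
    .cycle 0 0 [1, 13, 22, 12, 0],
    .cycle 1 0 [3, 12, 2],
    .cycle 2 0 [5, 12, 4],
    .cycle 3 0 [7, 12, 6],
    .cycle 4 0 [9, 12, 8],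
    .cycle 5 0 [11, 12, 10]]

/-- The certificate `y222`. -/
def y222 : Spec where
  comm := [(0, 0), (0, 2), (0, 3), (0, 4), (0, 5), (0, 6), (1, 1), (1, 3), (1, 4), (1, 5), (1, 6), (2, 0), (2, 2), (2, 4), (2, 6), (3, 0), (3, 1), (3, 3), (3, 5), (3, 6), (4, 0), (4, 1), (4, 2), (4, 4), (4, 5), (4, 6), (5, 0), (5, 1), (5, 3), (5, 4), (5, 5), (6, 0), (6, 1), (6, 2), (6, 3), (6, 4), (6, 6)]
  braid := [(0, 1), (1, 0), (1, 2), (2, 1), (2, 3), (2, 5), (3, 2), (3, 4), (4, 3), (5, 2), (5, 6), (6, 5)]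
  rels := [[0, 1, 2, 5, 6, 3, 2, 5, 4, 3, 2, 1, 2, 3, 4, 5, 2, 3, 6, 5, 2, 1, 0, 1, 2, 5, 6, 3, 2, 5, 4, 3, 2, 1, 2, 3, 4, 5, 2, 3, 6, 5, 2, 1, 0, 1, 2, 5, 6, 3, 2, 5, 4, 3, 2, 1, 2, 3, 4, 5, 2, 3, 6, 5, 2, 1], [0, 1, 0, 1, 0, 1], [0, 2, 0, 2], [0, 3, 0, 3], [0, 4, 0, 4], [0, 5, 0, 5], [0, 6, 0, 6], [1, 2, 1, 2, 1, 2], [1, 3, 1, 3], [1, 4, 1, 4], [1, 5, 1, 5], [1, 6, 1, 6], [2, 3, 2, 3, 2, 3], [2, 4, 2, 4], [2, 5, 2, 5, 2, 5], [2, 6, 2, 6], [3, 4, 3, 4, 3, 4], [3, 5, 3, 5], [3, 6, 3, 6], [4, 5, 4, 5], [4, 6, 4, 6], [5, 6, 5, 6, 5, 6]]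
  eqns := [([2, 3, 4, 5, 2, 3, 6, 5, 2, 1, 0], 1, [1, 2, 5, 6, 3, 2, 5, 4, 3, 2, 1, 2, 3, 4, 5, 2, 3, 6, 5, 2, 1], 0)]
  steps := [
    .fix 0 0,
    .fix 0 2,
    .fix 0 3,
    .fix 0 4,
    .fix 0 5,
    .fix 0 6,
    .fix 1 1,
    .fix 1 3,
    .fix 1 4,
    .fix 1 5,
    .fix 1 6,
    .fix 2 0,
    .fix 2 2,
    .fix 2 4,
    .fix 2 6,
    .fix 3 0,
    .fix 3 1,
    .fix 3 3,
    .fix 3 5,
    .fix 3 6,
    .fix 4 0,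
    .fix 4 1,
    .fix 4 2,
    .fix 4 4,
    .fix 4 5,
    .fix 4 6,
    .fix 5 0,
    .fix 5 1,
    .fix 5 3,
    .fix 5 4,
    .fix 5 5,
    .fix 6 0,
    .fix 6 1,
    .fix 6 2,
    .fix 6 3,
    .fix 6 4,
    .fix 6 6,
    .tree 0 1,
    .braid 1 0 0,
    .cycle 3 0 [1, 62, 0],
    .cycle 4 0 [3, 62, 2],
    .cycle 5 0 [5, 62, 4],
    .cycle 6 0 [7, 62, 6],
    .tree 1 2,
    .braid 2 1 0,
    .cycle 9 0 [1, 62, 0],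
    .cycle 11 0 [3, 62, 2],
    .tree 2 3,
    .braid 3 2 0,
    .cycle 2 1 [1, 66, 0],
    .cycle 15 0 [3, 60, 2],
    .tree 2 5,
    .braid 5 2 0,
    .cycle 2 1 [1, 52, 0],
    .cycle 13 0 [3, 48, 2],
    .tree 3 4,
    .braid 4 3 0,
    .cycle 3 1 [1, 72, 0],
    .cycle 8 1 [3, 72, 2],
    .cycle 17 0 [5, 68, 4],
    .cycle 18 0 [7, 68, 6],
    .tree 5 6,
    .braid 6 5 0,
    .cycle 5 1 [1, 62, 0],
    .cycle 10 1 [3, 62, 2],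
    .cycle 17 1 [5, 60, 4],
    .cycle 19 1 [7, 60, 6],
    .tree 7 2,
    .cycle 2 1 [49, 58, 0],
    .cycle 4 0 [0, 46, 1],
    .cycle 6 0 [2, 46, 3],
    .cycle 7 1 [7, 67, 138, 66, 6],
    .tree 8 3,
    .cycle 8 1 [51, 56, 0],
    .cycle 11 0 [0, 46, 1],
    .cycle 12 1 [5, 63, 134, 62, 4],
    .tree 8 5,
    .cycle 10 1 [51, 64, 0],
    .cycle 14 1 [3, 69, 136, 68, 2],
    .cycle 19 1 [5, 66, 4],
    .tree 9 4,
    .cycle 4 1 [1, 62, 0],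
    .cycle 13 1 [53, 66, 2],
    .cycle 15 0 [0, 44, 1],
    .cycle 16 1 [7, 73, 140, 72, 6],
    .tree 9 5,
    .cycle 5 1 [1, 72, 0],
    .cycle 14 1 [3, 77, 136, 76, 2],
    .cycle 17 1 [73, 80, 4],
    .tree 10 6,
    .cycle 6 1 [1, 72, 0],
    .cycle 15 1 [59, 76, 2],
    .cycle 20 1 [5, 74, 4],
    .cycle 21 1 [7, 83, 156, 82, 6],
    .tree 13 3,
    .cycle 3 1 [45, 53, 0],
    .cycle 6 0 [0, 42, 1],
    .cycle 8 1 [5, 50, 4],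
    .cycle 12 1 [7, 61, 116, 60, 6],
    .tree 13 5,
    .cycle 5 1 [47, 63, 0],
    .cycle 10 1 [3, 58, 2],
    .cycle 14 1 [5, 69, 120, 68, 4],
    .cycle 19 1 [7, 66, 6],
    .tree 14 4,
    .cycle 9 1 [49, 63, 0],
    .cycle 11 0 [0, 44, 1],
    .cycle 13 1 [5, 62, 4],
    .cycle 16 1 [7, 71, 124, 70, 6],
    .tree 14 5,
    .cycle 10 1 [49, 73, 0],
    .cycle 17 1 [69, 76, 2],
    .tree 15 6,
    .cycle 11 1 [47, 71, 0],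
    .cycle 15 1 [3, 70, 2],
    .cycle 20 1 [5, 70, 4],
    .cycle 21 1 [7, 79, 138, 78, 6],
    .tree 16 5,
    .cycle 5 1 [1, 72, 0],
    .cycle 14 1 [3, 72, 118, 73, 2],
    .cycle 17 1 [5, 70, 4],
    .cycle 19 1 [71, 80, 6],
    .tree 17 6,
    .cycle 6 1 [1, 72, 0],
    .cycle 15 1 [3, 72, 2],
    .cycle 18 1 [71, 73, 4],
    .cycle 21 1 [7, 81, 150, 80, 6],
    .tree 19 4,
    .cycle 4 1 [47, 65, 0],
    .cycle 6 0 [0, 44, 1],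
    .cycle 9 1 [5, 64, 4],
    .cycle 13 1 [7, 64, 6],
    .cycle 16 1 [9, 75, 124, 74, 8],
    .tree 19 5,
    .cycle 5 1 [49, 77, 0],
    .cycle 10 1 [3, 74, 2],
    .cycle 17 1 [73, 82, 4],
    .tree 20 6,
    .cycle 6 1 [51, 75, 0],
    .cycle 11 1 [3, 74, 2],
    .cycle 15 1 [5, 74, 4],
    .cycle 20 1 [7, 74, 6],
    .cycle 21 1 [9, 85, 142, 84, 8],
    .tree 21 5,
    .cycle 10 1 [53, 77, 0],
    .cycle 17 1 [3, 72, 2],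
    .cycle 19 1 [73, 82, 4],
    .tree 22 2,
    .cycle 7 1 [1, 74, 120, 75, 0],
    .cycle 12 0 [3, 74, 140, 75, 2],
    .cycle 14 0 [5, 81, 148, 80, 4],
    .tree 22 6,
    .cycle 11 1 [59, 83, 0],
    .cycle 18 1 [81, 83, 2],
    .cycle 21 1 [5, 89, 158, 88, 4],
    .tree 24 6,
    .cycle 6 1 [1, 74, 0],
    .cycle 15 1 [3, 74, 2],
    .cycle 18 1 [5, 74, 4],
    .cycle 20 1 [73, 75, 6],
    .cycle 21 1 [9, 85, 152, 84, 8],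
    .tree 26 5,
    .cycle 5 1 [37, 67, 0],
    .cycle 10 1 [3, 64, 2],
    .cycle 17 1 [5, 62, 4],
    .cycle 19 1 [63, 74, 6],
    .tree 27 2,
    .cycle 2 1 [39, 65, 0],
    .cycle 3 0 [0, 36, 1],
    .cycle 5 0 [2, 36, 3],
    .tree 27 6,
    .cycle 6 1 [39, 73, 0],
    .cycle 11 1 [3, 72, 2],
    .cycle 18 1 [71, 73, 4],
    .cycle 21 1 [7, 81, 154, 80, 6],
    .tree 29 2,
    .cycle 7 1 [1, 62, 112, 63, 0],
    .cycle 13 0 [59, 61, 2],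
    .cycle 14 0 [5, 69, 140, 68, 4],
    .tree 29 6,
    .cycle 11 1 [49, 71, 0],
    .cycle 18 1 [3, 70, 2],
    .cycle 20 1 [61, 71, 4],
    .cycle 21 1 [7, 79, 152, 78, 6],
    .tree 30 6,
    .cycle 11 1 [1, 72, 0],
    .cycle 15 1 [69, 76, 2],
    .cycle 18 1 [5, 74, 4],
    .tree 33 2,
    .cycle 2 1 [27, 53, 0],
    .cycle 4 0 [44, 25, 1],
    .cycle 5 0 [2, 24, 3],
    .tree 33 6,
    .cycle 6 1 [27, 61, 0],
    .cycle 11 1 [3, 60, 2],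
    .cycle 18 1 [5, 60, 4],
    .cycle 20 1 [51, 61, 6],
    .cycle 21 1 [9, 71, 134, 70, 8],
    .tree 34 1,
    .cycle 1 1 [1, 62, 100, 63, 0],
    .cycle 7 0 [3, 67, 128, 66, 2],
    .cycle 8 0 [5, 64, 4],
    .cycle 10 0 [7, 64, 6],
    .tree 34 6,
    .cycle 6 1 [39, 73, 0],
    .cycle 15 1 [69, 76, 2],
    .cycle 18 1 [5, 74, 4],
    .tree 36 3,
    .cycle 8 1 [1, 62, 0],
    .cycle 12 1 [3, 67, 126, 66, 2],
    .cycle 16 0 [5, 64, 120, 65, 4],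
    .cycle 17 0 [7, 64, 6],
    .tree 36 6,
    .cycle 11 1 [1, 72, 0],
    .cycle 15 1 [69, 76, 2],
    .cycle 20 1 [61, 75, 4],
    .tree 38 5,
    .cycle 10 1 [1, 62, 0],
    .cycle 14 1 [3, 62, 126, 63, 2],
    .cycle 17 1 [5, 62, 4],
    .cycle 21 0 [7, 71, 138, 70, 6],
    .tree 39 1,
    .cycle 1 1 [1, 64, 90, 65, 0],
    .cycle 7 0 [3, 69, 118, 68, 2],
    .cycle 9 0 [51, 67, 4],
    .cycle 10 0 [7, 66, 6],
    .tree 39 3,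
    .cycle 3 1 [39, 75, 0],
    .cycle 4 0 [0, 34, 1],
    .cycle 5 0 [2, 34, 3],
    .cycle 12 1 [7, 83, 130, 82, 6],
    .tree 39 6,
    .cycle 6 1 [39, 85, 0],
    .cycle 15 1 [81, 88, 2],
    .cycle 20 1 [61, 87, 4],
    .tree 41 6,
    .cycle 6 1 [1, 72, 0],
    .cycle 11 1 [67, 76, 2],
    .cycle 15 1 [5, 74, 4],
    .cycle 18 1 [7, 74, 6],
    .tree 42 5,
    .cycle 5 1 [49, 73, 0],
    .cycle 6 0 [0, 42, 1],
    .cycle 14 1 [5, 74, 136, 75, 4],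
    .cycle 17 1 [7, 74, 6],
    .tree 43 6,
    .cycle 11 1 [1, 74, 0],
    .cycle 15 1 [3, 74, 2],
    .cycle 18 1 [71, 80, 4],
    .cycle 20 1 [7, 76, 6],
    .tree 44 5,
    .cycle 10 1 [1, 74, 0],
    .cycle 14 1 [3, 74, 136, 75, 2],
    .cycle 19 1 [73, 75, 4],
    .cycle 20 0 [0, 66, 1],
    .tree 46 3,
    .cycle 3 1 [1, 66, 0],
    .cycle 8 1 [61, 70, 2],
    .cycle 9 0 [0, 58, 1],
    .cycle 10 0 [2, 58, 3],
    .tree 46 6,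
    .cycle 6 1 [1, 76, 0],
    .cycle 11 1 [61, 80, 2],
    .cycle 15 1 [5, 78, 4],
    .cycle 20 1 [57, 79, 6],
    .tree 47 6,
    .cycle 6 1 [41, 77, 0],
    .cycle 15 1 [3, 72, 2],
    .cycle 18 1 [73, 82, 4],
    .cycle 20 1 [7, 80, 6],
    .tree 48 5,
    .cycle 5 1 [41, 77, 0],
    .cycle 6 0 [0, 34, 1],
    .cycle 14 1 [5, 78, 150, 79, 4],
    .cycle 19 1 [67, 79, 6],
    .tree 49 5,
    .cycle 5 1 [1, 78, 0],
    .cycle 10 1 [73, 79, 2],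
    .cycle 11 0 [0, 70, 1],
    .cycle 17 1 [7, 78, 6],
    .tree 51 5,
    .cycle 10 1 [1, 68, 0],
    .cycle 17 1 [63, 67, 2],
    .cycle 18 0 [0, 56, 1],
    .cycle 19 1 [7, 68, 6],
    .tree 53 2,
    .cycle 2 1 [1, 58, 0],
    .cycle 7 1 [3, 58, 112, 59, 2],
    .cycle 12 0 [5, 65, 128, 64, 4],
    .cycle 13 0 [7, 60, 6],
    .tree 53 6,
    .cycle 6 1 [1, 68, 0],
    .cycle 11 1 [53, 69, 2],
    .cycle 18 1 [65, 74, 4],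
    .cycle 20 1 [7, 70, 6],
    .tree 54 5,
    .cycle 5 1 [1, 68, 0],
    .cycle 10 1 [53, 69, 2],
    .cycle 11 0 [0, 50, 1],
    .cycle 19 1 [47, 69, 6],
    .tree 55 5,
    .cycle 5 1 [41, 69, 0],
    .cycle 6 0 [0, 36, 1],
    .cycle 17 1 [65, 69, 4],
    .cycle 19 1 [7, 68, 6],
    .tree 57 2,
    .cycle 2 1 [1, 58, 0],
    .cycle 7 1 [3, 58, 126, 59, 2],
    .cycle 14 0 [5, 65, 138, 64, 4],
    .cycle 15 0 [7, 60, 6],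
    .tree 58 2,
    .cycle 12 0 [1, 56, 116, 57, 0],
    .cycle 13 0 [3, 54, 2],
    .cycle 14 0 [5, 65, 130, 64, 4],
    .cycle 15 0 [7, 60, 6],
    .tree 59 5,
    .cycle 5 1 [1, 58, 0],
    .cycle 10 1 [3, 58, 2],
    .cycle 14 1 [5, 65, 116, 64, 4],
    .cycle 17 1 [7, 60, 6],
    .cycle 19 1 [9, 60, 8],
    .tree 59 6,
    .cycle 6 1 [1, 70, 0],
    .cycle 11 1 [3, 70, 2],
    .cycle 15 1 [67, 76, 4],
    .cycle 18 1 [7, 72, 6],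
    .cycle 20 1 [9, 72, 8],
    .tree 60 5,
    .cycle 5 1 [1, 72, 0],
    .cycle 10 1 [57, 73, 2],
    .cycle 11 0 [0, 54, 1],
    .cycle 17 1 [71, 75, 6],
    .cycle 19 1 [9, 74, 8],
    .tree 61 2,
    .cycle 2 1 [1, 74, 0],
    .cycle 7 1 [3, 74, 122, 75, 2],
    .cycle 13 0 [61, 73, 4],
    .cycle 14 0 [7, 83, 146, 82, 6],
    .cycle 15 0 [9, 78, 8],
    .tree 62 2,
    .cycle 2 1 [59, 77, 0],
    .cycle 3 0 [0, 58, 1],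
    .cycle 4 0 [2, 58, 3],
    .cycle 5 0 [4, 58, 5],
    .cycle 6 0 [6, 58, 7],
    .tree 63 3,
    .cycle 3 1 [1, 78, 0],
    .cycle 8 1 [3, 78, 2],
    .cycle 12 1 [5, 85, 136, 84, 4],
    .cycle 17 0 [7, 80, 6],
    .cycle 18 0 [9, 80, 8],
    .tree 64 1,
    .cycle 7 0 [1, 83, 140, 82, 0],
    .cycle 8 0 [3, 82, 2],
    .cycle 9 0 [5, 82, 4],
    .cycle 10 0 [7, 82, 6],
    .cycle 11 0 [9, 82, 8],
    .tree 65 6,
    .cycle 6 1 [1, 82, 0],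
    .cycle 11 1 [3, 82, 2],
    .cycle 15 1 [5, 82, 4],
    .cycle 18 1 [7, 82, 6],
    .cycle 20 1 [9, 82, 8],
    .tree 66 5,
    .cycle 5 1 [1, 82, 0],
    .cycle 10 1 [3, 82, 2],
    .cycle 17 1 [5, 80, 4],
    .cycle 19 1 [7, 80, 6],
    .tree 67 2,
    .cycle 2 1 [1, 80, 0],
    .cycle 13 0 [3, 74, 2],
    .cycle 15 0 [5, 80, 4],
    .tree 68 3,
    .cycle 3 1 [1, 76, 0],
    .cycle 8 1 [3, 76, 2],
    .cycle 17 0 [5, 74, 4],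
    .cycle 18 0 [7, 74, 6],
    .tree 69 1,
    .cycle 8 0 [1, 72, 0],
    .cycle 9 0 [3, 72, 2],
    .cycle 10 0 [5, 72, 4],
    .cycle 11 0 [7, 72, 6],
    .tree 70 4,
    .cycle 4 1 [1, 72, 0],
    .cycle 9 1 [3, 72, 2],
    .cycle 13 1 [5, 72, 4],
    .cycle 19 0 [7, 72, 6],
    .cycle 20 0 [9, 72, 8],
    .tree 71 0,
    .cycle 2 0 [1, 72, 0],
    .cycle 3 0 [3, 72, 2],
    .cycle 4 0 [5, 72, 4],
    .cycle 5 0 [7, 72, 6],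
    .cycle 6 0 [9, 72, 8],
    .tree 72 5,
    .cycle 5 1 [1, 72, 0],
    .cycle 10 1 [3, 72, 2],
    .cycle 17 1 [5, 70, 4],
    .cycle 19 1 [7, 70, 6],
    .cycle 21 0 [71, 155, 166, 82, 8],
    .tree 73 2,
    .cycle 2 1 [1, 72, 0],
    .cycle 13 0 [3, 68, 2],
    .cycle 14 0 [69, 151, 157, 78, 4],
    .tree 74 1,
    .cycle 7 0 [55, 131, 151, 72, 0],
    .cycle 9 0 [3, 70, 2],
    .cycle 11 0 [5, 70, 4],
    .tree 74 3,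
    .cycle 3 1 [1, 78, 0],
    .cycle 12 1 [75, 153, 157, 82, 2],
    .cycle 15 0 [0, 68, 1],
    .tree 75 4,
    .cycle 4 1 [1, 78, 0],
    .cycle 9 1 [3, 78, 2],
    .cycle 16 1 [65, 139, 157, 84, 4],
    .cycle 17 0 [0, 58, 1],
    .cycle 18 0 [2, 58, 3],
    .tree 76 0,
    .cycle 1 0 [61, 135, 157, 82, 0],
    .cycle 3 0 [3, 82, 2],
    .cycle 4 0 [5, 82, 4],
    .cycle 5 0 [7, 82, 6],
    .cycle 6 0 [9, 82, 8],
    .tree 79 2,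
    .cycle 2 1 [1, 58, 0],
    .cycle 13 0 [3, 54, 2],
    .cycle 14 0 [5, 65, 132, 64, 4],
    .cycle 15 0 [55, 57, 6],
    .tree 80 1,
    .cycle 7 0 [1, 59, 128, 58, 0],
    .cycle 9 0 [3, 56, 2],
    .cycle 10 0 [55, 57, 4],
    .tree 80 3,
    .cycle 3 1 [1, 64, 0],
    .cycle 12 1 [3, 69, 136, 68, 2],
    .cycle 17 0 [55, 65, 4],
    .tree 81 0,
    .cycle 1 0 [1, 67, 136, 66, 0],
    .cycle 2 0 [41, 67, 2],
    .cycle 4 0 [5, 66, 4],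
    .cycle 6 0 [7, 66, 6],
    .tree 81 3,
    .cycle 8 1 [69, 76, 0],
    .cycle 11 0 [0, 64, 1],
    .cycle 12 1 [5, 78, 132, 79, 4],
    .tree 82 4,
    .cycle 4 1 [1, 74, 0],
    .cycle 13 1 [71, 75, 2],
    .cycle 15 0 [0, 62, 1],
    .cycle 16 1 [7, 83, 158, 82, 6],
    .tree 85 1,
    .cycle 7 0 [1, 55, 110, 54, 0],
    .cycle 9 0 [3, 52, 2],
    .cycle 10 0 [5, 52, 4],
    .cycle 11 0 [51, 53, 6],
    .tree 85 3,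
    .cycle 3 1 [1, 62, 0],
    .cycle 12 1 [3, 67, 120, 66, 2],
    .cycle 17 0 [5, 62, 4],
    .cycle 18 0 [53, 63, 6],
    .tree 86 0,
    .cycle 1 0 [1, 65, 120, 64, 0],
    .cycle 2 0 [3, 64, 2],
    .cycle 4 0 [5, 64, 4],
    .cycle 5 0 [55, 65, 6],
    .tree 86 3,
    .cycle 8 1 [67, 74, 0],
    .cycle 10 0 [48, 63, 1],
    .tree 87 4,
    .cycle 4 1 [1, 70, 0],
    .cycle 13 1 [3, 70, 2],
    .cycle 16 1 [5, 77, 138, 76, 4],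
    .cycle 19 0 [53, 73, 6],
    .tree 88 3,
    .cycle 3 1 [65, 74, 0],
    .cycle 6 0 [0, 62, 1],
    .cycle 8 1 [5, 76, 4],
    .cycle 12 1 [7, 76, 114, 77, 6],
    .tree 89 4,
    .cycle 9 1 [67, 73, 0],
    .cycle 11 0 [0, 62, 1],
    .cycle 13 1 [5, 72, 4],
    .cycle 16 1 [7, 81, 152, 80, 6],
    .tree 91 0,
    .cycle 1 0 [1, 67, 118, 66, 0],
    .cycle 2 0 [3, 66, 2],
    .cycle 4 0 [5, 66, 4],
    .cycle 5 0 [7, 66, 6],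
    .cycle 6 0 [55, 67, 8],
    .tree 91 3,
    .cycle 8 1 [69, 78, 0],
    .cycle 10 0 [0, 64, 1],
    .cycle 11 0 [50, 65, 3],
    .tree 92 4,
    .cycle 4 1 [1, 74, 0],
    .cycle 13 1 [3, 74, 2],
    .cycle 16 1 [5, 81, 140, 80, 4],
    .cycle 19 0 [7, 76, 6],
    .cycle 20 0 [59, 77, 8],
    .tree 93 3,
    .cycle 3 1 [69, 78, 0],
    .cycle 5 0 [52, 67, 1],
    .cycle 8 1 [5, 80, 4],
    .tree 94 2,
    .cycle 7 1 [1, 74, 138, 75, 0],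
    .cycle 12 0 [3, 79, 150, 78, 2],
    .cycle 14 0 [5, 76, 122, 77, 4],
    .tree 94 4,
    .cycle 9 1 [79, 83, 0],
    .cycle 10 0 [58, 73, 1],
    .cycle 16 1 [5, 89, 158, 88, 4],
    .tree 96 4,
    .cycle 4 1 [67, 75, 0],
    .cycle 6 0 [0, 64, 1],
    .cycle 9 1 [5, 74, 4],
    .cycle 13 1 [7, 74, 6],
    .cycle 16 1 [9, 85, 152, 84, 8],
    .tree 98 3,
    .cycle 3 1 [57, 68, 0],
    .cycle 5 0 [0, 54, 1],
    .cycle 6 0 [38, 55, 3],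
    .cycle 8 1 [7, 72, 6],
    .cycle 0 3 [24, 82, 78, 80, 25, 29, 113, 184, 187, 245, 312, 310, 319, 396, 458, 525, 594, 598, 603, 666, 692, 695, 759, 832, 828, 830, 758, 752, 822, 888, 890, 941, 988, 986, 984, 940, 869, 800, 792, 796, 741, 703, 700, 635, 564, 560, 556, 558, 565, 577, 509, 510, 461, 397, 394, 392, 318, 244, 178, 125, 126, 128, 63, 7, 0],
    .cycle 13 0 [39, 30, 1],
    .tree 99 2,
    .cycle 0 8 [27, 103, 172, 212, 272, 270, 268, 266, 272, 270, 264, 266, 272, 213, 215, 297, 373, 451, 521, 599, 675, 729, 797, 863, 917, 977, 1048, 1046, 1044, 1042, 1048, 1046, 1040, 1042, 1048, 976, 975, 1038, 964, 898, 826, 745, 679, 618, 545, 487, 430, 348, 346, 344, 342, 340, 346, 344, 338, 340, 346, 349, 371, 296, 241, 187, 141, 70, 0],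
    .cycle 0 19 [0, 20, 22, 26, 92, 156, 220, 218, 222, 282, 280, 289, 363, 443, 498, 566, 564, 505, 513, 586, 662, 669, 731, 790, 792, 796, 842, 888, 934, 932, 941, 1008, 1004, 1006, 940, 889, 843, 838, 836, 845, 834, 758, 754, 684, 620, 616, 618, 571, 499, 442, 436, 434, 362, 356, 354, 288, 223, 157, 93, 88, 86, 95, 117, 44, 40],
    .cycle 2 1 [9, 16, 4],
    .cycle 3 0 [0, 34, 1],
    .cycle 4 0 [56, 42, 3],
    .cycle 7 1 [11, 78, 144, 79, 10],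
    .tree 99 4,
    .cycle 4 1 [17, 26, 0],
    .cycle 5 0 [0, 52, 1],
    .cycle 6 0 [13, 15, 3],
    .cycle 9 1 [83, 89, 6],
    .cycle 13 1 [13, 23, 8],
    .cycle 16 1 [11, 95, 168, 94, 10]]

theorem e7a_check : e7a.fixes 7 ((List.replicate 9 [0, 1, 2, 3, 4, 5, 6]).flatten) = true := by decide +kernel

theorem e7b_check : e7b.fixes 7 ((List.replicate 9 [0, 1, 2, 3, 4, 5, 6]).flatten) = true := by decide +kernel

theorem y222_check : y222.fixes 7 ((List.replicate 10 [2, 1, 0, 2, 3, 4, 2, 5, 6]).flatten) = true := by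
  decide +kernel

theorem e7a_comm : e7a.comm = ([(0, 0), (0, 2), (0, 3), (0, 4), (0, 5), (0, 6), (1, 1), (1, 3), (1, 4), (1, 5), (1, 6), (2, 0), (2, 2), (2, 4), (2, 5), (2, 6), (3, 0), (3, 1), (3, 3), (3, 5), (4, 0), (4, 1), (4, 2), (4, 4), (4, 6), (5, 0), (5, 1), (5, 2), (5, 3), (5, 5), (5, 6), (6, 0), (6, 1), (6, 2), (6, 4), (6, 5), (6, 6)] : List (ℕ × ℕ)) := rfl

theorem e7a_braid : e7a.braid = ([(0, 1), (1, 0), (1, 2), (2, 1), (2, 3), (3, 2), (3, 4), (3, 6), (4, 3), (4, 5), (5, 4), (6, 3)] : List (ℕ × ℕ)) := rfl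

theorem e7a_eqns : e7a.eqns = ([] : List (List ℕ × ℕ × List ℕ × ℕ)) := rfl

theorem e7b_comm : e7b.comm = ([(0, 0), (0, 2), (0, 3), (0, 4), (0, 5), (0, 6), (1, 1), (1, 3), (1, 4), (1, 5), (1, 6), (2, 0), (2, 2), (2, 4), (2, 5), (3, 0), (3, 1), (3, 3), (3, 5), (3, 6), (4, 0), (4, 1), (4, 2), (4, 4), (4, 6), (5, 0), (5, 1), (5, 2), (5, 3), (5, 5), (5, 6), (6, 0), (6, 1), (6, 3), (6, 4), (6, 5), (6, 6)] : List (ℕ × ℕ)) := rfl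

theorem e7b_braid : e7b.braid = ([(0, 1), (1, 0), (1, 2), (2, 1), (2, 3), (2, 6), (3, 2), (3, 4), (4, 3), (4, 5), (5, 4), (6, 2)] : List (ℕ × ℕ)) := rfl

theorem e7b_eqns : e7b.eqns = ([] : List (List ℕ × ℕ × List ℕ × ℕ)) := rfl

theorem y222_comm : y222.comm = ([(0, 0), (0, 2), (0, 3), (0, 4), (0, 5), (0, 6), (1, 1), (1, 3), (1, 4), (1, 5), (1, 6), (2, 0), (2, 2), (2, 4), (2, 6), (3, 0), (3, 1), (3, 3), (3, 5), (3, 6), (4, 0), (4, 1), (4, 2), (4, 4), (4, 5), (4, 6), (5, 0), (5, 1), (5, 3), (5, 4), (5, 5), (6, 0), (6, 1), (6, 2), (6, 3), (6, 4), (6, 6)] : List (ℕ × ℕ)) := rfl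

theorem y222_braid : y222.braid = ([(0, 1), (1, 0), (1, 2), (2, 1), (2, 3), (2, 5), (3, 2), (3, 4), (4, 3), (5, 2), (5, 6), (6, 5)] : List (ℕ × ℕ)) := rfl

theorem y222_eqns : y222.eqns = ([([2, 3, 4, 5, 2, 3, 6, 5, 2, 1, 0], 1, [1, 2, 5, 6, 3, 2, 5, 4, 3, 2, 1, 2, 3, 4, 5, 2, 3, 6, 5, 2, 1], 0)] : List (List ℕ × ℕ × List ℕ × ℕ)) := rfl

end Cfsg.Agent.FischerM22.ConjTable
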