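/-
Chains of isotropic vectors with binary Gram matrix in the point model.

Main results (namespace `Cfsg.Agent.FischerM22`):
* `BinChain hF v` : consecutive vectors have product one, the others zero;
* `bvec`, `hf_bvec`, `bvec_iso`, `bvec_pt_inj` : the binary combinations;
* `conj_bvec` : conjugation inside the binary span;
* `exists_chain` : members with the commuting pattern of a path carry such a chain.
-/
import Cfsg.Agent.Lib.FischerM22.LocModel

set_option autoImplicit false

namespace Cfsg.Agent.FischerM22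

open Cfsg.Agent.Unitary Cfsg.Agent.U62Cover Cfsg.Agent.ThreeTrans Cfsg.Agent.ThreeTransSU

/-- The path matrix. -/
def pathMat (n : ℕ) (j k : Fin n) : ZMod 2 := if j.val + 1 = k.val ∨ k.val + 1 = j.val then 1 else 0

/-- The binary form of a path. -/
def bform {n : ℕ} (σ τ : Fin n → ZMod 2) : ZMod 2 := ∑ j, ∑ k, σ j * τ k * pathMat n j k

/-- The sum of the binary combinations is non-degenerate with dual vectors. -/
def HasDual (n : ℕ) : Prop :=
  ∀ j : Fin n, ∃ τ : Fin n → ZMod 2, ∀ k : Fin n, bform (Pi.single k 1) τ = if k = j then 1 else 0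

theorem hasDual_four : HasDual 4 := by unfold HasDual; decide +kernel

theorem hasDual_six : HasDual 6 := by unfold HasDual; decide +kernel

variable {F : Type*} [Field F] [Fintype F]

theorem charP_two (hF : Fintype.card F = 4) : CharP F 2 := CharTwo.of_one_ne_zero_of_two_eq_zero one_ne_zero (two_eq_zero hF)

/-- The prime field. -/
noncomputable def binCast (hF : Fintype.card F = 4) : ZMod 2 →+* F :=
  letI := charP_two hF; ZMod.castHom dvd_rfl F

theorem binCast_sq (hF : Fintype.card F = 4) (x : ZMod 2) : binCast hF x ^ 2 = binCast hF x := by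
  rw [← map_pow]; congr 1; revert x; decide

variable {n m : ℕ}

/-- Vectors with the Gram matrix of a path. -/
def BinChain (hF : Fintype.card F = 4) (v : Fin m → Fin n → F) : Prop :=
  ∀ j k, hf (v j) (v k) = binCast hF (pathMat m j k)

/-- A binary combination. -/
noncomputable def bvec (hF : Fintype.card F = 4) (v : Fin m → Fin n → F) (σ : Fin m → ZMod 2) : Fin n → F :=
  ∑ j, binCast hF (σ j) • v j

theorem bvec_add (hF : Fintype.card F = 4) (v : Fin m → Fin n → F) (σ τ : Fin m → ZMod 2) :
    bvec hF v (σ + τ) = bvec hF v σ + bvec hF v τ := by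
  simp only [bvec, Pi.add_apply, map_add, add_smul, Finset.sum_add_distrib]

theorem bvec_single (hF : Fintype.card F = 4) (v : Fin m → Fin n → F) (j : Fin m) :
    bvec hF v (Pi.single j 1) = v j := by
  rw [bvec, Finset.sum_eq_single j]
  · simp
  · intro k _ hk; simp [hk]
  · simp

theorem hf_sum_left (hF : Fintype.card F = 4) {ι : Type*} (s : Finset ι) (u : ι → Fin n → F) (y : Fin n → F) :
    hf (∑ j ∈ s, u j) y = ∑ j ∈ s, hf (u j) y := by
  classical
  induction s using Finset.induction with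
  | empty => simpa using hf_zero_left hF y
  | insert j s hj ih => rw [Finset.sum_insert hj, Finset.sum_insert hj, hf_add_left hF, ih]

theorem hf_sum_right (hF : Fintype.card F = 4) {ι : Type*} (s : Finset ι) (u : ι → Fin n → F) (x : Fin n → F) :
    hf x (∑ j ∈ s, u j) = ∑ j ∈ s, hf x (u j) := by
  classical
  induction s using Finset.induction with
  | empty => simpa using hf_zero_right hF x
  | insert j s hj ih => rw [Finset.sum_insert hj, Finset.sum_insert hj, hf_add_right hF, ih]

theorem hf_bvec {hF : Fintype.card F = 4} {v : Fin m → Fin n → F} (hv : BinChain hF v)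
    (σ τ : Fin m → ZMod 2) : hf (bvec hF v σ) (bvec hF v τ) = binCast hF (bform σ τ) := by
  rw [bvec, bvec, hf_sum_left hF, bform, map_sum]
  refine Finset.sum_congr rfl fun j _ => ?_
  rw [hf_sum_right hF, map_sum]
  refine Finset.sum_congr rfl fun k _ => ?_
  rw [hf_smul_left hF, hf_smul_right hF, hv, binCast_sq, map_mul, map_mul, mul_assoc]

theorem hf_bvec_single {hF : Fintype.card F = 4} {v : Fin m → Fin n → F} (hv : BinChain hF v)
    (σ : Fin m → ZMod 2) (j : Fin m) :
    hf (bvec hF v σ) (v j) = binCast hF (bform σ (Pi.single j 1)) := by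
  rw [← hf_bvec hv, bvec_single]

theorem BinChain.coeff_zero {hF : Fintype.card F = 4} {v : Fin m → Fin n → F} (hv : BinChain hF v)
    (hd : HasDual m) {c : Fin m → F} (h : ∑ k, c k • v k = 0) (j : Fin m) : c j = 0 := by
  obtain ⟨τ, hτ⟩ := hd j
  have h1 : hf (∑ k, c k • v k) (bvec hF v τ) = 0 := by rw [h, hf_zero_left hF]
  rw [hf_sum_left hF, Finset.sum_congr rfl fun k _ => by
    rw [hf_smul_left hF, ← bvec_single hF v k, hf_bvec hv, hτ k]] at h1
  simpa [apply_ite (binCast hF)] using h1

theorem BinChain.li {hF : Fintype.card F = 4} {v : Fin m → Fin n → F} (hv : BinChain hF v) (hd : HasDual m) :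
    LinearIndependent F v :=
  Fintype.linearIndependent_iff.2 fun _ h j => hv.coeff_zero hd h j

theorem bform_self {m : ℕ} (σ : Fin m → ZMod 2) : bform σ σ = 0 := by
  have hsymm : ∀ j k, pathMat m j k = pathMat m k j := fun j k => by
    simp only [pathMat, or_comm]
  have hdiag : ∀ j, pathMat m j j = 0 := fun j => by simp [pathMat]
  rw [bform, ← Finset.sum_product' Finset.univ Finset.univ]
  refine Finset.sum_involution (fun p _ => (p.2, p.1)) (fun p _ => ?_) (fun p _ h e => h ?_)
    (fun p _ => Finset.mem_univ _) fun p _ => rfl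
  · show σ p.1 * σ p.2 * pathMat m p.1 p.2 + σ p.2 * σ p.1 * pathMat m p.2 p.1 = 0
    rw [hsymm p.2 p.1, mul_comm (σ p.2)]
    exact CharTwo.add_self_eq_zero _
  · have : p.2 = p.1 := congrArg Prod.fst e
    rw [this, hdiag, mul_zero]

theorem bvec_iso {hF : Fintype.card F = 4} {v : Fin m → Fin n → F} (hv : BinChain hF v) (hd : HasDual m)
    {σ : Fin m → ZMod 2} (hσ : σ ≠ 0) : Iso (bvec hF v σ) := by
  refine ⟨fun h => hσ (funext fun j => ?_), by rw [hf_bvec hv, bform_self, map_zero]⟩
  exact (map_eq_zero_iff _ (binCast hF).injective).1 (hv.coeff_zero hd h j)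

variable {G : Type*} [Group G] {D : Set G} {a : G} {pt : (Fin 6 → F) → G}

/-- Distinct binary combinations give distinct members. -/
theorem bvec_pt_inj (M : PointModel D a pt) {hF : Fintype.card F = 4} {v : Fin m → Fin 6 → F}
    (hv : BinChain hF v) (hd : HasDual m) {σ τ : Fin m → ZMod 2} (hσ : σ ≠ 0) (hτ : τ ≠ 0)
    (h : pt (bvec hF v σ) = pt (bvec hF v τ)) : σ = τ := by
  obtain ⟨c, -, he⟩ := M.inj _ _ (bvec_iso hv hd hσ) (bvec_iso hv hd hτ) h
  have key : ∀ j, binCast hF (τ j) = c * binCast hF (σ j) := fun j => sub_eq_zero.1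
    (hv.coeff_zero hd (c := fun k => binCast hF (τ k) - c * binCast hF (σ k)) (by
      simp only [sub_smul, Finset.sum_sub_distrib, mul_smul, ← Finset.smul_sum]
      exact sub_eq_zero.2 he) j)
  obtain ⟨j, hj⟩ := Function.ne_iff.1 hτ
  have one : ∀ x : ZMod 2, x ≠ 0 → x = 1 := by decide
  have hj1 : τ j = 1 := one _ hj
  have hσj : σ j = 1 := one _ fun e => by
    have := key j
    rw [hj1, e, map_zero, mul_zero, map_one] at this
    exact one_ne_zero this
  have hc : c = 1 := by
    have := key j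
    rw [hj1, hσj, map_one, mul_one] at this
    exact this.symm
  funext k
  exact ((binCast hF).injective (by rw [key k, hc, one_mul])).symm

theorem bvec_comm (M : PointModel D a pt) {hF : Fintype.card F = 4} {v : Fin m → Fin 6 → F}
    (hv : BinChain hF v) (hd : HasDual m) {σ τ : Fin m → ZMod 2} (hσ : σ ≠ 0) (hτ : τ ≠ 0) :
    Commute (pt (bvec hF v σ)) (pt (bvec hF v τ)) ↔ bform σ τ = 0 := by
  rw [M.comm _ _ (bvec_iso hv hd hσ) (bvec_iso hv hd hτ), hf_bvec hv,
    map_eq_zero_iff _ (binCast hF).injective]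

/-- Conjugation inside the binary span. -/
theorem conj_bvec [Finite G] (S : Fi22Setup D) (ha : a ∈ D) {θ : ↥(Loc D a) →* Cfsg.PSU 6 F 2}
    (L : LocModel D a pt θ) {hF : Fintype.card F = 4} {v : Fin m → Fin 6 → F} (hv : BinChain hF v)
    (hd : HasDual m) {σ τ : Fin m → ZMod 2} (hσ : σ ≠ 0) (hτ : τ ≠ 0) :
    pt (bvec hF v σ) * pt (bvec hF v τ) * (pt (bvec hF v σ))⁻¹
      = pt (bvec hF v (τ + bform τ σ • σ)) := by
  have hi := bvec_iso hv hd hσ
  have hm := L.M.mem _ hi
  have h := L.conj_pt S ha (L.image _ hi (Subgroup.subset_closure hm)) (bvec_iso hv hd hτ)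
  show pt (bvec hF v σ) * pt (bvec hF v τ) * (pt (bvec hF v σ))⁻¹ = _
  rw [show pt (bvec hF v σ) * pt (bvec hF v τ) * (pt (bvec hF v σ))⁻¹ = _ from h, act_tv _ hi.2,
    hf_bvec hv, bvec_add]
  congr 2
  have one : ∀ x : ZMod 2, x = 0 ∨ x = 1 := by decide
  rcases one (bform τ σ) with e | e <;> simp [e, bvec]

theorem next_vec (M : PointModel D a pt) {p : G} (hp : p ∈ adj D a) {v : Fin 6 → F} (hv : Iso v)
    (hn : ¬ Commute (pt v) p) : ∃ w, Iso w ∧ pt w = p ∧ hf v w = 1 := by
  have hF := M.card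
  obtain ⟨w, hw, rfl⟩ := M.surj p hp
  have h : hf v w ≠ 0 := fun e => hn ((M.comm v w hv hw).2 e)
  have hc0 : ((hf v w)⁻¹) ^ 2 ≠ 0 := pow_ne_zero _ (inv_ne_zero h)
  refine ⟨_, hw.smul hF hc0, M.smul w _ hw hc0, ?_⟩
  rw [hf_smul_right hF, show (((hf v w)⁻¹) ^ 2) ^ 2 = (hf v w)⁻¹ from pow_q_pow_q (card_sq hF) _,
    inv_mul_cancel₀ h]

/-- Members with the commuting pattern of a path carry a binary chain. -/
theorem exists_chain (M : PointModel D a pt) : ∀ {k : ℕ} (p : Fin (k + 1) → G), (∀ j, p j ∈ adj D a) →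
    (∀ j l, Commute (p j) (p l) ↔ pathMat (k + 1) j l = 0) →
    ∃ v : Fin (k + 1) → Fin 6 → F, BinChain M.card v ∧ ∀ j, Iso (v j) ∧ pt (v j) = p j := by
  intro k p hp hc
  have hex : ∀ j : ℕ, ∀ hj : j < k + 1, ∃ v : Fin (k + 1) → Fin 6 → F,
      (∀ l, l.val ≤ j → Iso (v l) ∧ pt (v l) = p l) ∧
      ∀ l l', l.val ≤ j → l'.val ≤ j → l.val + 1 = l'.val → hf (v l) (v l') = 1 := by
    intro j
    induction j with
    | zero =>
      intro _
      obtain ⟨w, hw, e⟩ := M.surj _ (hp 0)
      refine ⟨fun _ => w, fun l hl => ?_, fun l l' hl hl' h => absurd h (by omega)⟩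
      rw [show l = 0 from Fin.ext (by rw [Fin.val_zero]; omega)]
      exact ⟨hw, e⟩
    | succ j ih =>
      intro hj
      obtain ⟨v, hv1, hv2⟩ := ih (by omega)
      obtain ⟨hi, he⟩ := hv1 ⟨j, by omega⟩ le_rfl
      obtain ⟨w, hw, ew, h1⟩ := next_vec M (hp ⟨j + 1, hj⟩) hi (by
        rw [he, hc]; simp [pathMat])
      classical
      refine ⟨Function.update v ⟨j + 1, hj⟩ w, fun l hl => ?_, fun l l' hl hl' h => ?_⟩
      · by_cases e : l = ⟨j + 1, hj⟩
        · subst e; rw [Function.update_self]; exact ⟨hw, ew⟩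
        · rw [Function.update_of_ne e]
          exact hv1 l (by have := Fin.val_ne_of_ne e; simp only at this; omega)
      · have hl0 : l ≠ ⟨j + 1, hj⟩ := fun e => by subst e; simp only at h; omega
        rw [Function.update_of_ne hl0]
        by_cases e : l' = ⟨j + 1, hj⟩
        · subst e
          rw [Function.update_self, show l = ⟨j, by omega⟩ from Fin.ext (by simp only at h ⊢; omega)]
          exact h1
        · rw [Function.update_of_ne e]
          have := Fin.val_ne_of_ne e; simp only at this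
          exact hv2 l l' (by omega) (by omega) h
  obtain ⟨v, hv1, hv2⟩ := hex k (Nat.lt_succ_self k)
  have hvi := fun j : Fin (k + 1) => hv1 j (Nat.le_of_lt_succ j.2)
  refine ⟨v, fun j l => ?_, hvi⟩
  by_cases h1 : j.val + 1 = l.val
  · rw [show pathMat (k + 1) j l = 1 by simp [pathMat, h1], map_one]
    exact hv2 j l (by omega) (by omega) h1
  by_cases h2 : l.val + 1 = j.val
  · rw [show pathMat (k + 1) j l = 1 by simp [pathMat, h2], map_one]
    exact hf_eq_one_symm M.card (hv2 l j (by omega) (by omega) h2)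
  have h0 : pathMat (k + 1) j l = 0 := by simp [pathMat, h1, h2]
  rw [h0, map_zero, ← M.comm _ _ (hvi j).1 (hvi l).1, (hvi j).2, (hvi l).2]
  exact (hc j l).2 h0

end Cfsg.Agent.FischerM22
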