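/-
Elements fixing five points of a path in a group of type M(22).

Main results (namespace `Cfsg.Agent.FischerM22`):
* `sq_ne_member` : no element squares to a member;
* `fixed_extend` : fixing the points `e, c, d` and with `c` the sum of `e` and `g` forces fixing `g`;
* `sq_one_of_five` : an element commuting with `x` and with five consecutive members of a path of six
  neighbours of `x` squares to one.
-/
import Cfsg.Agent.Lib.FischerM22.BinChain
import Cfsg.Agent.Lib.FischerM22.Involutions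

set_option autoImplicit false

namespace Cfsg.Agent.FischerM22

open Cfsg.Agent.Unitary Cfsg.Agent.U62Cover Cfsg.Agent.ThreeTrans Cfsg.Agent.ThreeTransSU

variable {G : Type*} [Group G] [Finite G] {D : Set G} {F : Type*} [Field F] [Fintype F]

theorem mem_loc_of_commute (S : Fi22Setup D) {x g : G} (hx : x ∈ D) (hg : Commute g x) : g ∈ Loc D x := by
  rw [← centralizer_eq_loc S hx]; exact Subgroup.mem_centralizer_singleton_iff.2 hg

/-- No element squares to a member. -/
theorem sq_ne_member (S : Fi22Setup D) {x g : G} (hx : x ∈ D) : g * g ≠ x := by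
  intro he
  have hxx := mul_self S.cls.1 hx
  have hgx : Commute g x := he ▸ (Commute.refl g).mul_right (Commute.refl g)
  have hgL := mem_loc_of_commute S hx hgx
  obtain ⟨F, _, _, pt, θ, L⟩ := exists_locModel S hx
  have M := L.M
  have hF := M.card
  have hxL : x ∈ Loc D x := mem_loc_self S hx
  have hθx : θ ⟨x, hxL⟩ = 1 := by
    have hc := (mem_center_loc_iff S hx ⟨x, hxL⟩).2 (Or.inr rfl)
    have : θ ⟨x, hxL⟩ ∈ Subgroup.center (Cfsg.PSU 6 F 2) := Subgroup.mem_center_iff.2 fun q => by
      obtain ⟨q, rfl⟩ := L.surj q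
      rw [← map_mul, ← map_mul, Subgroup.mem_center_iff.1 hc q]
    rwa [center_psu_eq_bot hF, Subgroup.mem_bot] at this
  obtain ⟨y, hy, hyθ⟩ := exists_lift_involution hF (by norm_num) (c := θ ⟨g, hgL⟩) (by
    rw [← map_mul, show (⟨g, hgL⟩ : ↥(Loc D x)) * ⟨g, hgL⟩ = ⟨x, hxL⟩ from Subtype.ext he, hθx])
  obtain ⟨m, u, hli, horth, rfl⟩ := exists_indep hF y hy
  have hI : ∀ j, Iso (u j) := fun j => ⟨hli.ne_zero j, horth j j⟩
  let P : ↥(Loc D x) := (List.ofFn fun j => (⟨pt (u j), Subgroup.subset_closure (M.mem _ (hI j))⟩ : ↥(Loc D x))).prod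
  have hP : θ P = θ ⟨g, hgL⟩ := by
    rw [← hyθ, map_list_prod, map_list_prod, List.map_ofFn, List.map_ofFn]
    exact congrArg List.prod (congrArg List.ofFn (funext fun j => L.image _ (hI j) _))
  have hPv : (P : G) = (List.ofFn fun j => pt (u j)).prod := by
    simp only [P, Subgroup.val_list_prod, List.map_ofFn]; rfl
  have hPsq : ∀ l : List G, (∀ p ∈ l, p ∈ D) → (∀ p ∈ l, ∀ q ∈ l, Commute p q) → l.prod * l.prod = 1 := by
    intro l
    induction l with
    | nil => simp
    | cons p l ih =>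
      intro hD hc
      rw [List.prod_cons, (Commute.list_prod_right l p fun q hq => hc p (by simp) q (by simp [hq])).symm.mul_mul_mul_comm,
        mul_self S.cls.1 (hD p (by simp)), one_mul]
      exact ih (fun q hq => hD q (by simp [hq])) fun q hq q' hq' => hc q (by simp [hq]) q' (by simp [hq'])
  have hP2 : (P : G) * P = 1 := by
    rw [hPv]
    refine hPsq _ (fun p hp => ?_) fun p hp q hq => ?_
    · obtain ⟨j, rfl⟩ := List.mem_ofFn.1 hp; exact (M.mem _ (hI j)).1
    · obtain ⟨j, rfl⟩ := List.mem_ofFn.1 hp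
      obtain ⟨k, rfl⟩ := List.mem_ofFn.1 hq
      exact (M.comm _ _ (hI j) (hI k)).2 (horth j k)
  have hz : θ (⟨g, hgL⟩ * P⁻¹) = 1 := by rw [map_mul, map_inv, hP, mul_inv_cancel]
  have hcx : Commute x (P : G) := (commute_of_mem_Loc P.2).symm
  have hg1 : g * g = 1 := by
    rcases (mem_center_loc_iff S hx _).1 (L.ker _ hz) with h | h <;>
      rw [Subgroup.coe_mul, Subgroup.coe_inv] at h
    · rw [show g = (P : G) from mul_inv_eq_one.1 h, hP2]
    · rw [show g = x * P from mul_inv_eq_iff_eq_mul.1 h, hcx.symm.mul_mul_mul_comm, hxx, hP2, one_mul]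
  exact ne_one S.cls.1 hx (he ▸ hg1)

variable {x : G} {pt : (Fin 6 → F) → G} {θ : ↥(Loc D x) →* Cfsg.PSU 6 F 2}

/-- A fixed point is an eigenvector. -/
theorem eigen_of_commute (L : LocModel D x pt θ) (S : Fi22Setup D) (hx : x ∈ D) {g : ↥(Loc D x)}
    {A : Cfsg.SU 6 F 2} (hA : θ g = toPSU 6 F A) {u : Fin 6 → F} (hu : Iso u) (hc : Commute (g : G) (pt u)) :
    ∃ c : F, c ≠ 0 ∧ act A u = c • u :=
  L.M.inj u _ hu (hu.act A) (by rw [← L.conj_pt S hx hA hu, hc.eq, mul_inv_cancel_right])

omit [Finite G] in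
/-- Eigenvalues of two eigenvectors with product one agree. -/
theorem eigen_eq (hF : Fintype.card F = 4) {A : Cfsg.SU 6 F 2} {u w : Fin 6 → F} {α β : F}
    (hu : act A u = α • u) (hw : act A w = β • w) (h1 : hf u w = 1) : β = α := by
  have e1 := act_hf A u w
  rw [hu, hw, hf_smul_left hF, hf_smul_right hF, h1, mul_one] at e1
  have e2 := act_hf A w u
  rw [hu, hw, hf_smul_left hF, hf_smul_right hF, hf_eq_one_symm hF h1, mul_one] at e2
  have hα : α ≠ 0 := fun e => by rw [e, zero_mul] at e1; exact zero_ne_one e1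
  have hα3 : α ^ 3 = 1 := by
    have := FiniteField.pow_card_sub_one_eq_one α hα
    rwa [hF] at this
  calc β = β * (α ^ 3) := by rw [hα3, mul_one]
    _ = α * (β * α ^ 2) := by ring
    _ = α := by rw [e2, mul_one]

theorem eq_zero_of_perp {hF : Fintype.card F = 4} {v : Fin 6 → Fin 6 → F} (hv : BinChain hF v)
    {w : Fin 6 → F} (h : ∀ j, hf w (v j) = 0) : w = 0 := by
  by_contra hw
  obtain ⟨z, hz⟩ := exists_hf_one hF hw
  have htop := (hv.li hasDual_six).span_eq_top_of_card_eq_finrank (by simp)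
  have hmem : z ∈ Submodule.span F (Set.range v) := htop ▸ Submodule.mem_top
  obtain ⟨c, rfl⟩ := (Submodule.mem_span_range_iff_exists_fun F).1 hmem
  rw [hf_sum_left hF, Finset.sum_eq_zero] at hz
  · exact zero_ne_one hz
  intro j _
  rw [hf_smul_left hF, (hf_eq_zero_symm hF).1 (h j), mul_zero]

theorem ext_chain {hF : Fintype.card F = 4} {v : Fin 6 → Fin 6 → F} (hv : BinChain hF v) {u w : Fin 6 → F}
    (h : ∀ j, hf u (v j) = hf w (v j)) : u = w := by
  have h0 : u + w = 0 := eq_zero_of_perp hv fun j => by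
    rw [hf_add_left hF, h j, ← two_mul, two_eq_zero hF, zero_mul]
  rw [eq_neg_of_add_eq_zero_left h0]
  ext k
  have : (2 : F) = 0 := two_eq_zero hF
  show -w k = w k
  linear_combination -(w k) * this

/-- A neighbour commuting with all members of a chain but the `j₀`-th is the dual point. -/
theorem pt_eq_dual (M : PointModel D x pt) {v : Fin 6 → Fin 6 → F} (hv : BinChain M.card v)
    {p : G} (hp : p ∈ adj D x) {j₀ : Fin 6} {ρ : Fin 6 → ZMod 2}
    (hρ : ∀ k, bform ρ (Pi.single k 1) = if k = j₀ then 1 else 0) (hvi : ∀ j, Iso (v j))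
    (h : ∀ j, j ≠ j₀ → Commute p (pt (v j))) : p = pt (bvec M.card v ρ) := by
  obtain ⟨u, hu, rfl⟩ := M.surj p hp
  have hF := M.card
  have hz : ∀ j, j ≠ j₀ → hf u (v j) = 0 := fun j hj => (M.comm u _ hu (hvi j)).1 (h j hj)
  have e : u = hf u (v j₀) • bvec M.card v ρ := ext_chain hv fun j => by
    rw [hf_smul_left hF, hf_bvec_single hv, hρ j]
    split_ifs with hj
    · rw [map_one, mul_one, hj]
    · rw [map_zero, mul_zero, hz j hj]
  have hne : hf u (v j₀) ≠ 0 := fun e0 => hu.1 (by rw [e, e0, zero_smul])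
  have hρ0 : ρ ≠ 0 := fun e0 => by
    have := hρ j₀
    rw [e0, if_pos rfl] at this
    simp [bform] at this
  conv_lhs => rw [e]
  exact M.smul _ _ (bvec_iso hv hasDual_six hρ0) hne

/-- Fixing `e`, `d` and the point of `e + g` forces fixing `g`. -/
theorem fixed_extend (L : LocModel D x pt θ) (S : Fi22Setup D) (hx : x ∈ D) {g : G} (hgx : Commute g x)
    {v : Fin 6 → Fin 6 → F} (hv : BinChain L.M.card v) (hvi : ∀ j, Iso (v j))
    (hd : Commute g (pt (v 2))) (he : Commute g (pt (v 3)))
    (hc : Commute g (pt (bvec L.M.card v (Pi.single 3 1 + Pi.single 5 1)))) : Commute g (pt (v 5)) := by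
  have hF := L.M.card
  have hgL := mem_loc_of_commute S hx hgx
  obtain ⟨A, hA⟩ := QuotientGroup.mk'_surjective _ (θ ⟨g, hgL⟩)
  obtain ⟨α, -, eα⟩ := eigen_of_commute L S hx hA.symm (hvi 2) hd
  obtain ⟨β, -, eβ⟩ := eigen_of_commute L S hx hA.symm (hvi 3) he
  have hσ : (Pi.single 3 1 + Pi.single 5 1 : Fin 6 → ZMod 2) ≠ 0 := by decide
  obtain ⟨γ, -, eγ⟩ := eigen_of_commute L S hx hA.symm (bvec_iso hv hasDual_six hσ) hc
  have h23 : hf (v 2) (v 3) = 1 := by rw [hv, show pathMat 6 2 3 = 1 by decide, map_one]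
  have h2c : hf (v 2) (bvec L.M.card v (Pi.single 3 1 + Pi.single 5 1)) = 1 := by
    rw [← bvec_single L.M.card v 2, hf_bvec hv,
      show bform (Pi.single 2 1) (Pi.single 3 1 + Pi.single 5 1 : Fin 6 → ZMod 2) = 1 by decide +kernel, map_one]
  have hβ := eigen_eq hF eα eβ h23
  have hγ := eigen_eq hF eα eγ h2c
  rw [bvec_add, bvec_single, bvec_single, act_add, eβ, hβ, hγ, smul_add] at eγ
  have e5 : act A (v 5) = α • v 5 := add_left_cancel eγ
  have hα : α ≠ 0 := fun e0 => (hvi 2).act A |>.1 (by rw [eα, e0, zero_smul])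
  have hh := L.conj_pt S hx hA.symm (hvi 5)
  rw [e5, L.M.smul _ _ (hvi 5) hα] at hh
  exact mul_inv_eq_iff_eq_mul.1 hh

/-- An element commuting with `x` and with five consecutive members of a path squares to one. -/
theorem sq_one_of_five (S : Fi22Setup D) {x g : G} (hx : x ∈ D) (hgx : Commute g x) (m : Fin 6 → G)
    (hm : ∀ j, m j ∈ adj D x) (hpat : ∀ j k, Commute (m j) (m k) ↔ pathMat 6 j k = 0)
    (hg : ∀ j, j ≠ 0 → Commute g (m j)) : g * g = 1 := by
  obtain ⟨F, _, _, pt, θ, L⟩ := exists_locModel S hx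
  have M := L.M
  have hF := M.card
  obtain ⟨v, hv, hvi⟩ := exists_chain M m hm hpat
  have hgL := mem_loc_of_commute S hx hgx
  obtain ⟨A, hA⟩ := QuotientGroup.mk'_surjective _ (θ ⟨g, hgL⟩)
  have eig : ∀ j, j ≠ 0 → ∃ c : F, c ≠ 0 ∧ act A (v j) = c • v j := fun j hj =>
    eigen_of_commute L S hx hA.symm (hvi j).1 (by rw [(hvi j).2]; exact hg j hj)
  obtain ⟨α, hα0, e1⟩ := eig 1 (by decide)
  have next' : ∀ j k, j ≠ 0 → k ≠ 0 → pathMat 6 j k = 1 → act A (v j) = α • v j → act A (v k) = α • v k :=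
    fun j k _ hk h1 e => by
      obtain ⟨c, -, ec⟩ := eig k hk
      rw [ec, eigen_eq hF e ec (by rw [hv, h1, map_one])]
  have e2 := next' 1 2 (by decide) (by decide) (by decide) e1
  have e3 := next' 2 3 (by decide) (by decide) (by decide) e2
  have e4 := next' 3 4 (by decide) (by decide) (by decide) e3
  have e5 := next' 4 5 (by decide) (by decide) (by decide) e4
  have eall : ∀ j, j ≠ 0 → act A (v j) = α • v j := by
    intro j hj
    fin_cases j
    exacts [absurd rfl hj, e1, e2, e3, e4, e5]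
  have hα3 : α ^ 3 = 1 := by
    have := FiniteField.pow_card_sub_one_eq_one α hα0
    rwa [hF] at this
  set ρ : Fin 6 → ZMod 2 := ![0, 1, 0, 1, 0, 1] with hρ
  have hρd : ∀ k, bform ρ (Pi.single k 1) = if k = 0 then 1 else 0 := by rw [hρ]; decide +kernel
  set r := bvec M.card v ρ with hr
  have hrA : act A r = α • r := by
    have : r = v 1 + v 3 + v 5 := by
      rw [hr, ← bvec_single M.card v 1, ← bvec_single M.card v 3, ← bvec_single M.card v 5, ← bvec_add, ← bvec_add]
      congr 1
      rw [hρ]; decide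
    rw [this, act_add, act_add, e1, e3, e5, smul_add, smul_add]
  set y := act A (v 0) + α • v 0 with hy
  have hy0 : ∀ j, j ≠ 0 → hf y (v j) = 0 := fun j hj => by
    have h := act_hf A (v 0) (v j)
    rw [eall j hj, hf_smul_right hF] at h
    have h' : hf (act A (v 0)) (v j) = α * hf (v 0) (v j) := by
      calc hf (act A (v 0)) (v j) = α ^ 3 * hf (act A (v 0)) (v j) := by rw [hα3, one_mul]
        _ = α * (α ^ 2 * hf (act A (v 0)) (v j)) := by ring
        _ = α * hf (v 0) (v j) := by rw [h]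
    rw [hy, hf_add_left hF, hf_smul_left hF, h', ← two_mul, two_eq_zero hF, zero_mul]
  have hyr : y = hf y (v 0) • r := ext_chain hv fun j => by
    rw [hf_smul_left hF, hr, hf_bvec_single hv, hρd j]
    split_ifs with hj
    · rw [map_one, mul_one, hj]
    · rw [map_zero, mul_zero, hy0 j hj]
  have two : ∀ z : Fin 6 → F, z + z = 0 := fun z => by rw [← two_smul F, two_eq_zero hF, zero_smul]
  have hA0 : act A (v 0) = y + α • v 0 := by rw [hy, add_assoc, two, add_zero]
  have hAA : ∀ j, act (A * A) (v j) = (α * α) • v j := by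
    intro j
    by_cases hj : j = 0
    · subst hj
      rw [act_mul, hA0, act_add, act_smul, hA0, hyr, act_smul, hrA, smul_smul, smul_add, smul_smul, smul_smul,
        ← add_assoc, mul_comm (hf y (v 0)) α, two, zero_add]
    · rw [act_mul, eall j hj, act_smul, eall j hj, smul_smul]
  have hscal : ∀ z, act (A * A) z = (α * α) • z := by
    intro z
    have hmem : z ∈ Submodule.span F (Set.range v) :=
      ((hv.li hasDual_six).span_eq_top_of_card_eq_finrank (by simp)).symm ▸ Submodule.mem_top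
    induction hmem using Submodule.span_induction with
    | mem w hw => obtain ⟨j, rfl⟩ := hw; exact hAA j
    | zero => rw [act_zero, smul_zero]
    | add p q _ _ hp hq => rw [act_add, hp, hq, smul_add]
    | smul c p _ hp => rw [act_smul, hp, smul_comm]
  have hθ : θ (⟨g, hgL⟩ * ⟨g, hgL⟩) = 1 := by
    rw [map_mul, ← hA, ← map_mul]
    refine toPSU_eq_one.2 (Subgroup.mem_center_iff.2 fun B => act_ext fun z => ?_)
    rw [act_mul B, act_mul (A * A) B, hscal, hscal, act_smul]
  rcases (mem_center_loc_iff S hx _).1 (L.ker _ hθ) with h | h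
  · exact h
  · exact absurd h (sq_ne_member S hx)

end Cfsg.Agent.FischerM22
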