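/-
The common neighbours of a member and two non-commuting members as the 45 isotropic points of a unitary four-space.

Main results (namespace `Cfsg.Agent.FischerM22`):
* `tbl_check` : the orthogonality graph of the 45 points, checked;
* `exists_farPts` : the labelling of `common a b ∩ adj q` by the 45 points;
* `cell_ncard`, `cell_deg`, `cell_common`, `cell_collinear` : it is strongly regular with parameters 45, 12, 3, 3,
  and two common neighbours of two points commute exactly when the two points do.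
-/
import Cfsg.Agent.Lib.FischerM22.Graph

set_option autoImplicit false

namespace Cfsg.Agent.FischerM22

open Cfsg.Agent.Unitary Cfsg.Agent.U62Cover Cfsg.Agent.ThreeTrans Cfsg.Agent.ThreeTransSU
open Cfsg.Agent.SU32 Cfsg.Agent.ThreeTransSU.GensCert

/-- The isotropic points orthogonal to two standard vectors. -/
def tblPts : List (List K4) :=
  [[.z, .z, .z, .z, .o, .o],
    [.z, .z, .z, .z, .o, .w],
    [.z, .z, .z, .z, .o, .w2],
    [.z, .z, .z, .o, .z, .o],
    [.z, .z, .z, .o, .z, .w],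
    [.z, .z, .z, .o, .z, .w2],
    [.z, .z, .z, .o, .o, .z],
    [.z, .z, .z, .o, .w, .z],
    [.z, .z, .z, .o, .w2, .z],
    [.z, .z, .o, .z, .z, .o],
    [.z, .z, .o, .z, .z, .w],
    [.z, .z, .o, .z, .z, .w2],
    [.z, .z, .o, .z, .o, .z],
    [.z, .z, .o, .z, .w, .z],
    [.z, .z, .o, .z, .w2, .z],
    [.z, .z, .o, .o, .z, .z],
    [.z, .z, .o, .o, .o, .o],
    [.z, .z, .o, .o, .o, .w],
    [.z, .z, .o, .o, .o, .w2],
    [.z, .z, .o, .o, .w, .o],
    [.z, .z, .o, .o, .w, .w],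
    [.z, .z, .o, .o, .w, .w2],
    [.z, .z, .o, .o, .w2, .o],
    [.z, .z, .o, .o, .w2, .w],
    [.z, .z, .o, .o, .w2, .w2],
    [.z, .z, .o, .w, .z, .z],
    [.z, .z, .o, .w, .o, .o],
    [.z, .z, .o, .w, .o, .w],
    [.z, .z, .o, .w, .o, .w2],
    [.z, .z, .o, .w, .w, .o],
    [.z, .z, .o, .w, .w, .w],
    [.z, .z, .o, .w, .w, .w2],
    [.z, .z, .o, .w, .w2, .o],
    [.z, .z, .o, .w, .w2, .w],
    [.z, .z, .o, .w, .w2, .w2],
    [.z, .z, .o, .w2, .z, .z],
    [.z, .z, .o, .w2, .o, .o],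
    [.z, .z, .o, .w2, .o, .w],
    [.z, .z, .o, .w2, .o, .w2],
    [.z, .z, .o, .w2, .w, .o],
    [.z, .z, .o, .w2, .w, .w],
    [.z, .z, .o, .w2, .w, .w2],
    [.z, .z, .o, .w2, .w2, .o],
    [.z, .z, .o, .w2, .w2, .w],
    [.z, .z, .o, .w2, .w2, .w2]]

/-- A point of the table. -/
def tblPt (i : Fin 45) : List K4 := tblPts.getD i.val []

/-- Orthogonality in the table. -/
def tblAdj (i j : Fin 45) : Bool := decide (i ≠ j) && decide (hk 6 (tblPt i) (tblPt j) = .z)

/-- The computed properties of the table. -/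
def tblOK : Bool :=
  ((List.finRange 45).all fun i =>
    decide (hk 6 (tblPt i) (tblPt i) = .z) && decide (vec 6 (tblPt i) ≠ fun _ => .z)
      && decide (hk 6 (tblPt i) [.o, .o, .z, .z, .z, .z] = .z)
      && decide (hk 6 (tblPt i) [.w, .w2, .z, .z, .z, .z] = .z)
      && decide ((List.finRange 45).countP (tblAdj i) = 12))
  && ((List.finRange 45).all fun i => (List.finRange 45).all fun j => decide (i = j) ||
    ((List.range 4).all fun c => decide (List.map (fun t => [K4.z, .o, .w, .w2].getD c .z * t) (tblPt i) ≠ tblPt j)))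
  && ((List.finRange 45).all fun i => (List.finRange 45).all fun j => decide (i = j) ||
    (let m := (List.finRange 45).filter fun k => tblAdj i k && tblAdj j k
     decide (m.length = 3) && m.all fun p => m.all fun q => decide (p = q) ||
       (decide (hk 6 (tblPt p) (tblPt q) = .z) == decide (hk 6 (tblPt i) (tblPt j) = .z))))

theorem tbl_check : tblOK = true := by decide +kernel

variable {G : Type*} [Group G] [Finite G] {D : Set G}

/-- The neighbours of `q` in `common a b`. -/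
def cell (D : Set G) (a b q : G) : Set G := common D a b ∩ adj D q

/-- A labelling of a cell by the table. -/
theorem exists_farPts (S : Fi22Setup D) {a b q : G} (ha : a ∈ D) (hb : b ∈ D) (hab : ¬ Commute a b)
    (hq : q ∈ common D a b) :
    ∃ φ : Fin 45 → G, Function.Injective φ ∧ Set.range φ = cell D a b q ∧
      ∀ i j, Commute (φ i) (φ j) ↔ hk 6 (tblPt i) (tblPt j) = .z := by
  classical
  have hchk := tbl_check
  simp only [tblOK, Bool.and_eq_true, List.all_eq_true, List.mem_finRange, forall_const, decide_eq_true_eq,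
    Bool.or_eq_true, List.mem_range] at hchk
  obtain ⟨⟨hpt, hprop⟩, -⟩ := hchk
  obtain ⟨F, _, _, pt, M⟩ := S.exists_model hq.1.1
  have hF := M.card
  obtain ⟨u, hu, hua⟩ := M.surj a (adj_symm ha hq.1)
  obtain ⟨w, hw, hwb⟩ := M.surj b (adj_symm hb hq.2)
  have huw : hf u w ≠ 0 := fun h => hab (by rw [← hua, ← hwb]; exact (M.comm u w hu hw).2 h)
  have hc0 : ((hf u w)⁻¹) ^ 2 ≠ 0 := pow_ne_zero _ (inv_ne_zero huw)
  have h1 : hf u (((hf u w)⁻¹) ^ 2 • w) = 1 := by
    rw [hf_smul_right hF, show (((hf u w)⁻¹) ^ 2) ^ 2 = (hf u w)⁻¹ from pow_q_pow_q (card_sq hF) _,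
      inv_mul_cancel₀ huw]
  rw [← M.smul w _ hw hc0] at hwb
  have hw1 := hw.smul hF hc0
  generalize ((hf u w)⁻¹) ^ 2 • w = w' at hwb h1 hw1
  let e : K4 ≃+* F := FiniteField.ringEquivOfCardEq (hF ▸ K4.card_eq)
  have hu' := std_iso hF e [.o, .o, .z, .z, .z, .z] (by decide +kernel) (by decide +kernel)
  have hw' := std_iso hF e [.w, .w2, .z, .z, .z, .z] (by decide +kernel) (by decide +kernel)
  have h' : hf (fun i => e (vec 6 [.o, .o, .z, .z, .z, .z] i))
      (fun i => e (vec 6 [.w, .w2, .z, .z, .z, .z] i)) = 1 := by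
    rw [hf_map e, show Cfsg.hermForm 6 K4 2 (vec 6 [.o, .o, .z, .z, .z, .z])
      (vec 6 [.w, .w2, .z, .z, .z, .z]) = 1 by decide +kernel, map_one]
  obtain ⟨g, hg⟩ := exists_act_family hF
    (li_of_not_orth hF hu' (by rw [h']; exact one_ne_zero))
    (li_of_not_orth hF hu (by rw [h1]; exact one_ne_zero))
    (fun i j => by
      fin_cases i <;> fin_cases j <;>
        simp [hu.2, hw1.2, hu'.2, hw'.2, h1, h', hf_eq_one_symm hF h1, hf_eq_one_symm hF h'])
    (by norm_num)
  set vv : Fin 45 → (Fin 6 → F) := fun i => act g (fun k => e (vec 6 (tblPt i) k)) with hvv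
  have hf0 : ∀ l l' : List K4, hf (act g (fun k => e (vec 6 l k))) (act g (fun k => e (vec 6 l' k))) = 0 ↔
      hk 6 l l' = .z := fun l l' => by
    rw [act_hf, hf_map e]; exact map_eq_zero_iff e e.injective
  have hiso : ∀ i, Iso (vv i) := fun i => (std_iso hF e _ (hpt i).1.1.1.1 (hpt i).1.1.1.2).act g
  have hcomm : ∀ i j, Commute (pt (vv i)) (pt (vv j)) ↔ hk 6 (tblPt i) (tblPt j) = .z := fun i j =>
    (M.comm _ _ (hiso i) (hiso j)).trans (hf0 _ _)
  have hinj : Function.Injective fun i => pt (vv i) := by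
    intro i j hij
    by_contra hne
    obtain ⟨c, hc, he⟩ := M.inj _ _ (hiso i) (hiso j) hij
    obtain ⟨c', rfl⟩ := e.surjective c
    have he' : (fun k => e (vec 6 (tblPt j) k)) = fun k => e (c' * vec 6 (tblPt i) k) := by
      have := congrArg (act g⁻¹) he
      rw [act_smul] at this
      simp only [hvv, act_inv_act] at this
      rw [this]
      funext k
      simp
    have hlen : ∀ k, (tblPt k).length = 6 := by unfold tblPt tblPts; decide +kernel
    obtain ⟨n, hn, hnc⟩ : ∃ n, n < 4 ∧ [K4.z, .o, .w, .w2].getD n .z = c' := by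
      cases c'
      exacts [⟨0, by norm_num, rfl⟩, ⟨1, by norm_num, rfl⟩, ⟨2, by norm_num, rfl⟩, ⟨3, by norm_num, rfl⟩]
    refine ((hprop i j).resolve_left hne) n hn ?_
    rw [hnc]
    refine List.ext_getElem (by rw [List.length_map, hlen, hlen]) fun k h1 h2 => ?_
    have hk6 : k < 6 := by rw [hlen] at h2; exact h2
    have := e.injective (congrFun he' ⟨k, hk6⟩)
    simp only [vec, List.getD_eq_getElem?_getD, List.getElem?_eq_getElem h2, Option.getD_some,
      List.getElem?_eq_getElem (show k < (tblPt i).length by rw [hlen]; exact hk6)] at this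
    rw [List.getElem_map]
    exact this.symm
  have hmem : ∀ i, pt (vv i) ∈ cell D a b q := by
    intro i
    have h2 : Commute (pt (vv i)) a := by
      rw [← hua]
      refine (M.comm _ _ (hiso i) hu).2 ?_
      rw [← show act g (fun k => e (vec 6 [.o, .o, .z, .z, .z, .z] k)) = u from hg 0]
      exact (hf0 _ _).2 (hpt i).1.1.2
    have h3 : Commute (pt (vv i)) b := by
      rw [← hwb]
      refine (M.comm _ _ (hiso i) hw1).2 ?_
      rw [← show act g (fun k => e (vec 6 [.w, .w2, .z, .z, .z, .z] k)) = w' from hg 1]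
      exact (hf0 _ _).2 (hpt i).1.2
    have h4 := M.mem _ (hiso i)
    refine ⟨⟨⟨h4.1, fun e => hab ?_, h2.symm⟩, h4.1, fun e => hab ?_, h3.symm⟩, h4⟩
    · exact e ▸ h3
    · exact (e ▸ h2).symm
  refine ⟨_, hinj, ?_, hcomm⟩
  refine Set.eq_of_subset_of_ncard_le (Set.range_subset_iff.2 hmem) (le_of_eq ?_) (Set.toFinite _)
  rw [Set.ncard_range_of_injective hinj, Nat.card_fin]
  exact common_deg S ha hb hab hq

theorem cell_ncard (S : Fi22Setup D) {a b q : G} (ha : a ∈ D) (hb : b ∈ D) (hab : ¬ Commute a b)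
    (hq : q ∈ common D a b) : (cell D a b q).ncard = 45 := common_deg S ha hb hab hq

/-- The other neighbours of `x` in a set. -/
theorem filter_image {φ : Fin 45 → G} (hinj : Function.Injective φ) (hmem : ∀ i, φ i ∈ D)
    (hc : ∀ i j, Commute (φ i) (φ j) ↔ hk 6 (tblPt i) (tblPt j) = .z) (i : Fin 45) :
    Set.range φ ∩ adj D (φ i) = φ '' {k | tblAdj i k = true} := by
  ext z
  simp only [Set.mem_inter_iff, Set.mem_range, Set.mem_image, Set.mem_ofPred_eq, tblAdj, Bool.and_eq_true,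
    decide_eq_true_eq]
  constructor
  · rintro ⟨⟨k, rfl⟩, hz⟩
    exact ⟨k, ⟨fun e => hz.2.1 (e ▸ rfl), (hc i k).1 hz.2.2⟩, rfl⟩
  · rintro ⟨k, ⟨hne, hk'⟩, rfl⟩
    exact ⟨⟨k, rfl⟩, hmem k, fun e => hne (hinj e).symm, (hc i k).2 hk'⟩

theorem cell_deg (S : Fi22Setup D) {a b q x : G} (ha : a ∈ D) (hb : b ∈ D) (hab : ¬ Commute a b)
    (hq : q ∈ common D a b) (hx : x ∈ cell D a b q) : (cell D a b q ∩ adj D x).ncard = 12 := by
  obtain ⟨φ, hinj, hr, hc⟩ := exists_farPts S ha hb hab hq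
  have hmem : ∀ i, φ i ∈ D := fun i => (show φ i ∈ cell D a b q from hr ▸ ⟨i, rfl⟩).1.1.1
  rw [← hr] at hx ⊢
  obtain ⟨i, rfl⟩ := hx
  rw [filter_image hinj hmem hc, Set.ncard_image_of_injective _ hinj]
  have hchk := tbl_check
  simp only [tblOK, Bool.and_eq_true, List.all_eq_true, List.mem_finRange, forall_const, decide_eq_true_eq] at hchk
  obtain ⟨⟨hpt, -⟩, -⟩ := hchk
  rw [← (hpt i).2, List.countP_eq_length_filter, ← List.toFinset_card_of_nodup ((List.nodup_finRange 45).filter _),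
    ← Set.ncard_coe_finset]
  congr 1
  ext k
  simp

theorem cell_common_aux (S : Fi22Setup D) {a b q x y : G} (ha : a ∈ D) (hb : b ∈ D) (hab : ¬ Commute a b)
    (hq : q ∈ common D a b) (hx : x ∈ cell D a b q) (hy : y ∈ cell D a b q) (hxy : x ≠ y) :
    (cell D a b q ∩ adj D x ∩ adj D y).ncard = 3 ∧
      ∀ p ∈ cell D a b q ∩ adj D x ∩ adj D y, ∀ r ∈ cell D a b q ∩ adj D x ∩ adj D y, p ≠ r →
        (Commute p r ↔ Commute x y) := by
  obtain ⟨φ, hinj, hr, hc⟩ := exists_farPts S ha hb hab hq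
  have hmem : ∀ i, φ i ∈ D := fun i => (show φ i ∈ cell D a b q from hr ▸ ⟨i, rfl⟩).1.1.1
  rw [← hr] at hx hy ⊢
  obtain ⟨i, rfl⟩ := hx
  obtain ⟨j, rfl⟩ := hy
  have hchk := tbl_check
  simp only [tblOK, Bool.and_eq_true, List.all_eq_true, List.mem_finRange, forall_const, decide_eq_true_eq,
    Bool.or_eq_true] at hchk
  obtain ⟨-, hm⟩ := hchk
  obtain ⟨h3, hcol⟩ := (hm i j).resolve_left fun e => hxy (congrArg φ e)
  have e : Set.range φ ∩ adj D (φ i) ∩ adj D (φ j) = φ '' {k | tblAdj i k = true ∧ tblAdj j k = true} := by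
    rw [show Set.range φ ∩ adj D (φ i) ∩ adj D (φ j) = (Set.range φ ∩ adj D (φ i)) ∩ (Set.range φ ∩ adj D (φ j)) by
        ext z; exact ⟨fun ⟨⟨h1, h2⟩, h3⟩ => ⟨⟨h1, h2⟩, h1, h3⟩, fun ⟨⟨h1, h2⟩, _, h3⟩ => ⟨⟨h1, h2⟩, h3⟩⟩,
      filter_image hinj hmem hc, filter_image hinj hmem hc, ← Set.image_inter hinj]
    rfl
  rw [e]
  constructor
  · rw [Set.ncard_image_of_injective _ hinj, ← h3,
      ← List.toFinset_card_of_nodup ((List.nodup_finRange 45).filter _), ← Set.ncard_coe_finset]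
    congr 1
    ext k
    simp
  · rintro _ ⟨p, hp, rfl⟩ _ ⟨r, hr', rfl⟩ hne
    have := (hcol p (List.mem_filter.2 ⟨List.mem_finRange p, Bool.and_eq_true_iff.2 hp⟩) r
      (List.mem_filter.2 ⟨List.mem_finRange r, Bool.and_eq_true_iff.2 hr'⟩)).resolve_left fun e => hne (congrArg φ e)
    rw [hc, hc]
    simpa using this

theorem cell_common (S : Fi22Setup D) {a b q x y : G} (ha : a ∈ D) (hb : b ∈ D) (hab : ¬ Commute a b)
    (hq : q ∈ common D a b) (hx : x ∈ cell D a b q) (hy : y ∈ cell D a b q) (hxy : x ≠ y) :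
    (cell D a b q ∩ adj D x ∩ adj D y).ncard = 3 := (cell_common_aux S ha hb hab hq hx hy hxy).1

theorem cell_collinear (S : Fi22Setup D) {a b q x y p r : G} (ha : a ∈ D) (hb : b ∈ D) (hab : ¬ Commute a b)
    (hq : q ∈ common D a b) (hx : x ∈ cell D a b q) (hy : y ∈ cell D a b q) (hxy : x ≠ y)
    (hp : p ∈ cell D a b q ∩ adj D x ∩ adj D y) (hr : r ∈ cell D a b q ∩ adj D x ∩ adj D y) (hne : p ≠ r) :
    Commute p r ↔ Commute x y := (cell_common_aux S ha hb hab hq hx hy hxy).2 p hp r hr hne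

end Cfsg.Agent.FischerM22
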