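/-
The common neighbours of two non-commuting members `a, b` of a group of type M(22).

For two non-commuting `i, h` in `common a b` write `K` for the members of `common a b` commuting with both.

Main results (namespace `Cfsg.Agent.FischerM22`):
* `FarPair` : two non-commuting members; `FarPair.non_card` : 80 members of `common a b` fail to commute with one;
* `FarPair.perp_deg` : each member of `K` commutes with 3 others in it;
* `FarPair.perp_card` : `K` has 18 members;
* `FarPair.perp_out` : the members of `cell i` outside `K` commute with exactly six members of `K`.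
-/
import Cfsg.Agent.Lib.FischerM22.FarLocal
import Cfsg.Agent.Lib.FischerM22.Total

set_option autoImplicit false

namespace Cfsg.Agent.FischerM22

open Cfsg.Agent.ThreeTrans Cfsg.Agent.ThreeTransSU

variable {G : Type*} [Group G] {D : Set G}

/-- Two non-commuting members. -/
structure FarPair (D : Set G) (a b : G) : Prop where
  left : a ∈ D
  right : b ∈ D
  far : ¬ Commute a b

/-- The members of `cell i` commuting with `h`. -/
def perpSet (D : Set G) (a b i h : G) : Set G := cell D a b i ∩ adj D h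

variable {a b : G}

theorem cell_mem {q x : G} (h : x ∈ cell D a b q) : x ∈ common D a b ∧ x ∈ adj D q := h

theorem cell_symm {q x : G} (hq : q ∈ common D a b) (h : x ∈ cell D a b q) : q ∈ cell D a b x :=
  ⟨hq, adj_symm hq.1.1 h.2⟩

theorem mem_perpSet {i h x : G} : x ∈ perpSet D a b i h ↔ x ∈ common D a b ∧ x ∈ adj D i ∧ x ∈ adj D h :=
  ⟨fun ⟨⟨h1, h2⟩, h3⟩ => ⟨h1, h2, h3⟩, fun ⟨h1, h2, h3⟩ => ⟨⟨h1, h2⟩, h3⟩⟩

theorem perpSet_comm (i h : G) : perpSet D a b i h = perpSet D a b h i := by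
  ext x
  rw [mem_perpSet, mem_perpSet]
  exact ⟨fun ⟨h1, h2, h3⟩ => ⟨h1, h3, h2⟩, fun ⟨h1, h2, h3⟩ => ⟨h1, h3, h2⟩⟩

variable [Finite G]

theorem FarPair.deg (P : FarPair D a b) (S : Fi22Setup D) {q x : G} (hq : q ∈ common D a b)
    (hx : x ∈ cell D a b q) : (cell D a b q ∩ adj D x).ncard = 12 := cell_deg S P.left P.right P.far hq hx

theorem FarPair.non_card (P : FarPair D a b) (S : Fi22Setup D) {i : G} (hi : i ∈ common D a b) :
    {h | h ∈ common D a b ∧ ¬ Commute i h}.ncard = 80 := by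
  have e : common D a b = insert i (cell D a b i ∪ {h | h ∈ common D a b ∧ ¬ Commute i h}) := by
    ext x
    simp only [Set.mem_insert_iff, Set.mem_union, Set.mem_ofPred_eq]
    constructor
    · intro hx
      by_cases e : x = i
      · exact Or.inl e
      by_cases hc : Commute i x
      · exact Or.inr (Or.inl ⟨hx, hx.1.1, e, hc⟩)
      · exact Or.inr (Or.inr ⟨hx, hc⟩)
    · rintro (rfl | h | h)
      exacts [hi, h.1, h.1]
  have hni : i ∉ cell D a b i ∪ {h | h ∈ common D a b ∧ ¬ Commute i h} := by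
    rintro (h | h)
    exacts [h.2.2.1 rfl, h.2 (Commute.refl i)]
  have h := congrArg Set.ncard e
  rw [common_card S P.left P.right P.far, Set.ncard_insert_of_notMem hni (Set.toFinite _),
    Set.ncard_union_eq (Set.disjoint_left.2 fun x h1 h2 => h2.2 h1.2.2.2) (Set.toFinite _) (Set.toFinite _),
    cell_ncard S P.left P.right P.far hi] at h
  omega

theorem FarPair.perp_deg (P : FarPair D a b) (S : Fi22Setup D) {i h k : G} (hi : i ∈ common D a b)
    (hh : h ∈ common D a b) (hne : i ≠ h) (hk : k ∈ perpSet D a b i h) :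
    (perpSet D a b i h ∩ adj D k).ncard = 3 := by
  obtain ⟨hkS, hki, hkh⟩ := mem_perpSet.1 hk
  have e : perpSet D a b i h ∩ adj D k = cell D a b k ∩ adj D i ∩ adj D h :=
    Set.ext fun x => ⟨fun ⟨⟨⟨h1, h2⟩, h3⟩, h4⟩ => ⟨⟨⟨h1, h4⟩, h2⟩, h3⟩,
      fun ⟨⟨⟨h1, h4⟩, h2⟩, h3⟩ => ⟨⟨⟨h1, h2⟩, h3⟩, h4⟩⟩
  rw [e]
  exact cell_common S P.left P.right P.far hkS ⟨hi, adj_symm hi.1.1 hki⟩ ⟨hh, adj_symm hh.1.1 hkh⟩ hne

theorem FarPair.perp_bound (P : FarPair D a b) (S : Fi22Setup D) {i h : G} (hi : i ∈ common D a b)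
    (hh : h ∈ common D a b) (hih : ¬ Commute i h) :
    (perpSet D a b i h).ncard ≤ 18 ∧ ((perpSet D a b i h).ncard = 18 →
      ∀ x ∈ cell D a b i, x ∉ perpSet D a b i h → (perpSet D a b i h ∩ adj D x).ncard = 6) := by
  classical
  have := Fintype.ofFinite G
  set Pf := (cell D a b i).toFinset with hPf
  set Kf := Pf.filter (fun x => x ∈ adj D h) with hKf
  have hK : (↑Kf : Set G) = perpSet D a b i h := by
    ext x; simp [hKf, hPf, perpSet]
  set c : G → ℕ := fun x => (Kf.filter fun k => k ∈ adj D x).card with hc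
  have hcK : ∀ x, c x = (perpSet D a b i h ∩ adj D x).ncard := fun x => by
    show (Kf.filter _).card = _
    rw [← hK, ← Set.ncard_coe_finset]
    congr 1
    ext k
    simp
  have hn : (perpSet D a b i h).ncard = Kf.card := by rw [← hK, Set.ncard_coe_finset]
  have hP45 : Pf.card = 45 := by
    rw [hPf, ← Set.ncard_eq_toFinset_card']; exact cell_ncard S P.left P.right P.far hi
  have hsub : Kf ⊆ Pf := Finset.filter_subset _ _
  have memK : ∀ k ∈ Kf, k ∈ cell D a b i := fun k hk => Set.mem_toFinset.1 (hsub hk)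
  have row : ∀ k ∈ Kf, (Pf.filter fun x => k ∈ adj D x).card = 12 := fun k hk => by
    rw [← P.deg S hi (memK k hk), ← Set.ncard_coe_finset]
    congr 1
    ext x
    simp only [Finset.coe_filter, hPf, Set.mem_toFinset, Set.mem_ofPred_eq, Set.mem_inter_iff]
    exact and_congr_right fun hx => ⟨fun h' => adj_symm hx.1.1.1 h', fun h' => adj_symm (memK k hk).1.1.1 h'⟩
  have pairs : ∀ k ∈ Kf, ∀ k' ∈ Kf, k ≠ k' →
      (Pf.filter fun x => k ∈ adj D x ∧ k' ∈ adj D x).card = 3 := fun k hk k' hk' hne => by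
    rw [← cell_common S P.left P.right P.far hi (memK k hk) (memK k' hk') hne, ← Set.ncard_coe_finset]
    congr 1
    ext x
    simp only [Finset.coe_filter, hPf, Set.mem_toFinset, Set.mem_ofPred_eq, Set.mem_inter_iff]
    exact ⟨fun ⟨hx, h1, h2⟩ => ⟨⟨hx, adj_symm hx.1.1.1 h1⟩, adj_symm hx.1.1.1 h2⟩,
      fun ⟨⟨hx, h1⟩, h2⟩ => ⟨hx, adj_symm (memK k hk).1.1.1 h1, adj_symm (memK k' hk').1.1.1 h2⟩⟩
  have cdef : ∀ x, c x = ∑ k ∈ Kf, if k ∈ adj D x then 1 else 0 := fun x => by
    rw [hc]; exact Finset.card_filter _ _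
  have s1 : ∑ x ∈ Pf, c x = 12 * Kf.card := by
    rw [Finset.sum_congr rfl fun x _ => cdef x, Finset.sum_comm,
      Finset.sum_congr rfl fun k hk => (Finset.card_filter _ _).symm.trans (row k hk), Finset.sum_const,
      smul_eq_mul, mul_comm]
  have s2 : ∑ x ∈ Pf, c x ^ 2 + 3 * Kf.card = 12 * Kf.card + 3 * Kf.card ^ 2 := by
    have e1 : ∀ x, c x ^ 2 = ∑ k ∈ Kf, ∑ k' ∈ Kf, if k ∈ adj D x ∧ k' ∈ adj D x then 1 else 0 := fun x => by
      rw [pow_two, cdef, Finset.sum_mul_sum]
      refine Finset.sum_congr rfl fun k _ => Finset.sum_congr rfl fun k' _ => ?_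
      by_cases h1 : k ∈ adj D x <;> by_cases h2 : k' ∈ adj D x <;> simp [h1, h2]
    have e2 : ∀ k ∈ Kf, (∑ k' ∈ Kf, (Pf.filter fun x => k ∈ adj D x ∧ k' ∈ adj D x).card) + 3
        = 12 + 3 * Kf.card := fun k hk => by
      rw [← Finset.add_sum_erase _ _ hk,
        Finset.sum_congr rfl fun k' hk' => pairs k hk k' (Finset.mem_of_mem_erase hk') (Finset.ne_of_mem_erase hk').symm,
        Finset.sum_const, smul_eq_mul, Finset.card_erase_of_mem hk]
      simp only [and_self, row k hk]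
      have := Finset.card_pos.2 ⟨k, hk⟩
      omega
    have e3 : ∑ x ∈ Pf, c x ^ 2 = ∑ k ∈ Kf, ∑ k' ∈ Kf, (Pf.filter fun x => k ∈ adj D x ∧ k' ∈ adj D x).card := by
      rw [Finset.sum_congr rfl fun x _ => e1 x, Finset.sum_comm]
      refine Finset.sum_congr rfl fun k _ => ?_
      rw [Finset.sum_comm]
      exact Finset.sum_congr rfl fun k' _ => (Finset.card_filter _ _).symm
    rw [e3]
    have := Finset.sum_congr rfl e2
    rw [Finset.sum_add_distrib, Finset.sum_const, Finset.sum_const, smul_eq_mul, smul_eq_mul] at this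
    rw [mul_comm 3 Kf.card, this]
    ring
  have hin : ∀ x ∈ Kf, c x = 3 := fun x hx => by
    rw [hcK]; exact P.perp_deg S hi hh (fun e => hih (e ▸ Commute.refl i)) (hK ▸ hx)
  rw [← Finset.sum_sdiff hsub, Finset.sum_congr rfl hin, Finset.sum_const, smul_eq_mul] at s1
  have e9 : ∑ x ∈ Kf, c x ^ 2 = 9 * Kf.card := by
    rw [Finset.sum_congr rfl fun x hx => by rw [hin x hx], Finset.sum_const, smul_eq_mul, mul_comm]
    norm_num
  rw [← Finset.sum_sdiff hsub, e9] at s2
  have hO : (Pf \ Kf).card + Kf.card = 45 := by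
    rw [Finset.card_sdiff_of_subset hsub, ← hP45]
    have := Finset.card_le_card hsub
    omega
  have cs := sq_sum_le_card_mul_sum_sq (s := Pf \ Kf) (f := c)
  rw [show ∑ x ∈ Pf \ Kf, c x = 9 * Kf.card by omega,
    show ∑ x ∈ Pf \ Kf, c x ^ 2 = 3 * Kf.card ^ 2 by omega] at cs
  rw [hn]
  constructor
  · by_contra h18
    have h1 : (9 * Kf.card) ^ 2 ≤ (45 - Kf.card) * (3 * Kf.card ^ 2) := by
      rwa [show 45 - Kf.card = (Pf \ Kf).card by omega]
    have h2 : (45 - Kf.card) * (3 * Kf.card ^ 2) ≤ 26 * (3 * Kf.card ^ 2) :=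
      Nat.mul_le_mul_right _ (by omega)
    have h3 : 0 < Kf.card ^ 2 := pow_pos (by omega) 2
    rw [mul_pow] at h1
    omega
  · intro h18 x hx hxK
    rw [h18] at s1 s2 hO
    have hsum : ∑ y ∈ Pf \ Kf, ((c y : ℤ) - 6) ^ 2 = 0 := by
      have : ∀ y, ((c y : ℤ) - 6) ^ 2 = ((c y ^ 2 : ℕ) : ℤ) - 12 * ((c y : ℕ) : ℤ) + 36 := fun y => by
        push_cast; ring
      rw [Finset.sum_congr rfl fun y _ => this y, Finset.sum_add_distrib, Finset.sum_sub_distrib, ← Finset.mul_sum,
        Finset.sum_const, ← Nat.cast_sum, ← Nat.cast_sum, nsmul_eq_mul]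
      have q1 : ∑ y ∈ Pf \ Kf, c y = 162 := by omega
      have q2 : ∑ y ∈ Pf \ Kf, c y ^ 2 = 972 := by omega
      have q3 : (Pf \ Kf).card = 27 := by omega
      rw [q1, q2, q3]
      norm_num
    have h6 := (Finset.sum_eq_zero_iff_of_nonneg fun y _ => sq_nonneg _).1 hsum x (Finset.mem_sdiff.2
      ⟨Set.mem_toFinset.2 hx, fun h' => hxK (hK ▸ h')⟩)
    rw [pow_eq_zero_iff two_ne_zero] at h6
    rw [← hcK]
    omega

/-- `K` has 18 members. -/
theorem FarPair.perp_card (P : FarPair D a b) (S : Fi22Setup D) {i h : G} (hi : i ∈ common D a b)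
    (hh : h ∈ common D a b) (hih : ¬ Commute i h) : (perpSet D a b i h).ncard = 18 := by
  classical
  have := Fintype.ofFinite G
  set Nf := {x | x ∈ common D a b ∧ ¬ Commute i x}.toFinset with hNf
  set Pf := (cell D a b i).toFinset with hPf
  have hle : ∀ x ∈ Nf, (Pf.filter fun k => k ∈ adj D x).card ≤ 18 := fun x hx => by
    rw [hNf, Set.mem_toFinset] at hx
    refine le_of_eq_of_le ?_ (P.perp_bound S hi hx.1 hx.2).1
    rw [← Set.ncard_coe_finset]
    congr 1
    ext k
    simp [hPf, perpSet]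
  have hrow : ∀ k ∈ Pf, (Nf.filter fun x => k ∈ adj D x).card = 32 := fun k hk => by
    rw [hPf, Set.mem_toFinset] at hk
    have hik := cell_symm hi hk
    have e : (↑(Nf.filter fun x => k ∈ adj D x) : Set G)
        = cell D a b k \ insert i (cell D a b k ∩ adj D i) := by
      ext x
      simp only [Finset.coe_filter, hNf, Set.mem_toFinset, Set.mem_ofPred_eq, Set.mem_sdiff, Set.mem_insert_iff,
        Set.mem_inter_iff, not_or, not_and]
      constructor
      · rintro ⟨⟨hx, hn⟩, hxk⟩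
        exact ⟨⟨hx, adj_symm hx.1.1 hxk⟩, fun e => hn (e ▸ Commute.refl i), fun _ h' => hn h'.2.2⟩
      · rintro ⟨hx, hne, h'⟩
        exact ⟨⟨hx.1, fun hc => h' hx ⟨hx.1.1.1, hne, hc⟩⟩, adj_symm hk.1.1.1 hx.2⟩
    rw [← Set.ncard_coe_finset, e, Set.ncard_sdiff (Set.insert_subset hik Set.inter_subset_left),
      cell_ncard S P.left P.right P.far hk.1,
      Set.ncard_insert_of_notMem (fun h' => h'.2.2.1 rfl) (Set.toFinite _), P.deg S hk.1 hik]
  have hsum : ∑ x ∈ Nf, (Pf.filter fun k => k ∈ adj D x).card = ∑ x ∈ Nf, 18 := by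
    rw [Finset.sum_congr rfl fun x _ => Finset.card_filter (fun k => k ∈ adj D x) Pf, Finset.sum_comm,
      Finset.sum_congr rfl fun k hk => (Finset.card_filter _ _).symm.trans (hrow k hk), Finset.sum_const,
      Finset.sum_const, hPf, hNf, ← Set.ncard_eq_toFinset_card', ← Set.ncard_eq_toFinset_card',
      cell_ncard S P.left P.right P.far hi, P.non_card S hi]
    norm_num
  have h18 := (Finset.sum_eq_sum_iff_of_le hle).1 hsum h (Set.mem_toFinset.2 ⟨hh, hih⟩)
  rw [← h18, ← Set.ncard_coe_finset]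
  congr 1
  ext k
  simp [hPf, perpSet]

/-- The members of `cell i` outside `K` commute with exactly six members of `K`. -/
theorem FarPair.perp_out (P : FarPair D a b) (S : Fi22Setup D) {i h x : G} (hi : i ∈ common D a b)
    (hh : h ∈ common D a b) (hih : ¬ Commute i h) (hx : x ∈ cell D a b i) (hxK : x ∉ perpSet D a b i h) :
    (perpSet D a b i h ∩ adj D x).ncard = 6 :=
  (P.perp_bound S hi hh hih).2 (P.perp_card S hi hh hih) x hx hxK

end Cfsg.Agent.FischerM22
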