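/-
Frames of type Y332 in a group of type M(22).

Main results (namespace `Cfsg.Agent.FischerM22`):
* `FarPair.a4_unique` : at most one member of `common a b` commutes with a path of four members of it;
* `YFrame` : nine members with the commuting pattern of the diagram Y332;
* `exists_frame` : such members exist.
-/
import Cfsg.Agent.Lib.FischerM22.FarSet
import Cfsg.Agent.Lib.FischerM22.BinChain

set_option autoImplicit false

namespace Cfsg.Agent.FischerM22

open Cfsg.Agent.Unitary Cfsg.Agent.U62Cover Cfsg.Agent.ThreeTrans Cfsg.Agent.ThreeTransSU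

variable {G : Type*} [Group G] [Finite G] {D : Set G} {a b : G}

/-- The intervals of a path of four points. -/
def intervals : List (Fin 4 → ZMod 2) :=
  [![1, 0, 0, 0], ![0, 1, 0, 0], ![0, 0, 1, 0], ![0, 0, 0, 1], ![1, 1, 0, 0], ![0, 1, 1, 0], ![0, 0, 1, 1],
    ![1, 1, 1, 0], ![0, 1, 1, 1], ![1, 1, 1, 1]]

theorem intervals_deg : ∀ ρ : Fin 4 → ZMod 2, ρ ≠ 0 →
    ((intervals.filter fun σ => decide (bform σ ρ = 0 ∧ σ ≠ ρ)).length = if ρ ∈ intervals then 3 else 6) ∧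
      (intervals.filter fun σ => decide (bform σ ρ = 0 ∧ σ ≠ ρ)).Nodup := by
  decide +kernel

theorem intervals_ne : ∀ σ ∈ intervals, σ ≠ 0 := by decide +kernel

theorem perpSet_conj (S : Fi22Setup D) {i h k k' : G} (hk : k ∈ perpSet D a b i h)
    (hk' : k' ∈ perpSet D a b i h) : k * k' * k⁻¹ ∈ perpSet D a b i h := by
  have key : ∀ x, k ∈ adj D x → k' ∈ adj D x → k * k' * k⁻¹ ∈ adj D x := fun x h1 h2 => by
    have := (conj_adj S.grp.2.1 k x (k * k' * k⁻¹)).2 (by simpa [mul_assoc] using h2)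
    rwa [show k * x * k⁻¹ = x by rw [← h1.2.2.eq, mul_inv_cancel_right]] at this
  exact ⟨⟨⟨key a hk.1.1.1 hk'.1.1.1, key b hk.1.1.2 hk'.1.1.2⟩, key i hk.1.2 hk'.1.2⟩, key h hk.2 hk'.2⟩

theorem mem_common_of {x : G} (P : FarPair D a b) (hx : x ∈ D) (hxa : Commute x a) (hxb : Commute x b) :
    x ∈ common D a b :=
  ⟨⟨hx, fun e => P.far (e ▸ hxb), hxa.symm⟩, hx, fun e => P.far (e ▸ hxa).symm, hxb.symm⟩

/-- At most one member of `common a b` commutes with a path of four members of it. -/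
theorem FarPair.a4_unique (P : FarPair D a b) (S : Fi22Setup D) {p t : G} (m : Fin 4 → G)
    (hm : ∀ j, m j ∈ common D a b) (hpat : ∀ j k, Commute (m j) (m k) ↔ pathMat 4 j k = 0)
    (hp : p ∈ common D a b) (ht : t ∈ common D a b) (hpc : ∀ j, Commute p (m j))
    (htc : ∀ j, Commute t (m j)) : p = t := by
  classical
  by_contra hne
  have hnb : ∀ {x : G}, (∀ j, Commute x (m j)) → ∀ j, m j ≠ x := fun {x} hx j e => by
    have nb : ∀ j : Fin 4, ∃ k, pathMat 4 j k = 1 := by decide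
    obtain ⟨k, hk⟩ := nb j
    have := (hpat j k).1 (e ▸ hx k)
    rw [hk] at this
    exact one_ne_zero this
  have hmp : ∀ j, m j ∈ cell D a b p := fun j => ⟨hm j, (hm j).1.1, hnb hpc j, hpc j⟩
  have hmt : ∀ j, m j ∈ cell D a b t := fun j => ⟨hm j, (hm j).1.1, hnb htc j, htc j⟩
  have hpt : ¬ Commute p t := fun hc => by
    have n23 : ¬ Commute (m 2) (m 3) := fun h => one_ne_zero ((show pathMat 4 2 3 = 1 by decide) ▸ (hpat 2 3).1 h)
    have hp2 : ∀ x, x ∈ common D a b → (∀ j, m j ∈ cell D a b x) →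
        x ∈ cell D a b (m 0) ∩ adj D (m 2) ∩ adj D (m 3) := fun x hx h =>
      ⟨⟨cell_symm hx (h 0), adj_symm hx.1.1 (h 2).2⟩, adj_symm hx.1.1 (h 3).2⟩
    have h02 : m 2 ∈ cell D a b (m 0) := ⟨hm 2, (hm 2).1.1,
      fun e => n23 (e ▸ (hpat 0 3).2 (by decide)), (hpat 0 2).2 (by decide)⟩
    have h03 : m 3 ∈ cell D a b (m 0) := ⟨hm 3, (hm 3).1.1,
      fun e => n23 (e ▸ (hpat 0 2).2 (by decide)).symm, (hpat 0 3).2 (by decide)⟩
    exact n23 ((cell_collinear S P.left P.right P.far (hm 0) h02 h03 (fun e => n23 (e ▸ Commute.refl _))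
      (hp2 p hp hmp) (hp2 t ht hmt) hne).1 hc)
  set K := perpSet D a b p t with hK
  have hmK : ∀ j, m j ∈ K := fun j => ⟨hmp j, (hmt j).2⟩
  obtain ⟨F, _, _, pt, θ, L⟩ := exists_locModel S hp.1.1
  have M := L.M
  have hF := M.card
  obtain ⟨v, hv, hvi⟩ := exists_chain M m (fun j => (hmp j).2) hpat
  have hd := hasDual_four
  set μ := fun σ => pt (bvec hF v σ) with hμ
  obtain ⟨u, hu, hua⟩ := M.surj a (adj_symm P.left hp.1)
  obtain ⟨w, hw, hwb⟩ := M.surj b (adj_symm P.right hp.2)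
  have perp : ∀ {x : Fin 6 → F}, (∀ j, hf (v j) x = 0) → ∀ σ, hf (bvec hF v σ) x = 0 := fun {x} hx σ => by
    rw [bvec, hf_sum_left hF]
    exact Finset.sum_eq_zero fun j _ => by rw [hf_smul_left hF, hx, mul_zero]
  have hua' : ∀ j, hf (v j) u = 0 := fun j => (M.comm _ u (hvi j).1 hu).1 (by
    rw [(hvi j).2, hua]; exact (hm j).1.2.2.symm)
  have hwb' : ∀ j, hf (v j) w = 0 := fun j => (M.comm _ w (hvi j).1 hw).1 (by
    rw [(hvi j).2, hwb]; exact (hm j).2.2.2.symm)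
  have hμc : ∀ σ, σ ≠ 0 → μ σ ∈ cell D a b p := fun σ hσ => by
    have hi := bvec_iso hv hd hσ
    have h1 := M.mem _ hi
    refine ⟨mem_common_of P h1.1 ?_ ?_, h1⟩
    · rw [← hua]; exact (M.comm _ u hi hu).2 (perp hua' σ)
    · rw [← hwb]; exact (M.comm _ w hi hw).2 (perp hwb' σ)
  have hsingle : ∀ j, μ (Pi.single j 1) = m j := fun j => by rw [hμ]; simp only [bvec_single, (hvi j).2]
  have step : ∀ σ τ, σ ≠ 0 → τ ≠ 0 → μ σ ∈ K → μ τ ∈ K → μ (τ + bform τ σ • σ) ∈ K :=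
    fun σ τ h1 h2 k1 k2 => by
      have := perpSet_conj S k1 k2
      rwa [hμ, conj_bvec S hp.1.1 L hv hd h1 h2] at this
  have b0 : ∀ j : Fin 4, μ (Pi.single j 1) ∈ K := fun j => (hsingle j).symm ▸ hmK j
  have k1000 : μ ![1, 0, 0, 0] ∈ K := (show (![1, 0, 0, 0] : Fin 4 → ZMod 2) = Pi.single 0 1 by decide) ▸ b0 0
  have k0100 : μ ![0, 1, 0, 0] ∈ K := (show (![0, 1, 0, 0] : Fin 4 → ZMod 2) = Pi.single 1 1 by decide) ▸ b0 1
  have k0010 : μ ![0, 0, 1, 0] ∈ K := (show (![0, 0, 1, 0] : Fin 4 → ZMod 2) = Pi.single 2 1 by decide) ▸ b0 2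
  have k0001 : μ ![0, 0, 0, 1] ∈ K := (show (![0, 0, 0, 1] : Fin 4 → ZMod 2) = Pi.single 3 1 by decide) ▸ b0 3
  have mk : ∀ σ τ ρ : Fin 4 → ZMod 2, σ ≠ 0 → τ ≠ 0 → τ + bform τ σ • σ = ρ → μ σ ∈ K → μ τ ∈ K → μ ρ ∈ K :=
    fun σ τ ρ h1 h2 e k1 k2 => e ▸ step σ τ h1 h2 k1 k2
  have k1100 := mk ![0, 1, 0, 0] ![1, 0, 0, 0] ![1, 1, 0, 0] (by decide) (by decide) (by decide) k0100 k1000
  have k0110 := mk ![0, 0, 1, 0] ![0, 1, 0, 0] ![0, 1, 1, 0] (by decide) (by decide) (by decide) k0010 k0100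
  have k0011 := mk ![0, 0, 0, 1] ![0, 0, 1, 0] ![0, 0, 1, 1] (by decide) (by decide) (by decide) k0001 k0010
  have k1110 := mk ![0, 0, 1, 0] ![1, 1, 0, 0] ![1, 1, 1, 0] (by decide) (by decide) (by decide) k0010 k1100
  have k0111 := mk ![0, 0, 0, 1] ![0, 1, 1, 0] ![0, 1, 1, 1] (by decide) (by decide) (by decide) k0001 k0110
  have k1111 := mk ![0, 0, 0, 1] ![1, 1, 1, 0] ![1, 1, 1, 1] (by decide) (by decide) (by decide) k0001 k1110
  have hten : ∀ σ ∈ intervals, μ σ ∈ K := by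
    intro σ hσ
    simp only [intervals, List.mem_cons, List.not_mem_nil, or_false] at hσ
    rcases hσ with rfl | rfl | rfl | rfl | rfl | rfl | rfl | rfl | rfl | rfl <;> assumption
  obtain ⟨y, hyK, hyT⟩ : ∃ y ∈ K, y ∉ intervals.map μ := by
    by_contra h
    have hsub : K ⊆ ↑(intervals.map μ).toFinset := fun y hy => by
      rw [Finset.mem_coe, List.mem_toFinset]
      by_contra h'
      exact h ⟨y, hy, h'⟩
    have h1 := Set.ncard_le_ncard hsub (Finset.finite_toSet _)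
    rw [hK, P.perp_card S hp ht hpt, Set.ncard_coe_finset] at h1
    have h2 := (intervals.map μ).toFinset_card_le
    simp only [List.length_map, intervals, List.length_cons, List.length_nil] at h2
    simp only [intervals] at h1
    omega
  obtain ⟨uy, huy, rfl⟩ := M.surj y hyK.1.2
  obtain ⟨σ₁, σ₂, hne12, heq⟩ := Fintype.exists_ne_map_eq_of_card_lt
    (fun σ : Fin 4 → ZMod 2 => hf (bvec hF v σ) uy)
    (by rw [hF, Fintype.card_fun, ZMod.card, Fintype.card_fin]; norm_num)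
  set ρ := σ₁ + σ₂ with hρ
  have hρ0 : ρ ≠ 0 := fun e => hne12 (funext fun j => by
    have := congrFun e j
    simp only [hρ, Pi.add_apply, Pi.zero_apply] at this
    exact (CharTwo.add_eq_zero.1 this))
  have hzy : hf (bvec hF v ρ) uy = 0 := by
    rw [hρ, bvec_add, hf_add_left hF, heq, ← two_mul, two_eq_zero hF, zero_mul]
  have hzc := hμc ρ hρ0
  have hcy : Commute (μ ρ) (pt uy) := (M.comm _ _ (bvec_iso hv hd hρ0) huy).2 hzy
  obtain ⟨hlen, hnd⟩ := intervals_deg ρ hρ0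
  set N := intervals.filter fun σ => decide (bform σ ρ = 0 ∧ σ ≠ ρ) with hN
  have memN : ∀ σ ∈ N, σ ∈ intervals ∧ bform σ ρ = 0 ∧ σ ≠ ρ := fun σ h => by
    simpa [hN] using h
  have hNsub : (↑(N.map μ).toFinset : Set G) ⊆ K ∩ adj D (μ ρ) := by
    intro z hz
    rw [Finset.mem_coe, List.mem_toFinset, List.mem_map] at hz
    obtain ⟨σ, hσ, rfl⟩ := hz
    obtain ⟨h1, h2, h3⟩ := memN σ hσ
    exact ⟨hten σ h1, (hμc σ (intervals_ne σ h1)).1.1.1,
      fun e => h3 (bvec_pt_inj M hv hd (intervals_ne σ h1) hρ0 e),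
      ((bvec_comm M hv hd (intervals_ne σ h1) hρ0).2 h2).symm⟩
  have hNcard : (↑(N.map μ).toFinset : Set G).ncard = N.length := by
    rw [Set.ncard_coe_finset, List.toFinset_card_of_nodup, List.length_map]
    refine hnd.map_on fun x hx y hy e => ?_
    exact bvec_pt_inj M hv hd (intervals_ne x (memN x hx).1) (intervals_ne y (memN y hy).1) e
  have hρy : μ ρ ≠ pt uy ∧ (K ∩ adj D (μ ρ)).ncard ≤ N.length := by
    by_cases hin : ρ ∈ intervals
    · rw [hlen, if_pos hin]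
      exact ⟨fun e => hyT (e ▸ List.mem_map_of_mem hin),
        le_of_eq (P.perp_deg S hp ht (fun e => hpt (e ▸ Commute.refl p)) (hten ρ hin))⟩
    · rw [hlen, if_neg hin]
      have hzK : μ ρ ∉ K := fun hzK => by
        have h1 := Set.ncard_le_ncard hNsub (Set.toFinite _)
        rw [hNcard, hlen, if_neg hin, hK, P.perp_deg S hp ht (fun e => hpt (e ▸ Commute.refl p)) hzK] at h1
        omega
      exact ⟨fun e => hzK (e ▸ hyK), le_of_eq (P.perp_out S hp ht hpt hzc hzK)⟩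
  have hall := Set.eq_of_subset_of_ncard_le hNsub (hNcard ▸ hρy.2) (Set.toFinite _)
  have : pt uy ∈ (↑(N.map μ).toFinset : Set G) := by
    rw [hall]
    exact ⟨hyK, hyK.1.1.1.1, Ne.symm hρy.1, hcy⟩
  rw [Finset.mem_coe, List.mem_toFinset, List.mem_map] at this
  obtain ⟨σ, hσ, e⟩ := this
  exact hyT (e ▸ List.mem_map_of_mem (memN σ hσ).1)

/-- Members with the commuting pattern of the diagram Y332, centred at `d`. -/
structure YFrame (D : Set G) (a b c d e f g h i : G) : Prop where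
  far : FarPair D a b
  mem : ∀ j, (![i, h, d, e, f, g] : Fin 6 → G) j ∈ common D a b
  chain : ∀ j k, Commute ((![i, h, d, e, f, g] : Fin 6 → G) j) ((![i, h, d, e, f, g] : Fin 6 → G) k)
    ↔ pathMat 6 j k = 0
  c_mem : c ∈ adj D a
  bc : ¬ Commute b c
  c_chain : ∀ j, Commute c ((![i, h, d, e, f, g] : Fin 6 → G) j) ↔ j ≠ 2

/-- Frames exist. -/
theorem exists_frame (S : Fi22Setup D) : ∃ a b c d e f g h i, YFrame D a b c d e f g h i := by
  classical
  obtain ⟨-, a, ha, b, hb, hab, -⟩ := id S.type22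
  have P : FarPair D a b := ⟨ha, hb, hab⟩
  obtain ⟨g, hg⟩ : (common D a b).Nonempty := by
    rw [← Set.ncard_pos (Set.toFinite _), common_card S ha hb hab]; norm_num
  obtain ⟨i, hi⟩ : (cell D a b g).Nonempty := by
    rw [← Set.ncard_pos (Set.toFinite _), cell_ncard S ha hb hab hg]; norm_num
  have d12 := P.deg S hg hi
  obtain ⟨h, hh, hhn⟩ : ∃ h ∈ cell D a b g, h ∉ insert i (cell D a b g ∩ adj D i) := by
    by_contra hcon
    have h1 := Set.ncard_le_ncard (show cell D a b g ⊆ insert i (cell D a b g ∩ adj D i) from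
      fun x hx => by_contra fun hn => hcon ⟨x, hx, hn⟩) (Set.toFinite _)
    rw [cell_ncard S ha hb hab hg] at h1
    have := Set.ncard_insert_le i (cell D a b g ∩ adj D i)
    omega
  simp only [Set.mem_insert_iff, Set.mem_inter_iff, not_or, not_and] at hhn
  have nih : ¬ Commute i h := fun hc => hhn.2 hh ⟨hh.1.1.1, hhn.1, hc⟩
  have L3 := cell_common S ha hb hab hg hi hh (Ne.symm hhn.1)
  obtain ⟨d, hd, hdn⟩ : ∃ d ∈ cell D a b g ∩ adj D i, d ∉ cell D a b g ∩ adj D i ∩ adj D h := by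
    by_contra hcon
    have h1 := Set.ncard_le_ncard (show cell D a b g ∩ adj D i ⊆ cell D a b g ∩ adj D i ∩ adj D h from
      fun x hx => by_contra fun hn => hcon ⟨x, hx, hn⟩) (Set.toFinite _)
    omega
  have ndh : ¬ Commute d h := fun hc => hdn ⟨hd, hd.1.1.1.1, fun e => nih (e ▸ hd.2.2.2), hc.symm⟩
  obtain ⟨e, he, nde⟩ : ∃ e ∈ cell D a b g ∩ adj D i ∩ adj D h, ¬ Commute d e := by
    by_contra hcon
    have hsub : cell D a b g ∩ adj D i ∩ adj D h ⊆ cell D a b g ∩ adj D i ∩ adj D d := fun x hx =>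
      ⟨hx.1, hx.1.1.1.1.1, fun e => hdn (e ▸ hx), by_contra fun hc => hcon ⟨x, hx, hc⟩⟩
    have heq := Set.eq_of_subset_of_ncard_le hsub
      (by rw [cell_common S ha hb hab hg hi hd.1 (Ne.symm hd.2.2.1), L3]) (Set.toFinite _)
    obtain ⟨p, hp, r, hr, hne⟩ := Set.one_lt_ncard_iff_nontrivial.1 (show 1 < _ by rw [L3]; norm_num)
    have c1 := cell_collinear S ha hb hab hg hi hh (Ne.symm hhn.1) hp hr hne
    have c2 := cell_collinear S ha hb hab hg hi hd.1 (Ne.symm hd.2.2.1) (heq ▸ hp) (heq ▸ hr) hne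
    exact nih (c1.1 (c2.2 hd.2.2.2))
  -- the sixth member
  set K := perpSet D a b i h with hK
  have gK : g ∈ K := ⟨cell_symm hg hi, adj_symm hg.1.1 hh.2⟩
  have eK : e ∈ K := ⟨⟨he.1.1.1, he.1.2⟩, he.2⟩
  have hdc : d ∈ cell D a b i := ⟨hd.1.1, hd.2⟩
  have hdK : d ∉ K := fun h' => ndh h'.2.2.2.symm
  have hneg : e ≠ g := he.1.1.2.2.1
  have ceg : Commute e g := he.1.1.2.2.2.symm
  have six := P.perp_out S hi.1 hh.1 nih hdc hdK
  obtain ⟨f, hfK, nfe, nfg⟩ : ∃ f ∈ K ∩ adj D d, ¬ Commute f e ∧ ¬ Commute f g := by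
    by_contra hcon
    have hsub : K ∩ adj D d ⊆ ((K ∩ adj D e) ∪ (K ∩ adj D g)) \ {e} := by
      intro x hx
      have hxe : x ≠ e := fun e' => nde (e' ▸ hx.2.2.2)
      refine ⟨?_, hxe⟩
      by_cases hxg : x = g
      · exact Or.inl ⟨hx.1, hxg ▸ ⟨hg.1.1, hneg.symm, ceg⟩⟩
      rcases not_and_or.1 (not_exists.1 hcon x ∘ fun h' => ⟨hx, h'⟩) with h' | h'
      · exact Or.inl ⟨hx.1, hx.2.1, hxe, (not_not.1 h').symm⟩
      · exact Or.inr ⟨hx.1, hx.2.1, hxg, (not_not.1 h').symm⟩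
    have h1 := Set.ncard_le_ncard hsub (Set.toFinite _)
    rw [six, Set.ncard_sdiff_singleton_of_mem
      (show e ∈ (K ∩ adj D e) ∪ (K ∩ adj D g) from Or.inr ⟨eK, he.1.1.2⟩)] at h1
    have h2 := Set.ncard_union_le (K ∩ adj D e) (K ∩ adj D g)
    rw [P.perp_deg S hi.1 hh.1 (Ne.symm hhn.1) eK, P.perp_deg S hi.1 hh.1 (Ne.symm hhn.1) gK] at h2
    omega
  obtain ⟨fS, fi, fh⟩ := mem_perpSet.1 hfK.1
  have chain : ∀ j k, Commute ((![i, h, d, e, f, g] : Fin 6 → G) j) ((![i, h, d, e, f, g] : Fin 6 → G) k)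
      ↔ pathMat 6 j k = 0 := by
    have c1 : Commute i d := hd.2.2.2
    have c2 : Commute i e := he.1.2.2.2
    have c3 : Commute i f := fi.2.2
    have c4 : Commute i g := hi.2.2.2.symm
    have c5 : Commute h e := he.2.2.2
    have c6 : Commute h f := fh.2.2
    have c7 : Commute h g := hh.2.2.2.symm
    have c8 : Commute d f := hfK.2.2.2
    have c9 : Commute d g := hd.1.2.2.2.symm
    intro j k
    fin_cases j <;> fin_cases k <;>
      simp [pathMat, Commute.refl, c1, c2, c3, c4, c5, c6, c7, c8, c9, ceg, c1.symm, c2.symm, c3.symm, c4.symm,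
        c5.symm, c6.symm, c7.symm, c8.symm, c9.symm, ceg.symm, nih, ndh, nde, nfe, nfg,
        mt Commute.symm nih, mt Commute.symm ndh, mt Commute.symm nde, mt Commute.symm nfe, mt Commute.symm nfg]
  have hmem : ∀ j, (![i, h, d, e, f, g] : Fin 6 → G) j ∈ common D a b := by
    intro j; fin_cases j
    exacts [hi.1, hh.1, hd.1.1, he.1.1.1, fS, hg]
  -- the seventh member
  obtain ⟨F, _, _, pt, M⟩ := S.exists_model ha
  obtain ⟨v, hv, hvi⟩ := exists_chain M _ (fun j => (hmem j).1) chain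
  have hd6 := hasDual_six
  set σc : Fin 6 → ZMod 2 := Pi.single 3 1 + Pi.single 5 1 with hσc
  have hσ0 : σc ≠ 0 := by rw [hσc]; decide
  have hc_chain : ∀ j, Commute (pt (bvec M.card v σc)) ((![i, h, d, e, f, g] : Fin 6 → G) j) ↔ j ≠ 2 := by
    intro j
    rw [← (hvi j).2, ← bvec_single M.card v j, bvec_comm M hv hd6 hσ0 (by simp)]
    rw [hσc]
    revert j
    decide +kernel
  have hcm := M.mem _ (bvec_iso hv hd6 hσ0)
  refine ⟨a, b, pt (bvec M.card v σc), d, e, f, g, h, i, P, hmem, chain, hcm, fun hbc => ?_, hc_chain⟩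
  set c := pt (bvec M.card v σc) with hc
  have hcS := mem_common_of P hcm.1 hcm.2.2.symm hbc.symm
  have hci : Commute c i := (hc_chain 0).2 (by decide)
  have hch : Commute c h := (hc_chain 1).2 (by decide)
  have hcd : ¬ Commute c d := fun h' => ((hc_chain 2).1 h') rfl
  have hcg : Commute c g := (hc_chain 5).2 (by decide)
  have hce : Commute c e := (hc_chain 3).2 (by decide)
  have hne : c ≠ e := fun e' => by
    have h1 : Commute c f := (hc_chain 4).2 (by decide)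
    exact nfe (e' ▸ h1).symm
  have hcg' : c ≠ g := fun e' => hcd (e' ▸ hd.1.2.2.2)
  have hci' : c ≠ i := fun e' => hcd (e' ▸ hd.2.2.2)
  have hch' : c ≠ h := fun e' => nih (e' ▸ hci).symm
  exact nih ((cell_collinear S ha hb hab hg hi hh (Ne.symm hhn.1)
    ⟨⟨⟨hcS, hcm.1, hcg', hcg.symm⟩, hcm.1, hci', hci.symm⟩, hcm.1, hch', hch.symm⟩ he hne).1 hce)

end Cfsg.Agent.FischerM22
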