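/-
The relators of the presentation Y332 hold in a frame.

Main results (namespace `Cfsg.Agent.FischerM22`):
* `YFrame.rel_a` : `(a b c d e f h) ^ 9 = 1`;
* `YFrame.rel_b` : `(b c d e f g h) ^ 9 = 1`;
* `YFrame.rel_spider` : `(d c b d e f d h i) ^ 10 = 1`.
-/
import Cfsg.Agent.Lib.FischerM22.YFrame
import Cfsg.Agent.Lib.FischerM22.YFixed
import Cfsg.Agent.Lib.FischerM22.ConjData
import Cfsg.Agent.Lib.FischerM22.Base

set_option autoImplicit false

namespace Cfsg.Agent.FischerM22

open Cfsg.Agent.Unitary Cfsg.Agent.U62Cover Cfsg.Agent.ThreeTrans Cfsg.Agent.ThreeTransSU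
open Cfsg.Agent.FischerM22.ConjTable

variable {G : Type*} [Group G] [Finite G] {D : Set G}

/-- A relator of a commuting or a braiding pair of a certificate. -/
def relOK (C : Spec) (R : List ℕ) : Bool :=
  C.comm.any (fun p => R == [p.1, p.2, p.1, p.2]) || C.braid.any (fun p => R == [p.1, p.2, p.1, p.2, p.1, p.2])

theorem holds_mk (S : Fi22Setup D) {C : Spec} {n : ℕ} {s : ℕ → G} (hs : ∀ k, s k ∈ D)
    (hcomm : ∀ p ∈ C.comm, Commute (s p.1) (s p.2)) (hbr : ∀ p ∈ C.braid, ¬ Commute (s p.1) (s p.2))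
    (hrels : ∀ R ∈ C.rels, relOK C R = true ∨ (R.map s).prod = 1)
    (heqns : ∀ e ∈ C.eqns, crun s (s e.2.1) e.1 = crun s (s e.2.2.2) e.2.2.1) : Holds C n s := by
  refine ⟨fun k => mul_self S.cls.1 (hs k), hcomm, fun p hp => braid S.cls.1 (hs _) (hs _) (hbr p hp),
    fun R hR => (hrels R hR).elim (fun h => ?_) id, heqns⟩
  simp only [relOK, Bool.or_eq_true, List.any_eq_true, beq_iff_eq] at h
  rcases h with ⟨p, hp, rfl⟩ | ⟨p, hp, rfl⟩
  · simp only [List.map_cons, List.map_nil, List.prod_cons, List.prod_nil, mul_one]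
    rw [← mul_assoc (s p.1) (s p.2) (s p.1 * s p.2), ← (commute_iff_sq S.cls.1 (hs _) (hs _)).1 (hcomm p hp)]
    simp only [pow_two, mul_assoc]
  · simp only [List.map_cons, List.map_nil, List.prod_cons, List.prod_nil, mul_one]
    rw [← pow_three_of_not_commute S.cls.1 (hs _) (hs _) (hbr p hp)]
    simp only [pow_succ, pow_zero, one_mul, mul_assoc]

theorem common_conj_mem (S : Fi22Setup D) {a b k k' : G} (hk : k ∈ common D a b) (hk' : k' ∈ common D a b) :
    k * k' * k⁻¹ ∈ common D a b := by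
  have key : ∀ x, k ∈ adj D x → k' ∈ adj D x → k * k' * k⁻¹ ∈ adj D x := fun x h1 h2 => by
    have := (conj_adj S.grp.2.1 k x (k * k' * k⁻¹)).2 (by simpa [mul_assoc] using h2)
    rwa [show k * x * k⁻¹ = x by rw [← h1.2.2.eq, mul_inv_cancel_right]] at this
  exact ⟨key a hk.1 hk'.1, key b hk.2 hk'.2⟩

/-- An element of order two commuting with some members is a product of members commuting with them. -/
theorem support_of_commute (S : Fi22Setup D) {w : G} (hw : w * w = 1) (hw1 : w ≠ 1) (L : List G)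
    (hL : ∀ q ∈ L, q ∈ D) (hc : ∀ q ∈ L, Commute w q) :
    ∃ l : List G, l.Nodup ∧ l ≠ [] ∧ l.prod = w ∧ ∀ p ∈ l, p ∈ D ∧ ∀ q ∈ L, Commute p q := by
  obtain ⟨k, h1, h3, l, hn, hl, hD, hcl, rfl⟩ := involution_prod S hw hw1
  refine ⟨l, hn, fun e => by simp [e] at hl; omega, rfl, fun p hp => ⟨hD p hp, fun q hq => ?_⟩⟩
  exact (commute_components S hn (by omega) hD hcl (hL q hq) (hc q hq).symm p hp).symm

theorem prod_replicate_flatten (s : ℕ → G) (k : ℕ) (W : List ℕ) :
    (((List.replicate k W).flatten).map s).prod = (W.map s).prod ^ k := by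
  rw [List.map_flatten, List.prod_flatten, List.map_replicate, List.map_replicate, List.prod_replicate]

/-- Conjugation along a word of points of a binary chain. -/
theorem crun_model (S : Fi22Setup D) {a : G} (ha : a ∈ D) {F : Type*} [Field F] [Fintype F]
    {pt : (Fin 6 → F) → G} {θ : ↥(Loc D a) →* Cfsg.PSU 6 F 2} (L : LocModel D a pt θ)
    {v : Fin 6 → Fin 6 → F} (hv : BinChain L.M.card v) (s : ℕ → G) (σf : ℕ → Fin 6 → ZMod 2) :
    ∀ (W : List ℕ) (τ : Fin 6 → ZMod 2), τ ≠ 0 →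
      (∀ k ∈ W, σf k ≠ 0 ∧ s k = pt (bvec L.M.card v (σf k))) →
      crun s (pt (bvec L.M.card v τ)) W
        = pt (bvec L.M.card v (W.foldl (fun τ k => τ + bform τ (σf k) • σf k) τ))
  | [], _, _, _ => rfl
  | k :: W, τ, hτ, h => by
    obtain ⟨hk, ek⟩ := h k (List.mem_cons_self)
    show crun s (s k * _ * (s k)⁻¹) W = _
    rw [ek, conj_bvec S ha L hv hasDual_six hk hτ]
    refine crun_model S ha L hv s σf W _ (fun e => hk ?_) fun j hj => h j (List.mem_cons_of_mem _ hj)
    have hz : ∀ (c : ZMod 2) (x y : Fin 6 → ZMod 2), x + c • y = 0 → x = 0 ∨ x = y := fun c x y e => by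
      rcases (show ∀ x : ZMod 2, x = 0 ∨ x = 1 by decide) c with rfl | rfl
      · left; simpa using e
      · right; rw [one_smul] at e; exact CharTwo.add_eq_zero.1 e
    rcases hz _ _ _ e with h0 | h0
    · exact absurd h0 hτ
    · rw [h0, bform_self, zero_smul, add_zero] at e; exact e

variable {a b c d e f g h i : G}

namespace YFrame

variable (Q : YFrame D a b c d e f g h i)
include Q

omit [Finite G] in
theorem adjA (j : Fin 6) : (![i, h, d, e, f, g] : Fin 6 → G) j ∈ adj D a := (Q.mem j).1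

omit [Finite G] in
theorem adjB (j : Fin 6) : (![i, h, d, e, f, g] : Fin 6 → G) j ∈ adj D b := (Q.mem j).2

omit [Finite G] in
/-- All the commuting facts. -/
theorem facts : (Commute a c ∧ Commute a d ∧ Commute a e ∧ Commute a f ∧ Commute a g ∧ Commute a h ∧ Commute a i) ∧
    (Commute b d ∧ Commute b e ∧ Commute b f ∧ Commute b g ∧ Commute b h ∧ Commute b i) ∧
    (Commute c e ∧ Commute c f ∧ Commute c g ∧ Commute c h ∧ Commute c i) ∧
    (Commute d f ∧ Commute d g ∧ Commute d i) ∧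
    (Commute e g ∧ Commute e h ∧ Commute e i) ∧ (Commute f h ∧ Commute f i) ∧ (Commute g h ∧ Commute g i) ∧
    (¬ Commute a b ∧ ¬ Commute b c ∧ ¬ Commute c d ∧ ¬ Commute d e ∧ ¬ Commute d h ∧ ¬ Commute e f ∧
      ¬ Commute f g ∧ ¬ Commute h i) := by
  have A := fun j => (Q.adjA j).2.2
  have B := fun j => (Q.adjB j).2.2
  have C := fun j (hj : j ≠ 2) => (Q.c_chain j).2 hj
  have K := fun j k (h0 : pathMat 6 j k = 0) => (Q.chain j k).2 h0
  have N := fun j k (h1 : pathMat 6 j k = 1) (hh : Commute _ _) => one_ne_zero (h1 ▸ (Q.chain j k).1 hh)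
  exact ⟨⟨Q.c_mem.2.2, A 2, A 3, A 4, A 5, A 1, A 0⟩, ⟨B 2, B 3, B 4, B 5, B 1, B 0⟩,
    ⟨C 3 (by decide), C 4 (by decide), C 5 (by decide), C 1 (by decide), C 0 (by decide)⟩,
    ⟨K 2 4 (by decide), K 2 5 (by decide), K 2 0 (by decide)⟩,
    ⟨K 3 5 (by decide), K 3 1 (by decide), K 3 0 (by decide)⟩, ⟨K 4 1 (by decide), K 4 0 (by decide)⟩,
    ⟨K 5 1 (by decide), K 5 0 (by decide)⟩,
    Q.far.far, Q.bc, fun hh => (Q.c_chain 2).1 hh rfl, N 2 3 (by decide), N 2 1 (by decide),
    N 3 4 (by decide), N 4 5 (by decide), N 1 0 (by decide)⟩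

omit [Finite G] in
theorem memD : a ∈ D ∧ b ∈ D ∧ c ∈ D ∧ d ∈ D ∧ e ∈ D ∧ f ∈ D ∧ g ∈ D ∧ h ∈ D ∧ i ∈ D :=
  ⟨Q.far.left, Q.far.right, Q.c_mem.1, (Q.adjA 2).1, (Q.adjA 3).1, (Q.adjA 4).1, (Q.adjA 5).1, (Q.adjA 1).1,
    (Q.adjA 0).1⟩

theorem c_vector {F : Type*} [Field F] [Fintype F] {pt : (Fin 6 → F) → G} (M : PointModel D a pt)
    {v : Fin 6 → Fin 6 → F} (hv : BinChain M.card v)
    (hvi : ∀ j, Iso (v j) ∧ pt (v j) = (![i, h, d, e, f, g] : Fin 6 → G) j) :
    c = pt (bvec M.card v (Pi.single 3 1 + Pi.single 5 1)) :=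
  pt_eq_dual M hv Q.c_mem (j₀ := 2) (by decide +kernel) (fun j => (hvi j).1)
    fun j hj => (hvi j).2.symm ▸ (Q.c_chain j).2 hj

/-- The one member of `common a b` commuting with `h, d, e, f` fails to commute with `i`, `g` and `c`. -/
theorem perp_four (S : Fi22Setup D) {p : G} (hp : p ∈ common D a b) (ph : Commute p h) (pd : Commute p d)
    (pe : Commute p e) (pf : Commute p f) : ¬ Commute p i ∧ ¬ Commute p g ∧ ¬ Commute p c := by
  obtain ⟨F, _, _, pt, θ, L⟩ := exists_locModel S Q.far.left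
  have M := L.M
  obtain ⟨v, hv, hvi⟩ := exists_chain M _ Q.adjA Q.chain
  have hd := hasDual_six
  have hs : ∀ j : Fin 6, pt (bvec M.card v (Pi.single j 1)) ∈ common D a b := fun j => by
    rw [bvec_single, (hvi j).2]; exact Q.mem j
  have step : ∀ σ τ ρ : Fin 6 → ZMod 2, σ ≠ 0 → τ ≠ 0 → τ + bform τ σ • σ = ρ →
      pt (bvec M.card v σ) ∈ common D a b → pt (bvec M.card v τ) ∈ common D a b →
      pt (bvec M.card v ρ) ∈ common D a b := fun σ τ ρ h1 h2 e0 k1 k2 => by
    have := common_conj_mem S k1 k2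
    rwa [conj_bvec S Q.far.left L hv hd h1 h2, e0] at this
  have t2 := step (Pi.single 1 1) (Pi.single 0 1) ![1, 1, 0, 0, 0, 0] (by decide) (by decide) (by decide +kernel) (hs 1) (hs 0)
  have t3 := step (Pi.single 2 1) _ ![1, 1, 1, 0, 0, 0] (by decide) (by decide) (by decide +kernel) (hs 2) t2
  have t4 := step (Pi.single 3 1) _ ![1, 1, 1, 1, 0, 0] (by decide) (by decide) (by decide +kernel) (hs 3) t3
  have t5 := step (Pi.single 4 1) _ ![1, 1, 1, 1, 1, 0] (by decide) (by decide) (by decide +kernel) (hs 4) t4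
  have t6 := step (Pi.single 5 1) _ ![1, 1, 1, 1, 1, 1] (by decide) (by decide) (by decide +kernel) (hs 5) t5
  have hone : (![1, 1, 1, 1, 1, 1] : Fin 6 → ZMod 2) ≠ 0 := by decide
  have hc : ∀ j : Fin 6, Commute (pt (bvec M.card v ![1, 1, 1, 1, 1, 1])) ((![i, h, d, e, f, g] : Fin 6 → G) j) ↔
      bform ![1, 1, 1, 1, 1, 1] (Pi.single j 1) = 0 := fun j => by
    rw [← (hvi j).2, ← bvec_single M.card v j, bvec_comm M hv hd hone (by simp)]
  have he := Q.far.a4_unique S ![h, d, e, f] (fun j => by fin_cases j; exacts [Q.mem 1, Q.mem 2, Q.mem 3, Q.mem 4])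
    (fun j k => by
      have h4 : ∀ j k : Fin 4, pathMat 4 j k = pathMat 6 ⟨j.val + 1, by omega⟩ ⟨k.val + 1, by omega⟩ := by decide
      rw [h4, ← Q.chain]
      fin_cases j <;> fin_cases k <;> rfl)
    hp t6 (fun j => by fin_cases j; exacts [ph, pd, pe, pf])
    (fun j => by
      fin_cases j
      exacts [(hc 1).2 (by decide +kernel), (hc 2).2 (by decide +kernel), (hc 3).2 (by decide +kernel),
        (hc 4).2 (by decide +kernel)])
  subst he
  refine ⟨fun hh => ?_, fun hh => ?_, fun hh => ?_⟩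
  · exact absurd ((hc 0).1 hh) (by decide +kernel)
  · exact absurd ((hc 5).1 hh) (by decide +kernel)
  · rw [Q.c_vector M hv hvi, bvec_comm M hv hd hone (by decide)] at hh
    exact absurd hh (by decide +kernel)

theorem rel_a (S : Fi22Setup D) : (a * b * c * d * e * f * h) ^ 9 = 1 := by
  obtain ⟨⟨ac, ad, ae, af, ag, ah, ai⟩, ⟨bd, be, bf, bg, bh, bi⟩, ⟨ce, cf, cg, ch, ci⟩, ⟨df, dg, di⟩,
    ⟨eg, eh, ei⟩, ⟨fh, fi⟩, ⟨gh, gi⟩, nab, nbc, ncd, nde, ndh, nef, nfg, nhi⟩ := Q.facts
  obtain ⟨aD, bD, cD, dD, eD, fD, gD, hD, iD⟩ := Q.memD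
  let s : ℕ → G := fun k => [a, b, c, d, e, f, h].getD k a
  have hs : ∀ k, s k ∈ D := fun k => by
    rcases k with _ | _ | _ | _ | _ | _ | _ | k <;> simp [s, *]
  have H : Holds e7a 7 s := holds_mk S hs
    (by simp [e7a_comm, s, *, Commute.refl, ac.symm, ad.symm, ae.symm, af.symm, ah.symm, bd.symm, be.symm, bf.symm, bh.symm,
      ce.symm, cf.symm, ch.symm, df.symm, eh.symm, fh.symm])
    (by simp [e7a_braid, s, *, mt Commute.symm nab, mt Commute.symm nbc, mt Commute.symm ncd, mt Commute.symm nde,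
      mt Commute.symm ndh, mt Commute.symm nef])
    (fun R hR => Or.inl (by revert R; decide +kernel)) (by simp [e7a_eqns])
  set w := (a * b * c * d * e * f * h) ^ 9 with hw
  have hfix : ∀ k < 7, Commute w (s k) := fun k hk => by
    have := fixed_of_check H e7a_check hk
    rw [prod_replicate_flatten] at this
    simpa [hw, s, mul_assoc] using this
  have wa : Commute w a := hfix 0 (by norm_num)
  have wc : Commute w c := hfix 2 (by norm_num)
  have wd : Commute w d := hfix 3 (by norm_num)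
  have we : Commute w e := hfix 4 (by norm_num)
  have wf : Commute w f := hfix 5 (by norm_num)
  have wh : Commute w h := hfix 6 (by norm_num)
  have wg : Commute w g := by
    obtain ⟨F, _, _, pt, θ, L⟩ := exists_locModel S aD
    obtain ⟨v, hv, hvi⟩ := exists_chain L.M _ Q.adjA Q.chain
    have := fixed_extend L S aD wa hv (fun j => (hvi j).1) (by rw [(hvi 2).2]; exact wd)
      (by rw [(hvi 3).2]; exact we) (by rw [← Q.c_vector L.M hv hvi]; exact wc)
    rwa [(hvi 5).2] at this
  have hw2 : w * w = 1 := sq_one_of_five S aD wa _ Q.adjA Q.chain fun j hj => by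
    fin_cases j
    exacts [absurd rfl hj, wh, wd, we, wf, wg]
  by_contra hw1
  obtain ⟨l, -, hne, -, hl⟩ := support_of_commute S hw2 hw1 [a, b, c, d, e, f, h]
    (by simp [*]) (fun q hq => by
      obtain ⟨k, hk, rfl⟩ := List.mem_iff_getElem.1 hq
      have := hfix k hk
      simp only [s, List.getD_eq_getElem?_getD, List.getElem?_eq_getElem hk, Option.getD_some] at this
      exact this)
  obtain ⟨p, hp⟩ := List.exists_mem_of_ne_nil l hne
  obtain ⟨hpD, hpc⟩ := hl p hp
  have pa : Commute p a := hpc a (by simp)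
  have pb : Commute p b := hpc b (by simp)
  exact (Q.perp_four S (mem_common_of Q.far hpD pa pb) (hpc h (by simp)) (hpc d (by simp)) (hpc e (by simp))
    (hpc f (by simp))).2.2 (hpc c (by simp))

theorem rel_b (S : Fi22Setup D) : (b * c * d * e * f * g * h) ^ 9 = 1 := by
  obtain ⟨⟨ac, ad, ae, af, ag, ah, ai⟩, ⟨bd, be, bf, bg, bh, bi⟩, ⟨ce, cf, cg, ch, ci⟩, ⟨df, dg, di⟩,
    ⟨eg, eh, ei⟩, ⟨fh, fi⟩, ⟨gh, gi⟩, nab, nbc, ncd, nde, ndh, nef, nfg, nhi⟩ := Q.facts
  obtain ⟨aD, bD, cD, dD, eD, fD, gD, hD, iD⟩ := Q.memD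
  let s : ℕ → G := fun k => [b, c, d, e, f, g, h].getD k b
  have hs : ∀ k, s k ∈ D := fun k => by
    rcases k with _ | _ | _ | _ | _ | _ | _ | k <;> simp [s, *]
  have H : Holds e7b 7 s := holds_mk S hs
    (by simp [e7b_comm, s, *, Commute.refl, bd.symm, be.symm, bf.symm, bg.symm, bh.symm, ce.symm, cf.symm, cg.symm, ch.symm,
      df.symm, dg.symm, eg.symm, eh.symm, fh.symm, gh.symm])
    (by simp [e7b_braid, s, *, mt Commute.symm nbc, mt Commute.symm ncd, mt Commute.symm nde,
      mt Commute.symm ndh, mt Commute.symm nef, mt Commute.symm nfg])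
    (fun R hR => Or.inl (by revert R; decide +kernel)) (by simp [e7b_eqns])
  set w := (b * c * d * e * f * g * h) ^ 9 with hw
  have hfix : ∀ k < 7, Commute w (s k) := fun k hk => by
    have := fixed_of_check H e7b_check hk
    rw [prod_replicate_flatten] at this
    simpa [hw, s, mul_assoc] using this
  have hw2 : w * w = 1 := sq_one_of_five S bD (hfix 0 (by norm_num)) _ Q.adjB Q.chain fun j hj => by
    fin_cases j
    exacts [absurd rfl hj, hfix 6 (by norm_num), hfix 2 (by norm_num), hfix 3 (by norm_num), hfix 4 (by norm_num),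
      hfix 5 (by norm_num)]
  by_contra hw1
  obtain ⟨l, -, hne, -, hl⟩ := support_of_commute S hw2 hw1 [b, c, d, e, f, g, h]
    (by simp [*]) (fun q hq => by
      obtain ⟨k, hk, rfl⟩ := List.mem_iff_getElem.1 hq
      have := hfix k hk
      simp only [s, List.getD_eq_getElem?_getD, List.getElem?_eq_getElem hk, Option.getD_some] at this
      exact this)
  obtain ⟨p, hp⟩ := List.exists_mem_of_ne_nil l hne
  obtain ⟨hpD, hpc⟩ := hl p hp
  have pb : Commute p b := hpc b (by simp)
  have pc : Commute p c := hpc c (by simp)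
  have pd : Commute p d := hpc d (by simp)
  have pe : Commute p e := hpc e (by simp)
  have pf : Commute p f := hpc f (by simp)
  have pg : Commute p g := hpc g (by simp)
  have ph : Commute p h := hpc h (by simp)
  by_cases pa : Commute p a
  · exact (Q.perp_four S (mem_common_of Q.far hpD pa pb) ph pd pe pf).2.1 pg
  -- in the model of c the members a and p span a line orthogonal to its own radical
  obtain ⟨F, _, _, pt, M⟩ := S.exists_model cD
  have hF := M.card
  have mem : ∀ {x : G}, x ∈ D → x ≠ c → Commute c x → ∃ u, Iso u ∧ pt u = x := fun hx hn hc =>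
    M.surj _ ⟨hx, hn, hc⟩
  obtain ⟨vf, hvf, ef'⟩ := mem fD (fun e' => nbc (e' ▸ bf)) cf
  obtain ⟨ve, hve, ee, hfe⟩ := next_vec M (show e ∈ adj D c from ⟨eD, fun e' => nbc (e' ▸ be), ce⟩) hvf
    (by rw [ef']; exact mt Commute.symm nef)
  obtain ⟨vg, hvg, eg', hfg⟩ := next_vec M (show g ∈ adj D c from ⟨gD, fun e' => nbc (e' ▸ bg), cg⟩) hvf
    (by rw [ef']; exact nfg)
  obtain ⟨vh, hvh, eh'⟩ := mem hD (fun e' => nbc (e' ▸ bh)) ch
  obtain ⟨vi, hvi, ei'⟩ := mem iD (fun e' => nbc (e' ▸ bi)) ci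
  obtain ⟨va, hva, ea'⟩ := mem aD (Ne.symm Q.c_mem.2.1) ac.symm
  obtain ⟨vp, hvp, ep'⟩ := mem hpD (fun e' => nbc (e' ▸ pb).symm) pc.symm
  have z0 : ∀ {x y : G} {u w : Fin 6 → F}, Iso u → Iso w → pt u = x → pt w = y → Commute x y → hf u w = 0 :=
    fun hu hw ex ey hc => (M.comm _ _ hu hw).1 (ex.symm ▸ ey.symm ▸ hc)
  have nz : ∀ {x y : G} {u w : Fin 6 → F}, Iso u → Iso w → pt u = x → pt w = y → ¬ Commute x y → hf u w ≠ 0 :=
    fun hu hw ex ey hc e0 => hc (ex ▸ ey ▸ (M.comm _ _ hu hw).2 e0)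
  have hef : hf ve vf = 1 := hf_eq_one_symm hF hfe
  have hgf : hf vg vf = 1 := hf_eq_one_symm hF hfg
  have k_eg := z0 hve hvg ee eg' eg
  have k_eh := z0 hve hvh ee eh' eh
  have k_ea := z0 hve hva ee ea' ae.symm
  have k_ep := z0 hve hvp ee ep' pe.symm
  have k_ei := z0 hve hvi ee ei' ei
  have k_gh := z0 hvg hvh eg' eh' gh
  have k_ga := z0 hvg hva eg' ea' ag.symm
  have k_gp := z0 hvg hvp eg' ep' pg.symm
  have k_gi := z0 hvg hvi eg' ei' gi
  have k_fh := z0 hvf hvh ef' eh' fh
  have k_fa := z0 hvf hva ef' ea' af.symm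
  have k_fp := z0 hvf hvp ef' ep' pf.symm
  have k_fi := z0 hvf hvi ef' ei' fi
  have k_ha := z0 hvh hva eh' ea' ah.symm
  have k_hp := z0 hvh hvp eh' ep' ph.symm
  have n_ap := nz hva hvp ea' ep' (mt Commute.symm pa)
  have n_pa := nz hvp hva ep' ea' pa
  have n_hi := nz hvh hvi eh' ei' nhi
  have sy := fun {u w : Fin 6 → F} (h0 : hf u w = 0) => (hf_eq_zero_symm hF).1 h0
  have hz : ve + vg ≠ 0 := fun h0 => nde (by
    have e1 : vg = ve := by
      have two : vg + vg = 0 := by rw [← two_smul F, two_eq_zero hF, zero_smul]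
      exact (add_right_cancel (h0.trans two.symm)).symm
    have e2 : g = e := by rw [← eg', ← ee, e1]
    exact e2 ▸ dg)
  set u : Fin 6 → Fin 6 → F := ![ve, vg, vh, va, vp, vf] with hu
  have hli : LinearIndependent F u := by
    rw [Fintype.linearIndependent_iff]
    intro co hco
    simp only [Fin.sum_univ_six, hu, Matrix.cons_val] at hco
    have pair : ∀ w, co 0 * hf ve w + co 1 * hf vg w + co 2 * hf vh w + co 3 * hf va w + co 4 * hf vp w
        + co 5 * hf vf w = 0 := fun w => by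
      have := congrArg (fun z => hf z w) hco
      simpa only [hf_add_left hF, hf_smul_left hF, hf_zero_left hF] using this
    have h4 : co 4 = 0 := by
      have := pair va
      rw [k_ea, k_ga, k_ha, hva.2, k_fa] at this
      simpa [n_pa] using this
    have h3 : co 3 = 0 := by
      have := pair vp
      rw [k_ep, k_gp, k_hp, hvp.2, k_fp] at this
      simpa [n_ap] using this
    have h2 : co 2 = 0 := by
      have := pair vi
      rw [k_ei, k_gi, k_fi, h3, h4] at this
      simpa [n_hi] using this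
    have h5 : co 5 = 0 := by
      have := pair ve
      rw [hve.2, sy k_eg, h2, h3, h4, hfe] at this
      simpa using this
    have h01 : co 0 + co 1 = 0 := by
      have := pair vf
      rw [hef, hgf, h2, h3, h4, h5] at this
      simpa using this
    have h1 : co 1 = co 0 := by linear_combination h01 - (co 0) * two_eq_zero hF
    rw [h1, h2, h3, h4, h5] at hco
    simp only [zero_smul, add_zero] at hco
    rw [← smul_add] at hco
    have h0 : co 0 = 0 := (smul_eq_zero.1 hco).resolve_right hz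
    intro j
    fin_cases j
    exacts [h0, h1.trans h0, h2, h3, h4, h5]
  obtain ⟨z, hz1⟩ := exists_hf_one hF hz
  have hmem : z ∈ Submodule.span F (Set.range u) :=
    (hli.span_eq_top_of_card_eq_finrank (by simp)).symm ▸ Submodule.mem_top
  obtain ⟨co, rfl⟩ := (Submodule.mem_span_range_iff_exists_fun F).1 hmem
  rw [hf_sum_left hF, Finset.sum_eq_zero] at hz1
  · exact zero_ne_one hz1
  intro j _
  rw [hf_smul_left hF, hf_add_right hF]
  fin_cases j <;> simp [hu, hve.2, hvg.2, k_eg, sy k_eg, sy k_eh, sy k_gh, sy k_ea, sy k_ga, sy k_ep, sy k_gp,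
    hfe, hfg, CharTwo.add_self_eq_zero, ← two_mul, two_eq_zero hF]

theorem rel_spider (S : Fi22Setup D) : (d * c * b * d * e * f * d * h * i) ^ 10 = 1 := by
  classical
  obtain ⟨⟨ac, ad, ae, af, ag, ah, ai⟩, ⟨bd, be, bf, bg, bh, bi⟩, ⟨ce, cf, cg, ch, ci⟩, ⟨df, dg, di⟩,
    ⟨eg, eh, ei⟩, ⟨fh, fi⟩, ⟨gh, gi⟩, nab, nbc, ncd, nde, ndh, nef, nfg, nhi⟩ := Q.facts
  obtain ⟨aD, bD, cD, dD, eD, fD, gD, hD, iD⟩ := Q.memD
  let s : ℕ → G := fun k => [b, c, d, e, f, h, i].getD k b
  have hs : ∀ k, s k ∈ D := fun k => by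
    rcases k with _ | _ | _ | _ | _ | _ | _ | k <;> simp [s, *]
  -- the reflection of the highest root
  set W0 : List ℕ := [2, 3, 4, 5, 2, 3, 6, 5, 2, 1] with hW0
  set W1 : List ℕ := W0.reverse ++ [1] ++ W0 with hW1
  set r := crun s (s 1) W0 with hr
  obtain ⟨F, _, _, pt, θ, L⟩ := exists_locModel S aD
  have M := L.M
  obtain ⟨v, hv, hvi⟩ := exists_chain M _ Q.adjA Q.chain
  let σf : ℕ → Fin 6 → ZMod 2 := fun k =>
    [0, Pi.single 3 1 + Pi.single 5 1, Pi.single 2 1, Pi.single 3 1, Pi.single 4 1, Pi.single 1 1, Pi.single 0 1].getD k 0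
  have hσ : ∀ k, 1 ≤ k → k < 7 → σf k ≠ 0 ∧ s k = pt (bvec M.card v (σf k)) := by
    intro k h1 h7
    interval_cases k
    · exact ⟨by decide, Q.c_vector M hv hvi⟩
    all_goals
      refine ⟨by decide, ?_⟩
      simp only [σf, s, List.getD_cons_succ, List.getD_cons_zero, bvec_single]
      first
        | exact (hvi 2).2.symm
        | exact (hvi 3).2.symm
        | exact (hvi 4).2.symm
        | exact (hvi 1).2.symm
        | exact (hvi 0).2.symm
  have hρ : W0.foldl (fun τ k => τ + bform τ (σf k) • σf k) (σf 1) = ![1, 0, 1, 0, 1, 0] := by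
    decide +kernel
  have hrv : r = pt (bvec M.card v ![1, 0, 1, 0, 1, 0]) := by
    rw [hr, (hσ 1 le_rfl (by norm_num)).2, crun_model S aD L hv s σf W0 _ (hσ 1 le_rfl (by norm_num)).1
      (fun k hk => by
        have : 1 ≤ k ∧ k < 7 := by revert hk; revert k; decide
        exact hσ k this.1 this.2), hρ]
  have hρ0 : (![1, 0, 1, 0, 1, 0] : Fin 6 → ZMod 2) ≠ 0 := by decide
  have hrm : r ∈ adj D a := hrv ▸ M.mem _ (bvec_iso hv hasDual_six hρ0)
  have hrc : ∀ j : Fin 6, j ≠ 5 → Commute r ((![i, h, d, e, f, g] : Fin 6 → G) j) := fun j hj => by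
    rw [← (hvi j).2, ← bvec_single M.card v j, hrv, bvec_comm M hv hasDual_six hρ0 (by simp)]
    revert j
    decide +kernel
  have nrb : ¬ Commute b r := fun hh =>
    (Q.perp_four S (mem_common_of Q.far hrm.1 hrm.2.2.symm hh.symm) (hrc 1 (by decide)) (hrc 2 (by decide))
      (hrc 3 (by decide)) (hrc 4 (by decide))).1 (hrc 0 (by decide))
  have hsq : ∀ k, s k * s k = 1 := fun k => mul_self S.cls.1 (hs k)
  have hr1 : (W1.map s).prod = r := by
    rw [hr, crun_eq, hW1, List.map_append, List.map_append, List.prod_append, List.prod_append,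
      rev_prod hsq W0]
    simp only [List.map_cons, List.map_nil, List.prod_cons, List.prod_nil, mul_one, inv_inv]
  have hrr : r⁻¹ = r := inv_eq S.cls.1 hrm.1
  have hbb : b⁻¹ = b := inv_eq S.cls.1 bD
  have H : Holds y222 7 s := holds_mk S hs
    (by simp [y222_comm, s, *, Commute.refl, bd.symm, be.symm, bf.symm, bh.symm, bi.symm, ce.symm, cf.symm, ch.symm, ci.symm,
      df.symm, di.symm, eh.symm, ei.symm, fh.symm, fi.symm])
    (by simp [y222_braid, s, *, mt Commute.symm nbc, mt Commute.symm ncd, mt Commute.symm nde,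
      mt Commute.symm ndh, mt Commute.symm nef, mt Commute.symm nhi])
    (fun R hR => by
      have hd' : relOK y222 R = true ∨ R = ([0] ++ W1) ++ ([0] ++ W1) ++ ([0] ++ W1) := by
        revert R; rw [hW1, hW0]; decide +kernel
      rcases hd' with h0 | h0
      · exact Or.inl h0
      · refine Or.inr ?_
        rw [h0]
        simp only [List.map_append, List.prod_append, List.map_cons, List.map_nil, List.prod_cons, List.prod_nil,
          mul_one, hr1]
        have := pow_three_of_not_commute S.cls.1 bD hrm.1 nrb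
        show b * r * (b * r) * (b * r) = 1
        rw [← this, pow_three', mul_assoc])
    (fun q hq => by
      have hq' : q = (W0 ++ [0], 1, W1, 0) := by
        rw [y222_eqns] at hq; rw [hW1, hW0]; simpa using hq
      subst hq'
      show crun s (s 1) (W0 ++ [0]) = crun s (s 0) W1
      rw [show crun s (s 1) (W0 ++ [0]) = s 0 * r * (s 0)⁻¹ by rw [hr]; simp [crun, List.foldl_append],
        crun_eq s W1, show W1.reverse = W1 by rw [hW1, hW0]; decide, hr1]
      show b * r * b⁻¹ = r * b * r⁻¹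
      rw [hrr, hbb]
      exact braid S.cls.1 bD hrm.1 nrb)
  set x := d * c * b * d * e * f * d * h * i with hx
  have hfix : ∀ k < 7, Commute (x ^ 10) (s k) := fun k hk => by
    have := fixed_of_check H y222_check hk
    rw [prod_replicate_flatten] at this
    simpa [hx, s, mul_assoc] using this
  have hu2 : x ^ 10 * x ^ 10 = 1 := sq_one_of_five S bD (hfix 0 (by norm_num))
    (fun j => (![i, h, d, e, f, g] : Fin 6 → G) j.rev) (fun j => Q.adjB j.rev)
    (fun j k => by
      rw [Q.chain]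
      have : ∀ j k : Fin 6, pathMat 6 j.rev k.rev = pathMat 6 j k := by decide
      rw [this])
    (fun j hj => by
      fin_cases j
      exacts [absurd rfl hj, hfix 4 (by norm_num), hfix 3 (by norm_num), hfix 2 (by norm_num), hfix 5 (by norm_num),
        hfix 6 (by norm_num)])
  by_contra hw1
  obtain ⟨l, hn, hne, hprod, hl⟩ := support_of_commute S hu2 hw1 [b, c, d, e, f, h, i]
    (by simp [*]) (fun q hq => by
      obtain ⟨k, hk, rfl⟩ := List.mem_iff_getElem.1 hq
      have := hfix k hk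
      simp only [s, List.getD_eq_getElem?_getD, List.getElem?_eq_getElem hk, Option.getD_some] at this
      exact this)
  obtain ⟨F', _, _, pt', M'⟩ := S.exists_model bD
  obtain ⟨v', hv', hvi'⟩ := exists_chain M' _ Q.adjB Q.chain
  have hall : ∀ p ∈ l, p = pt' (bvec M'.card v' ![1, 0, 1, 0, 1, 0]) := fun p hp => by
    obtain ⟨hpD, hpc⟩ := hl p hp
    refine pt_eq_dual M' hv' ⟨hpD, fun e' => nbc (e' ▸ hpc c (by simp)), (hpc b (by simp)).symm⟩ (j₀ := 5)
      (by decide +kernel) (fun j => (hvi' j).1) fun j hj => ?_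
    rw [(hvi' j).2]
    fin_cases j
    exacts [hpc i (by simp), hpc h (by simp), hpc d (by simp), hpc e (by simp), hpc f (by simp), absurd rfl hj]
  match l, hn, hne, hprod, hl, hall with
  | [], _, hne, _, _, _ => exact hne rfl
  | [p], _, _, hprod, hl, _ =>
    refine sq_ne_member S (hl p (by simp)).1 (g := x ^ 5) ?_
    rw [← pow_add]
    simpa using hprod.symm
  | p :: q :: l', hn, _, _, _, hall =>
    exact (List.nodup_cons.1 hn).1 (by rw [hall p (by simp), ← hall q (by simp)]; simp)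

end YFrame

end Cfsg.Agent.FischerM22
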