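/-
Uniqueness of the class of 3-transpositions in a group of type M(22).

Main results (namespace `Cfsg.Agent.FischerM22`):
* `exists_bad_products` : for `m = 2, 3` two products of `m` members have product of order above three;
* `class_unique` : a class of 3-transpositions equals `D`.
-/
import Cfsg.Agent.Lib.FischerM22.Involutions

set_option autoImplicit false

namespace Cfsg.Agent.FischerM22

open scoped Matrix
open Cfsg.Agent.Unitary Cfsg.Agent.U62Cover Cfsg.Agent.ThreeTrans Cfsg.Agent.ThreeTransSU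

section Vectors

variable {F : Type*} [Field F] [Fintype F]

theorem hf_single (hF : Fintype.card F = 4) (i j : Fin 6) :
    hf (Pi.single i (1 : F)) (Pi.single j 1) = if i = j then 1 else 0 := by
  split_ifs with h
  · subst h; exact (single_orthonormal (card_sq hF) 6).1 i
  · exact (single_orthonormal (card_sq hF) 6).2 h

/-- The sum of two basis vectors. -/
def swapVec (F : Type*) [Field F] (i j : Fin 6) : Fin 6 → F := Pi.single i 1 + Pi.single j 1

theorem swapVec_iso (hF : Fintype.card F = 4) {i j : Fin 6} (h : i ≠ j) : Iso (swapVec F i j) := by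
  refine ⟨fun h0 => ?_, ?_⟩
  · have := congrFun h0 i
    simp [swapVec, h] at this
  · simp only [swapVec, hf_add_left hF, hf_add_right hF, hf_single hF, if_pos, if_neg h, if_neg h.symm]
    linear_combination two_eq_zero hF

theorem act_swapVec (hF : Fintype.card F = 4) {i j : Fin 6} (h : i ≠ j) (k : Fin 6) :
    act (tv hF (swapVec F i j)) (Pi.single k (1 : F)) = Pi.single (Equiv.swap i j k) 1 := by
  rw [act_tv hF (swapVec_iso hF h).2]
  simp only [swapVec, hf_add_right hF, hf_single hF]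
  by_cases h1 : k = i
  · subst h1
    rw [Equiv.swap_apply_left, if_pos rfl, if_neg h, add_zero, one_smul, ← add_assoc, vadd_self hF, zero_add]
  by_cases h2 : k = j
  · subst h2
    rw [Equiv.swap_apply_right, if_neg h1, if_pos rfl, zero_add, one_smul, add_comm (Pi.single i 1),
      ← add_assoc, vadd_self hF, zero_add]
  rw [Equiv.swap_apply_of_ne_of_ne h1 h2, if_neg h1, if_neg h2, add_zero, zero_smul, add_zero]

end Vectors

variable {G : Type*} [Group G] [Finite G] {D : Set G}

theorem exists_bad_products (S : Fi22Setup D) {m : ℕ} (h2 : 2 ≤ m) (h3 : m ≤ 3) :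
    ∃ x y : G, IsProd D m x ∧ IsProd D m y ∧ (x * y) ^ 2 ≠ 1 ∧ (x * y) ^ 3 ≠ 1 := by
  obtain ⟨e, he, -⟩ := S.two_members
  obtain ⟨F, _, _, pt, θ, L⟩ := exists_locModel S he
  have M := L.M
  have hF := M.card
  let P : Fin 6 → Fin 6 → G := fun i j => pt (swapVec F i j)
  have hI : ∀ {i j : Fin 6}, i ≠ j → Iso (swapVec F i j) := fun h => swapVec_iso hF h
  have hA : ∀ {i j : Fin 6}, i ≠ j → P i j ∈ adj D e := fun h => M.mem _ (hI h)
  have comm : ∀ {i j k l : Fin 6}, i ≠ j → k ≠ l → i ≠ k → i ≠ l → j ≠ k → j ≠ l → Commute (P i j) (P k l) :=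
    fun hij hkl h1 h2 h3 h4 => (M.comm _ _ (hI hij) (hI hkl)).2 (by
      simp [swapVec, hf_add_left hF, hf_add_right hF, hf_single hF, h1, h2, h3, h4])
  have ne : ∀ {i j k l : Fin 6}, i ≠ j → k ≠ l → i ≠ k → i ≠ l → P i j ≠ P k l := fun {i j k l} hij hkl h1 h2 e1 => by
    obtain ⟨c, -, ec⟩ := M.inj _ _ (hI hkl) (hI hij) e1.symm
    have := congrFun ec i
    simp [swapVec, hij, h1, h2] at this
  set a := P 0 1 with ha
  set b := P 2 3 with hb
  set c := P 1 2 with hc
  set d := P 3 4 with hd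
  have mab : IsTriple D a b e :=
    ⟨(hA (by decide)).1, (hA (by decide)).1, he, ne (by decide) (by decide) (by decide) (by decide),
      (hA (by decide)).2.1, (hA (by decide)).2.1,
      comm (by decide) (by decide) (by decide) (by decide) (by decide) (by decide),
      (hA (by decide)).2.2.symm, (hA (by decide)).2.2.symm⟩
  have mcd : IsTriple D c d e :=
    ⟨(hA (by decide)).1, (hA (by decide)).1, he, ne (by decide) (by decide) (by decide) (by decide),
      (hA (by decide)).2.1, (hA (by decide)).2.1,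
      comm (by decide) (by decide) (by decide) (by decide) (by decide) (by decide),
      (hA (by decide)).2.2.symm, (hA (by decide)).2.2.symm⟩
  -- the product a b c d has order above three
  have hmem : ∀ {i j : Fin 6}, i ≠ j → P i j ∈ Loc D e := fun h => Subgroup.subset_closure (hA h)
  let T : Cfsg.SU 6 F 2 :=
    tv hF (swapVec F 0 1) * tv hF (swapVec F 2 3) * (tv hF (swapVec F 1 2) * tv hF (swapVec F 3 4))
  let Q : ↥(Loc D e) := ⟨a, hmem (by decide)⟩ * ⟨b, hmem (by decide)⟩ * (⟨c, hmem (by decide)⟩ * ⟨d, hmem (by decide)⟩)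
  have hQ : θ Q = toPSU 6 F T := by
    simp only [Q, T, map_mul]
    rw [show θ ⟨a, hmem (by decide)⟩ = _ from L.image _ (hI (by decide)) _,
      show θ ⟨b, hmem (by decide)⟩ = _ from L.image _ (hI (by decide)) _,
      show θ ⟨c, hmem (by decide)⟩ = _ from L.image _ (hI (by decide)) _,
      show θ ⟨d, hmem (by decide)⟩ = _ from L.image _ (hI (by decide)) _]
  have key : ∀ k : ℕ, (a * b * (c * d)) ^ k = 1 → ∃ z : F,
      act (T ^ k) (Pi.single 0 (1 : F)) = z • Pi.single 0 1 := by
    intro k hk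
    have h1 : θ (Q ^ k) = 1 := by
      rw [show Q ^ k = 1 from Subtype.ext (by simpa [Q] using hk), map_one]
    rw [map_pow, hQ, ← map_pow] at h1
    obtain ⟨z, hz⟩ := (mem_center_SU_iff (card_sq hF) (by norm_num) _).1 (toPSU_eq_one.1 h1)
    refine ⟨z, ?_⟩
    show _ *ᵥ Pi.single 0 (1 : F) = _
    rw [hz]
    ext i
    simp [Matrix.mulVec_diagonal]
  have step : ∀ k, act T (Pi.single k (1 : F))
      = Pi.single (Equiv.swap 0 1 (Equiv.swap 2 3 (Equiv.swap 1 2 (Equiv.swap 3 4 k)))) 1 := fun k => by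
    simp only [T, act_mul, act_swapVec hF (show (3 : Fin 6) ≠ 4 by decide), act_swapVec hF (show (1 : Fin 6) ≠ 2 by decide),
      act_swapVec hF (show (2 : Fin 6) ≠ 3 by decide), act_swapVec hF (show (0 : Fin 6) ≠ 1 by decide)]
  have s0 := step 0
  have s1 := step 1
  have s3 := step 3
  rw [show Equiv.swap (0 : Fin 6) 1 (Equiv.swap 2 3 (Equiv.swap 1 2 (Equiv.swap 3 4 0))) = 1 by decide] at s0
  rw [show Equiv.swap (0 : Fin 6) 1 (Equiv.swap 2 3 (Equiv.swap 1 2 (Equiv.swap 3 4 1))) = 3 by decide] at s1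
  rw [show Equiv.swap (0 : Fin 6) 1 (Equiv.swap 2 3 (Equiv.swap 1 2 (Equiv.swap 3 4 3))) = 4 by decide] at s3
  have bad : ∀ (j : Fin 6) (z : F), j ≠ 0 → (Pi.single j 1 : Fin 6 → F) ≠ z • Pi.single 0 1 := fun j z hj e1 => by
    have := congrFun e1 j
    simp [hj] at this
  have n2 : (a * b * (c * d)) ^ 2 ≠ 1 := fun h => by
    obtain ⟨z, hz⟩ := key 2 h
    rw [pow_two, act_mul, s0, s1] at hz
    exact bad 3 z (by decide) hz
  have n3 : (a * b * (c * d)) ^ 3 ≠ 1 := fun h => by
    obtain ⟨z, hz⟩ := key 3 h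
    rw [pow_succ, pow_two, act_mul, act_mul, s0, s1, s3] at hz
    exact bad 4 z (by decide) hz
  rcases (by omega : m = 2 ∨ m = 3) with rfl | rfl
  · exact ⟨a * b, c * d,
      isProd_two mab.1 ⟨mab.2.1, mab.2.2.2.1.symm, mab.2.2.2.2.2.2.1⟩,
      isProd_two mcd.1 ⟨mcd.2.1, mcd.2.2.2.1.symm, mcd.2.2.2.2.2.2.1⟩, n2, n3⟩
  · refine ⟨a * b * e, c * d * e, isProd_three mab, isProd_three mcd, ?_⟩
    have e1 : a * b * e * (c * d * e) = a * b * (c * d) := by
      have hec : Commute e (c * d) :=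
        (mcd.2.2.2.2.2.2.2.1.symm).mul_right mcd.2.2.2.2.2.2.2.2.symm
      rw [mul_assoc (a * b) e, ← mul_assoc e (c * d) e, hec.eq, mul_assoc (c * d) e e,
        mul_self S.cls.1 he, mul_one]
    rw [e1]
    exact ⟨n2, n3⟩

/-- The only class of 3-transpositions. -/
theorem class_unique (S : Fi22Setup D) {D' : Set G} (hD' : Cfsg.IsThreeTranspositionClass D') : D' = D := by
  obtain ⟨y, hy, -⟩ := hD'.2.1
  obtain ⟨m, h1, h3, hm⟩ := involution_prod S (mul_self hD'.1 hy) (ne_one hD'.1 hy)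
  have mem : ∀ {x : G}, IsProd D m x → x ∈ D' := fun hx => by
    obtain ⟨g, rfl⟩ := isConj_iff.1 (prod_conj S h1 h3 hm hx)
    exact (group_of_class hD').2.1 g y hy
  rcases (by omega : m = 1 ∨ 2 ≤ m) with rfl | h2
  · have hyD : y ∈ D := by
      obtain ⟨-, h⟩ | ⟨h, -⟩ | ⟨h, -⟩ := isProd_cases h1 h3 hm
      exacts [h, by omega, by omega]
    ext x
    constructor
    · intro hx
      obtain ⟨g, rfl⟩ := class_conj hD' hy hx
      exact S.conj_mem g hyD
    · exact fun hx => mem (isProd_one hx)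
  · obtain ⟨p, q, hp, hq, n2, n3⟩ := exists_bad_products S h2 h3
    exact ((hD'.1.2 p (mem hp) q (mem hq)).elim n2 n3).elim

end Cfsg.Agent.FischerM22
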