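/-
A group of type M(22) is the presented Fischer group Fi22.

Main results (namespace `Cfsg.Agent.FischerM22`):
* `frameHom` : the map of the presented group given by a frame;
* `iso_fi22` : a group of type M(22) is isomorphic to `Spor.Fi22`;
* `exists_iso` : two groups of type M(22) are isomorphic by a map carrying class to class.
-/
import Cfsg.Agent.Lib.FischerM22.Relators
import Cfsg.Agent.Lib.FischerM22.Unique
import Cfsg.Agent.S1696

set_option autoImplicit false

namespace Cfsg.Agent.FischerM22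

open Cfsg.Agent.ThreeTrans Cfsg.Agent.ThreeTransSU

variable {G : Type*} [Group G] [Finite G] {D : Set G} {a b c d e f g h i : G}

/-- The assignment of a frame to the generators. -/
def frameGen (a b c d e f g h i : G) : Cfsg.Spor.Fi22.Gen → G
  | .a => a
  | .b => b
  | .c => c
  | .d => d
  | .e => e
  | .f => f
  | .g => g
  | .h => h
  | .i => i

theorem frame_relators (S : Fi22Setup D) (Q : YFrame D a b c d e f g h i) :
    ∀ r ∈ Cfsg.Spor.coxRelators Cfsg.Spor.Fi22.edges ∪ {r | r ∈ Cfsg.Spor.Fi22.extra},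
      FreeGroup.lift (frameGen a b c d e f g h i) r = 1 := by
  obtain ⟨⟨ac, ad, ae, af, ag, ah, ai⟩, ⟨bd, be, bf, bg, bh, bi⟩, ⟨ce, cf, cg, ch, ci⟩, ⟨df, dg, di⟩,
    ⟨eg, eh, ei⟩, ⟨fh, fi⟩, ⟨gh, gi⟩, nab, nbc, ncd, nde, ndh, nef, nfg, nhi⟩ := Q.facts
  obtain ⟨aD, bD, cD, dD, eD, fD, gD, hD, iD⟩ := Q.memD
  rintro r (⟨x, -, y, -, rfl⟩ | hr)
  · rw [map_pow, map_mul, FreeGroup.lift_apply_of, FreeGroup.lift_apply_of]
    have h2 : ∀ {p q : G}, p ∈ D → q ∈ D → Commute p q → (p * q) ^ 2 = 1 := fun hp hq hc =>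
      (commute_iff_sq S.cls.1 hp hq).1 hc
    have h3 : ∀ {p q : G}, p ∈ D → q ∈ D → ¬ Commute p q → (p * q) ^ 3 = 1 := fun hp hq hc =>
      pow_three_of_not_commute S.cls.1 hp hq hc
    cases x <;> cases y <;>
      simp only [Cfsg.Spor.coxLabel, Cfsg.Spor.Fi22.edges, List.find?_cons, List.find?_nil, decide_true,
        decide_false, and_true, true_and, and_false, false_and, or_false, false_or, or_true, true_or, reduceCtorEq,
        reduceIte, frameGen, Bool.false_eq_true] <;>
      first
        | (rw [pow_one]; exact mul_self S.cls.1 (by assumption))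
        | exact h2 (by assumption) (by assumption) (by first | assumption | exact Commute.symm (by assumption))
        | exact h3 (by assumption) (by assumption) (by first | assumption | exact mt Commute.symm (by assumption))
  · simp only [Cfsg.Spor.Fi22.extra, Set.mem_ofPred_eq, List.mem_cons, List.not_mem_nil, or_false] at hr
    rcases hr with rfl | rfl | rfl <;>
      simp only [map_pow, map_mul, FreeGroup.lift_apply_of, frameGen]
    exacts [Q.rel_spider S, Q.rel_a S, Q.rel_b S]

/-- The map of the presented group given by a frame. -/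
noncomputable def frameHom (S : Fi22Setup D) (Q : YFrame D a b c d e f g h i) : Cfsg.Spor.Fi22 →* G :=
  PresentedGroup.toGroup (frame_relators S Q)

/-- A group of type M(22) is isomorphic to the presented group Fi22. -/
theorem iso_fi22 (S : Fi22Setup D) : Nonempty (G ≃* Cfsg.Spor.Fi22) := by
  obtain ⟨hs, hcard⟩ := Cfsg.Agent.S1696.result
  obtain ⟨a, b, c, d, e, f, g, h, i, Q⟩ := exists_frame S
  haveI := hs
  have : Finite Cfsg.Spor.Fi22 := Nat.finite_of_card_ne_zero (by rw [hcard]; norm_num)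
  set φ := frameHom S Q with hφ
  have hinj : Function.Injective φ := by
    rw [← MonoidHom.ker_eq_bot_iff]
    refine (hs.eq_bot_or_eq_top_of_normal φ.ker inferInstance).resolve_right fun htop => ?_
    have h1 : φ (PresentedGroup.of Cfsg.Spor.Fi22.Gen.a) = 1 := by
      rw [← MonoidHom.mem_ker, htop]; exact Subgroup.mem_top _
    rw [hφ, frameHom, PresentedGroup.toGroup.of] at h1
    exact ne_one S.cls.1 Q.far.left h1
  have hbij : Function.Bijective φ :=
    (Nat.bijective_iff_injective_and_card φ).2 ⟨hinj, by rw [hcard, group_card S]⟩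
  exact ⟨(MulEquiv.ofBijective φ hbij).symm⟩

/-- Two groups of type M(22) are isomorphic by a map carrying class to class. -/
theorem exists_iso {G₂ : Type*} [Group G₂] [Finite G₂] {D₂ : Set G₂} (S : Fi22Setup D) (S₂ : Fi22Setup D₂) :
    ∃ e : G ≃* G₂, e '' D = D₂ := by
  obtain ⟨e₁⟩ := iso_fi22 S
  obtain ⟨e₂⟩ := iso_fi22 S₂
  set e := e₁.trans e₂.symm with he
  refine ⟨e, class_unique S₂ ?_⟩
  obtain ⟨⟨ho, hp⟩, ⟨x, hx, hcl⟩, hgen⟩ := S.cls
  refine ⟨⟨?_, ?_⟩, ⟨e x, ⟨x, hx, rfl⟩, ?_⟩, ?_⟩
  · rintro _ ⟨y, hy, rfl⟩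
    rw [MulEquiv.orderOf_eq]; exact ho y hy
  · rintro _ ⟨y, hy, rfl⟩ _ ⟨z, hz, rfl⟩
    exact (hp y hy z hz).imp (fun h => by rw [← map_mul, ← map_pow, h, map_one])
      (fun h => by rw [← map_mul, ← map_pow, h, map_one])
  · ext q
    obtain ⟨q, rfl⟩ := e.surjective q
    show e q ∈ e '' _ ↔ IsConj (e x) (e q)
    rw [e.injective.mem_set_image, hcl]
    refine ⟨fun h => e.toMonoidHom.map_isConj h, fun h => ?_⟩
    have h1 := e.symm.toMonoidHom.map_isConj h
    simp only [MulEquiv.coe_toMonoidHom, MulEquiv.symm_apply_apply] at h1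
    exact h1
  · have h1 := MonoidHom.map_closure e.toMonoidHom D
    rw [hgen, Subgroup.map_top_of_surjective _ e.surjective] at h1
    exact h1.symm

end Cfsg.Agent.FischerM22
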