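/-
Lines inside the common neighbours of two non-commuting members of a group of type M(22), and the
configurations from which frames of type Y342 one level up are built.

Main results (namespace `Cfsg.Agent.FischerM22`):
* `FarPair.perp_square` : inside `K = perpSet i h` two neighbours of `k` have the same neighbours;
* `FarPair.perp_line_one` : for `z` in `cell i` outside `K`, each `k ∈ K` has exactly one neighbour in `K ∩ adj z`;
* `exists_five` : five members of `common a b` with four or more completions to a frame;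
* `exists_dual_point`, `exists_hexad_dual`, `dual_cover` : the hexad through two members of a chain and its dual point;
* `third_point` : the member found from a path of four and the third point of its two ends.
-/
import Cfsg.Agent.Lib.FischerM22.YFixed
import Cfsg.Agent.Lib.FischerM22.YFrame
import Cfsg.Agent.Lib.FischerM22.Hexads

set_option autoImplicit false

namespace Cfsg.Agent.FischerM22

open Cfsg.Agent.Unitary Cfsg.Agent.U62Cover Cfsg.Agent.ThreeTrans Cfsg.Agent.ThreeTransSU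

variable {G : Type*} [Group G] [Finite G] {D : Set G}

section Far

variable {a b i h : G}

theorem FarPair.perp_apart (P : FarPair D a b) (S : Fi22Setup D) (hi : i ∈ common D a b)
    (hh : h ∈ common D a b) (hih : ¬ Commute i h) {u v w : G} (hu : u ∈ perpSet D a b i h)
    (hv : v ∈ perpSet D a b i h ∩ adj D u) (hw : w ∈ perpSet D a b i h ∩ adj D u) (hne : v ≠ w) :
    ¬ Commute v w := fun hc => by
  obtain ⟨uS, ui, uh⟩ := mem_perpSet.1 hu
  exact hih ((cell_collinear S P.left P.right P.far uS (x := i) (y := h) ⟨hi, adj_symm hi.1.1 ui⟩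
    ⟨hh, adj_symm hh.1.1 uh⟩ (fun e => hih (e ▸ Commute.refl i))
    ⟨⟨⟨hv.1.1.1, hv.2⟩, hv.1.1.2⟩, hv.1.2⟩ ⟨⟨⟨hw.1.1.1, hw.2⟩, hw.1.1.2⟩, hw.1.2⟩ hne).1 hc)

/-- Two neighbours of `k` in `K` have the same neighbours in `K`. -/
theorem FarPair.perp_square (P : FarPair D a b) (S : Fi22Setup D) (hi : i ∈ common D a b)
    (hh : h ∈ common D a b) (hih : ¬ Commute i h) {k l l' k' : G} (hk : k ∈ perpSet D a b i h)
    (hl : l ∈ perpSet D a b i h ∩ adj D k) (hl' : l' ∈ perpSet D a b i h ∩ adj D k)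
    (hk' : k' ∈ perpSet D a b i h ∩ adj D l) : Commute l' k' := by
  by_contra hn
  have n1 : ¬ Commute l l' := P.perp_apart S hi hh hih hk hl hl' fun e => hn (e ▸ hk'.2.2.2)
  have n3 : ¬ Commute k' k := by
    by_cases e : k' = k
    · exact absurd (e ▸ hl'.2.2.2.symm) hn
    · exact P.perp_apart S hi hh hih hl.1 hk' ⟨hk, adj_symm hk.1.1.1.1 hl.2⟩ e
  have c1 : Commute l k' := hk'.2.2.2
  have c2 : Commute k l := hl.2.2.2
  have c3 : Commute k l' := hl'.2.2.2
  have hm : ∀ j, (![l, l', k', k] : Fin 4 → G) j ∈ perpSet D a b i h := fun j => by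
    fin_cases j
    exacts [hl.1, hl'.1, hk'.1, hk]
  refine hih ((P.a4_unique S _ (fun j => (hm j).1.1) (fun j l => ?_) hi hh
    (fun j => (hm j).1.2.2.2) fun j => (hm j).2.2.2) ▸ Commute.refl i)
  fin_cases j <;> fin_cases l <;>
    simp [pathMat, Commute.refl, c1, c2, c3, c1.symm, c2.symm, c3.symm, n1, hn, n3,
      mt Commute.symm n1, mt Commute.symm hn, mt Commute.symm n3]

theorem FarPair.perp_line_le (P : FarPair D a b) (S : Fi22Setup D) (hi : i ∈ common D a b)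
    (hh : h ∈ common D a b) (hih : ¬ Commute i h) {z k : G} (hz : z ∈ cell D a b i)
    (hzK : z ∉ perpSet D a b i h) (hk : k ∈ perpSet D a b i h) :
    (perpSet D a b i h ∩ adj D k ∩ adj D z).ncard ≤ 1 := by
  by_contra hlt
  obtain ⟨l, hl, l', hl', hne⟩ := Set.one_lt_ncard_iff_nontrivial.1 (not_le.1 hlt)
  have n1 := P.perp_apart S hi hh hih hk hl.1 hl'.1 hne
  have hsub : perpSet D a b i h ∩ adj D l ⊆ cell D a b i ∩ adj D l ∩ adj D l' := fun k' hk' =>
    ⟨⟨hk'.1.1, hk'.2⟩, hk'.1.1.1.1.1, fun e => n1 (e ▸ hk'.2.2.2),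
      P.perp_square S hi hh hih hk hl.1 hl'.1 hk'⟩
  have e := Set.eq_of_subset_of_ncard_le hsub (le_of_eq (by
    rw [cell_common S P.left P.right P.far hi hl.1.1.1 hl'.1.1.1 hne,
      P.perp_deg S hi hh (fun e => hih (e ▸ Commute.refl i)) hl.1.1])) (Set.toFinite _)
  have : z ∈ cell D a b i ∩ adj D l ∩ adj D l' :=
    ⟨⟨hz, adj_symm hz.1.1.1 hl.2⟩, adj_symm hz.1.1.1 hl'.2⟩
  rw [← e] at this
  exact hzK this.1

/-- For `z` in `cell i` outside `K`, each member of `K` has exactly one neighbour in `K ∩ adj z`. -/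
theorem FarPair.perp_line_one (P : FarPair D a b) (S : Fi22Setup D) (hi : i ∈ common D a b)
    (hh : h ∈ common D a b) (hih : ¬ Commute i h) {z k : G} (hz : z ∈ cell D a b i)
    (hzK : z ∉ perpSet D a b i h) (hk : k ∈ perpSet D a b i h) :
    (perpSet D a b i h ∩ adj D k ∩ adj D z).ncard = 1 := by
  classical
  have := Fintype.ofFinite G
  set Kf := (perpSet D a b i h).toFinset with hKf
  have hfc : ∀ k, (Kf.filter fun l => l ∈ adj D k ∧ l ∈ adj D z).card
      = (perpSet D a b i h ∩ adj D k ∩ adj D z).ncard := fun k => by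
    rw [← Set.ncard_coe_finset]
    congr 1
    ext l
    simp only [Finset.coe_filter, hKf, Set.mem_toFinset, Set.mem_ofPred_eq, Set.mem_inter_iff]
    tauto
  have hle : ∀ k ∈ Kf, (Kf.filter fun l => l ∈ adj D k ∧ l ∈ adj D z).card ≤ 1 := fun k hk =>
    hfc k ▸ P.perp_line_le S hi hh hih hz hzK (Set.mem_toFinset.1 hk)
  have hrow : ∀ l ∈ Kf, (Kf.filter fun k => l ∈ adj D k ∧ l ∈ adj D z).card
      = if l ∈ adj D z then 3 else 0 := fun l hl => by
    rw [hKf, Set.mem_toFinset] at hl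
    split_ifs with hlz
    · rw [← P.perp_deg S hi hh (fun e => hih (e ▸ Commute.refl i)) hl, ← Set.ncard_coe_finset]
      congr 1
      ext k
      simp only [Finset.coe_filter, hKf, Set.mem_toFinset, Set.mem_ofPred_eq, Set.mem_inter_iff]
      exact ⟨fun ⟨h1, h2, _⟩ => ⟨h1, adj_symm h1.1.1.1.1 h2⟩, fun ⟨h1, h2⟩ => ⟨h1, adj_symm hl.1.1.1.1 h2, hlz⟩⟩
    · simp [hlz]
  have hsum : ∑ k ∈ Kf, (Kf.filter fun l => l ∈ adj D k ∧ l ∈ adj D z).card = ∑ k ∈ Kf, 1 := by
    rw [Finset.sum_congr rfl fun k _ => Finset.card_filter (fun l => l ∈ adj D k ∧ l ∈ adj D z) Kf,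
      Finset.sum_comm, Finset.sum_congr rfl fun l hl => (Finset.card_filter _ _).symm.trans (hrow l hl),
      ← Finset.sum_filter, Finset.sum_const, Finset.sum_const, smul_eq_mul, smul_eq_mul,
      show (Kf.filter fun l => l ∈ adj D z).card = (perpSet D a b i h ∩ adj D z).ncard by
        rw [← Set.ncard_coe_finset]; congr 1; ext l; simp [hKf],
      P.perp_out S hi hh hih hz hzK, hKf, ← Set.ncard_eq_toFinset_card', P.perp_card S hi hh hih]
  rw [← hfc]
  exact (Finset.sum_eq_sum_iff_of_le hle).1 hsum k (Set.mem_toFinset.2 hk)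

/-- A path of four members of `common a b` and a fifth commuting with them, with four or more completions. -/
theorem exists_five (P : FarPair D a b) (S : Fi22Setup D) :
    ∃ a' b' c' d' f', (a' ∈ common D a b ∧ b' ∈ common D a b ∧ c' ∈ common D a b ∧ d' ∈ common D a b ∧
      f' ∈ common D a b) ∧
      (Commute a' c' ∧ Commute a' d' ∧ Commute a' f' ∧ Commute b' d' ∧ Commute b' f' ∧ Commute c' f' ∧
        Commute d' f') ∧
      (¬ Commute a' b' ∧ ¬ Commute b' c' ∧ ¬ Commute c' d') ∧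
      4 ≤ {p | p ∈ common D a b ∧ Commute p a' ∧ Commute p b' ∧ Commute p c' ∧ ¬ Commute p d' ∧
        ¬ Commute p f'}.ncard := by
  classical
  obtain ⟨ha, hb, hab⟩ := id P
  obtain ⟨g, hg⟩ : (common D a b).Nonempty := by
    rw [← Set.ncard_pos (Set.toFinite _), common_card S ha hb hab]; norm_num
  obtain ⟨i, hi⟩ : (cell D a b g).Nonempty := by
    rw [← Set.ncard_pos (Set.toFinite _), cell_ncard S ha hb hab hg]; norm_num
  have d12 := P.deg S hg hi
  obtain ⟨h, hh, hhn⟩ : ∃ h ∈ cell D a b g, h ∉ insert i (cell D a b g ∩ adj D i) := by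
    by_contra hcon
    have h1 := Set.ncard_le_ncard (show cell D a b g ⊆ insert i (cell D a b g ∩ adj D i) from
      fun x hx => by_contra fun hn => hcon ⟨x, hx, hn⟩) (Set.toFinite _)
    rw [cell_ncard S ha hb hab hg] at h1
    have := Set.ncard_insert_le i (cell D a b g ∩ adj D i)
    omega
  simp only [Set.mem_insert_iff, Set.mem_inter_iff, not_or, not_and] at hhn
  have nih : ¬ Commute i h := fun hc => hhn.2 hh ⟨hh.1.1.1, hhn.1, hc⟩
  have L3 := cell_common S ha hb hab hg hi hh (Ne.symm hhn.1)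
  obtain ⟨d, hd, hdn⟩ : ∃ d ∈ cell D a b g ∩ adj D i, d ∉ cell D a b g ∩ adj D i ∩ adj D h := by
    by_contra hcon
    have h1 := Set.ncard_le_ncard (show cell D a b g ∩ adj D i ⊆ cell D a b g ∩ adj D i ∩ adj D h from
      fun x hx => by_contra fun hn => hcon ⟨x, hx, hn⟩) (Set.toFinite _)
    omega
  have ndh : ¬ Commute d h := fun hc => hdn ⟨hd, hd.1.1.1.1, fun e => nih (e ▸ hd.2.2.2), hc.symm⟩
  obtain ⟨e, he, nde⟩ : ∃ e ∈ cell D a b g ∩ adj D i ∩ adj D h, ¬ Commute d e := by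
    by_contra hcon
    have hsub : cell D a b g ∩ adj D i ∩ adj D h ⊆ cell D a b g ∩ adj D i ∩ adj D d := fun x hx =>
      ⟨hx.1, hx.1.1.1.1.1, fun e => hdn (e ▸ hx), by_contra fun hc => hcon ⟨x, hx, hc⟩⟩
    have heq := Set.eq_of_subset_of_ncard_le hsub
      (by rw [cell_common S ha hb hab hg hi hd.1 (Ne.symm hd.2.2.1), L3]) (Set.toFinite _)
    obtain ⟨p, hp, r, hr, hne⟩ := Set.one_lt_ncard_iff_nontrivial.1 (show 1 < _ by rw [L3]; norm_num)
    have c1 := cell_collinear S ha hb hab hg hi hh (Ne.symm hhn.1) hp hr hne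
    have c2 := cell_collinear S ha hb hab hg hi hd.1 (Ne.symm hd.2.2.1) (heq ▸ hp) (heq ▸ hr) hne
    exact nih (c1.1 (c2.2 hd.2.2.2))
  set K := perpSet D a b i h with hK
  have gK : g ∈ K := ⟨cell_symm hg hi, adj_symm hg.1.1 hh.2⟩
  have eK : e ∈ K := ⟨⟨he.1.1.1, he.1.2⟩, he.2⟩
  have hdc : d ∈ cell D a b i := ⟨hd.1.1, hd.2⟩
  have hdK : d ∉ K := fun h' => ndh h'.2.2.2.symm
  have ceg : Commute e g := he.1.1.2.2.2.symm
  refine ⟨i, h, d, e, g, ⟨hi.1, hh.1, hd.1.1, he.1.1.1, hg⟩,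
    ⟨hd.2.2.2, he.1.2.2.2, hi.2.2.2.symm, he.2.2.2, hh.2.2.2.symm, hd.1.2.2.2.symm, ceg⟩,
    ⟨nih, mt Commute.symm ndh, nde⟩, ?_⟩
  have six := P.perp_out S hi.1 hh.1 nih hdc hdK
  set T := {p | p ∈ common D a b ∧ Commute p i ∧ Commute p h ∧ Commute p d ∧ ¬ Commute p e ∧ ¬ Commute p g}
  have hsub : K ∩ adj D d ⊆ (K ∩ adj D g ∩ adj D d) ∪ (K ∩ adj D e ∩ adj D d) ∪ T := by
    intro x hx
    obtain ⟨xS, xi, xh⟩ := mem_perpSet.1 hx.1
    have hxe : x ≠ e := fun e' => nde (e' ▸ hx.2.2.2)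
    by_cases cxg : Commute x g
    · by_cases hxg : x = g
      · exact Or.inl (Or.inr ⟨⟨hx.1, xS.1.1, hxe, hxg ▸ ceg⟩, hx.2⟩)
      · exact Or.inl (Or.inl ⟨⟨hx.1, xS.1.1, hxg, cxg.symm⟩, hx.2⟩)
    by_cases cxe : Commute x e
    · exact Or.inl (Or.inr ⟨⟨hx.1, xS.1.1, hxe, cxe.symm⟩, hx.2⟩)
    exact Or.inr ⟨xS, xi.2.2.symm, xh.2.2.symm, hx.2.2.2.symm, cxe, cxg⟩
  have h1 := Set.ncard_le_ncard hsub (Set.toFinite _)
  have h2 := Set.ncard_union_le ((K ∩ adj D g ∩ adj D d) ∪ (K ∩ adj D e ∩ adj D d)) T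
  have h3 := Set.ncard_union_le (K ∩ adj D g ∩ adj D d) (K ∩ adj D e ∩ adj D d)
  have h4 := P.perp_line_le S hi.1 hh.1 nih hdc hdK gK
  have h5 := P.perp_line_le S hi.1 hh.1 nih hdc hdK eK
  rw [← hK] at h4 h5
  rw [six] at h1
  omega

end Far

theorem conj_pt_tv (S : Fi22Setup D) {a : G} (ha : a ∈ D) {F : Type*} [Field F] [Fintype F]
    {pt : (Fin 6 → F) → G} {θ : ↥(Loc D a) →* Cfsg.PSU 6 F 2} (L : LocModel D a pt θ)
    {u w : Fin 6 → F} (hu : Iso u) (hw : Iso w) :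
    pt u * pt w * (pt u)⁻¹ = pt (w + hf w u • u) := by
  have hm := L.M.mem u hu
  have h := L.conj_pt S ha (L.image u hu (Subgroup.subset_closure hm)) hw
  show pt u * pt w * (pt u)⁻¹ = _
  rw [show pt u * pt w * (pt u)⁻¹ = _ from h, act_tv _ hu.2]

/-- The member found from a path of four and the third point of its two ends. -/
theorem third_point (S : Fi22Setup D) {x y q : G} (P : FarPair D x y) (hq : q ∈ common D x y) (W : Set G)
    (hW : W ⊆ cell D x y q) (hcl : ∀ k ∈ W, ∀ k' ∈ W, k * k' * k⁻¹ ∈ W) (m : Fin 4 → G)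
    (hm : ∀ j, m j ∈ W) (hpat : ∀ j k, Commute (m j) (m k) ↔ pathMat 4 j k = 0) {z : G}
    (hz : z ∈ W ∩ adj D (m 0) ∩ adj D (m 3)) (huniq : ∀ z' ∈ W ∩ adj D (m 0) ∩ adj D (m 3), z' = z) :
    ∃ h ∈ W, Commute h (m 2) ∧ Commute h (m 3) ∧ ¬ Commute h (m 0) := by
  obtain ⟨F, _, _, pt, θ, L⟩ := exists_locModel S hq.1.1
  have M := L.M
  have hF := M.card
  obtain ⟨v, hv, hvi⟩ := exists_chain M m (fun j => (hW (hm j)).2) hpat
  have hd := hasDual_four
  have hI := fun j => (hvi j).1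
  have hpt := fun j => (hvi j).2
  set μ := fun σ => pt (bvec hF v σ) with hμ
  have hs : ∀ j, μ (Pi.single j 1) ∈ W := fun j => by
    rw [hμ]; simp only [bvec_single, hpt]; exact hm j
  have mk : ∀ σ τ ρ : Fin 4 → ZMod 2, σ ≠ 0 → τ ≠ 0 → τ + bform τ σ • σ = ρ → μ σ ∈ W → μ τ ∈ W → μ ρ ∈ W :=
    fun σ τ ρ h1 h2 e k1 k2 => by
      have := hcl _ k1 _ k2
      rwa [hμ, conj_bvec S hq.1.1 L hv hd h1 h2, e] at this
  have k0110 := mk (Pi.single 2 1) (Pi.single 1 1) ![0, 1, 1, 0] (by decide) (by decide) (by decide) (hs 2) (hs 1)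
  have k1100 := mk (Pi.single 1 1) (Pi.single 0 1) ![1, 1, 0, 0] (by decide) (by decide) (by decide) (hs 1) (hs 0)
  have k1110 := mk (Pi.single 2 1) _ ![1, 1, 1, 0] (by decide) (by decide) (by decide) (hs 2) k1100
  have k0111 := mk (Pi.single 3 1) _ ![0, 1, 1, 1] (by decide) (by decide) (by decide) (hs 3) k0110
  have hv' : ∀ j k, hf (v j) (v k) = binCast hF (pathMat 4 j k) := hv
  have g01 : hf (v 0) (v 1) = 1 := by rw [hv', show pathMat 4 0 1 = 1 by decide, map_one]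
  have g02 : hf (v 0) (v 2) = 0 := by rw [hv', show pathMat 4 0 2 = 0 by decide, map_zero]
  have g03 : hf (v 0) (v 3) = 0 := by rw [hv', show pathMat 4 0 3 = 0 by decide, map_zero]
  have g30 : hf (v 3) (v 0) = 0 := (hf_eq_zero_symm hF).1 g03
  have g31 : hf (v 3) (v 1) = 0 := by rw [hv', show pathMat 4 3 1 = 0 by decide, map_zero]
  have g32 : hf (v 3) (v 2) = 1 := by rw [hv', show pathMat 4 3 2 = 1 by decide, map_one]
  -- the third point lies in the span
  obtain ⟨ux, hux, hxe⟩ := M.surj x (adj_symm P.left hq.1)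
  obtain ⟨uy, huy, hye⟩ := M.surj y (adj_symm P.right hq.2)
  have hxy : hf ux uy ≠ 0 := fun e => P.far (hxe ▸ hye ▸ (M.comm ux uy hux huy).2 e)
  have hxy' : hf uy ux ≠ 0 := fun e => hxy ((hf_eq_zero_symm hF).1 e)
  have perpXY : ∀ {p : G} {u : Fin 6 → F}, Iso u → pt u = p → p ∈ W → hf u ux = 0 ∧ hf u uy = 0 :=
    fun {p u} hu e hp => ⟨(M.comm u ux hu hux).1 (by rw [e, hxe]; exact (hW hp).1.1.2.2.symm),
      (M.comm u uy hu huy).1 (by rw [e, hye]; exact (hW hp).1.2.2.2.symm)⟩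
  have sy := fun {u w : Fin 6 → F} (h0 : hf u w = 0) => (hf_eq_zero_symm hF).1 h0
  have vX := fun j => perpXY (hI j) (hpt j) (hm j)
  obtain ⟨uz, huz, hze⟩ := M.surj z (hW hz.1.1).2
  have z0 : hf uz (v 0) = 0 := (M.comm uz _ huz (hI 0)).1 (by rw [hze, hpt]; exact hz.1.2.2.2.symm)
  have z3 : hf uz (v 3) = 0 := (M.comm uz _ huz (hI 3)).1 (by rw [hze, hpt]; exact hz.2.2.2.symm)
  obtain ⟨zX, zY⟩ := perpXY huz hze hz.1.1
  set A := hf uz (v 1) with hA
  set B := hf uz (v 2) with hB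
  set w := uz + A • v 0 + B • v 3 with hw
  set u6 : Fin 6 → Fin 6 → F := ![v 0, v 1, v 2, v 3, ux, uy] with hu6
  have hw0 : ∀ j, hf w (u6 j) = 0 := fun j => by
    rw [hw, hf_add_left hF, hf_add_left hF, hf_smul_left hF, hf_smul_left hF]
    fin_cases j <;> simp [hu6, z0, z3, zX, zY, (vX 0).1, (vX 0).2, (vX 3).1, (vX 3).2, (hI 0).2, (hI 3).2,
      g01, g02, g03, g30, g31, g32, ← hA, ← hB, ← two_mul, two_eq_zero hF]
  have g12 : hf (v 1) (v 2) = 1 := by rw [hv', show pathMat 4 1 2 = 1 by decide, map_one]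
  have hli : LinearIndependent F u6 := by
    rw [Fintype.linearIndependent_iff]
    intro co hco
    simp only [Fin.sum_univ_six, hu6, Matrix.cons_val] at hco
    have pair : ∀ t, co 0 * hf (v 0) t + co 1 * hf (v 1) t + co 2 * hf (v 2) t + co 3 * hf (v 3) t
        + co 4 * hf ux t + co 5 * hf uy t = 0 := fun t => by
      have := congrArg (fun z => hf z t) hco
      simpa only [hf_add_left hF, hf_smul_left hF, hf_zero_left hF] using this
    have g10 : hf (v 1) (v 0) = 1 := hf_eq_one_symm hF g01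
    have g21 : hf (v 2) (v 1) = 1 := hf_eq_one_symm hF g12
    have g23 : hf (v 2) (v 3) = 1 := hf_eq_one_symm hF g32
    have g13 := sy g31
    have g20 := sy g02
    have h1 : co 1 = 0 := by
      simpa [(hI 0).2, g10, g20, g30, sy (vX 0).1, sy (vX 0).2] using pair (v 0)
    have h2 : co 2 = 0 := by
      simpa [(hI 3).2, g03, g13, g23, sy (vX 3).1, sy (vX 3).2] using pair (v 3)
    have h3 : co 3 = 0 := by
      simpa [(hI 2).2, g02, g12, g32, sy (vX 2).1, sy (vX 2).2, h1] using pair (v 2)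
    have h0 : co 0 = 0 := by
      simpa [(hI 1).2, g01, g21, g31, sy (vX 1).1, sy (vX 1).2, h2] using pair (v 1)
    have h5 : co 5 = 0 := by
      simpa [(vX 0).1, (vX 1).1, (vX 2).1, (vX 3).1, hux.2, hxy'] using pair ux
    have h4 : co 4 = 0 := by
      simpa [(vX 0).2, (vX 1).2, (vX 2).2, (vX 3).2, huy.2, hxy] using pair uy
    intro j
    fin_cases j <;> assumption
  have hwz : w = 0 := by
    by_contra hw'
    obtain ⟨t, ht⟩ := exists_hf_one hF hw'
    obtain ⟨co, rfl⟩ := (Submodule.mem_span_range_iff_exists_fun F).1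
      ((hli.span_eq_top_of_card_eq_finrank (by simp)).symm ▸ Submodule.mem_top :
        t ∈ Submodule.span F (Set.range u6))
    rw [hf_sum_left hF, Finset.sum_eq_zero] at ht
    · exact zero_ne_one ht
    intro j _
    rw [hf_smul_left hF, sy (hw0 j), mul_zero]
  have two : ∀ t : Fin 6 → F, t + t = 0 := fun t => by rw [← two_smul F, two_eq_zero hF, zero_smul]
  have huz' : uz = A • v 0 + B • v 3 := by
    have : uz + (A • v 0 + B • v 3) = 0 := by rw [← add_assoc]; exact hwz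
    exact add_right_cancel (this.trans (two _).symm)
  have hA0 : A ≠ 0 := fun e => hz.2.2.1 (by
    rw [← hze, huz', e, zero_smul, zero_add, ← hpt]
    exact M.smul _ _ (hI 3) fun e' => huz.1 (by rw [huz', e, e', zero_smul, zero_smul, add_zero]))
  set κ := B / A with hκdef
  have hu1 : uz = A • (v 0 + κ • v 3) := by
    rw [huz', smul_add, smul_smul, hκdef, mul_div_cancel₀ B hA0]
  have hi1 : Iso (v 0 + κ • v 3) := by
    have := huz.smul hF (inv_ne_zero hA0)
    rwa [hu1, inv_smul_smul₀ hA0] at this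
  have hz1 : pt (v 0 + κ • v 3) = z := by rw [← hze, hu1, M.smul _ _ hi1 hA0]
  have hκ0 : κ ≠ 0 := fun e => hz.1.2.2.1 (by rw [← hz1, e, zero_smul, add_zero, hpt])
  -- the product of two members exchanges the ends
  have step : ∀ {σ τ s σ' τ' : Fin 4 → ZMod 2}, s ≠ 0 → bform σ s = 1 → bform τ s = 1 → σ + s = σ' →
      τ + s = τ' → μ s ∈ W → Iso (bvec hF v σ + κ • bvec hF v τ) → pt (bvec hF v σ + κ • bvec hF v τ) ∈ W →
      Iso (bvec hF v σ' + κ • bvec hF v τ') ∧ pt (bvec hF v σ' + κ • bvec hF v τ') ∈ W := by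
    intro σ τ s σ' τ' hs0 h1 h2 e1 e2 hsW hi' hmW
    have his := bvec_iso hv hd hs0
    have e : bvec hF v σ + κ • bvec hF v τ + hf (bvec hF v σ + κ • bvec hF v τ) (bvec hF v s) • bvec hF v s
        = bvec hF v σ' + κ • bvec hF v τ' := by
      rw [hf_add_left hF, hf_smul_left hF, hf_bvec hv, hf_bvec hv, h1, h2, map_one, mul_one, ← e1, ← e2,
        bvec_add, bvec_add]
      module
    have hconj := hcl _ hsW _ hmW
    rw [hμ, conj_pt_tv S hq.1.1 L his hi', e] at hconj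
    refine ⟨?_, hconj⟩
    have := hi'.act (tv hF (bvec hF v s))
    rwa [act_tv hF his.2, e] at this
  have b0 : bvec hF v (Pi.single 0 1) + κ • bvec hF v (Pi.single 3 1) = v 0 + κ • v 3 := by
    rw [bvec_single, bvec_single]
  obtain ⟨i2, m2⟩ := step (σ := Pi.single 0 1) (τ := Pi.single 3 1) (σ' := ![0, 1, 1, 0]) (τ' := ![1, 1, 1, 1])
    (by decide) (by decide) (by decide) (by decide) (by decide) k1110 (b0.symm ▸ hi1)
    (by rw [b0, hz1]; exact hz.1.1)
  obtain ⟨i3, m3⟩ := step (σ' := Pi.single 3 1) (τ' := Pi.single 0 1) (s := ![0, 1, 1, 1])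
    (by decide) (by decide) (by decide) (by decide) (by decide) k0111 i2 m2
  simp only [bvec_single] at i3 m3
  have hz' : pt (v 3 + κ • v 0) ∈ W ∩ adj D (m 0) ∩ adj D (m 3) := by
    have hD : pt (v 3 + κ • v 0) ∈ D := (hW m3).1.1.1
    refine ⟨⟨m3, hD, fun e => ?_, ?_⟩, hD, fun e => ?_, ?_⟩
    · obtain ⟨c, -, hc⟩ := M.inj _ _ (hI 0) i3 ((hpt 0).trans e.symm)
      have := congrArg (fun t => hf t (v 2)) hc
      simp [hf_add_left hF, hf_smul_left hF, g02, g32] at this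
    · rw [← hpt]
      exact (M.comm _ _ (hI 0) i3).2 (sy (by simp [hf_add_left hF, hf_smul_left hF, g30, (hI 0).2]))
    · obtain ⟨c, -, hc⟩ := M.inj _ _ (hI 3) i3 ((hpt 3).trans e.symm)
      have := congrArg (fun t => hf t (v 1)) hc
      simp [hf_add_left hF, hf_smul_left hF, g01, g31, hκ0] at this
    · rw [← hpt]
      exact (M.comm _ _ (hI 3) i3).2 (sy (by simp [hf_add_left hF, hf_smul_left hF, g03, (hI 3).2]))
  obtain ⟨c, -, hc⟩ := M.inj _ _ hi1 i3 (hz1.trans (huniq _ hz').symm)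
  have e1 : κ = c := by
    have := congrArg (fun t => hf t (v 1)) hc
    simpa [hf_add_left hF, hf_smul_left hF, g01, g31] using this
  have e2 : (1 : F) = c * κ := by
    have := congrArg (fun t => hf t (v 2)) hc
    simpa [hf_add_left hF, hf_smul_left hF, g02, g32] using this
  have hκ1 : κ = 1 := by
    have h0 : (κ - 1) * (κ - 1) = 0 := by
      rw [← e1] at e2
      linear_combination -e2 + (1 - κ) * two_eq_zero hF
    exact sub_eq_zero.1 (mul_self_eq_zero.1 h0)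
  have k1001 : μ ![1, 0, 0, 1] ∈ W := by
    have e : bvec hF v ![1, 0, 0, 1] = v 0 + κ • v 3 := by
      rw [hκ1, one_smul, show (![1, 0, 0, 1] : Fin 4 → ZMod 2) = Pi.single 0 1 + Pi.single 3 1 by decide,
        bvec_add, bvec_single, bvec_single]
    show pt (bvec hF v ![1, 0, 0, 1]) ∈ W
    rw [e, hz1]; exact hz.1.1
  have kh := mk ![1, 1, 0, 0] ![1, 0, 0, 1] ![0, 1, 0, 1] (by decide) (by decide) (by decide) k1100 k1001
  have hc' : ∀ j, Commute (μ ![0, 1, 0, 1]) (m j) ↔ bform ![0, 1, 0, 1] (Pi.single j 1) = 0 := fun j => by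
    show Commute (pt (bvec hF v ![0, 1, 0, 1])) (m j) ↔ _
    rw [← hpt, ← bvec_single hF v j, bvec_comm M hv hd (by decide) (by simp)]
  exact ⟨_, kh, (hc' 2).2 (by decide), (hc' 3).2 (by decide), fun h' => absurd ((hc' 0).1 h') (by decide)⟩

section Dual

variable {z g : G}

/-- A chain of six neighbours has a dual point at its last member. -/
theorem exists_dual_point (S : Fi22Setup D) (hz : z ∈ D) (m : Fin 6 → G) (hm : ∀ j, m j ∈ adj D z)
    (hpat : ∀ j k, Commute (m j) (m k) ↔ pathMat 6 j k = 0) :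
    ∃ g ∈ adj D z, (∀ j, j ≠ 5 → Commute g (m j)) ∧ ¬ Commute g (m 5) := by
  obtain ⟨F, _, _, pt, M⟩ := S.exists_model hz
  obtain ⟨v, hv, hvi⟩ := exists_chain M m hm hpat
  have h0 : (![1, 0, 1, 0, 1, 0] : Fin 6 → ZMod 2) ≠ 0 := by decide
  have hc : ∀ j : Fin 6, Commute (pt (bvec M.card v ![1, 0, 1, 0, 1, 0])) (m j) ↔ j ≠ 5 := fun j => by
    rw [← (hvi j).2, ← bvec_single M.card v j, bvec_comm M hv hasDual_six h0 (by simp)]
    revert j
    decide +kernel
  exact ⟨_, M.mem _ (bvec_iso hv hasDual_six h0), fun j => (hc j).2, fun h => (hc 5).1 h rfl⟩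

/-- The hexad through two members of a chain and the dual point contains a member like a completion. -/
theorem exists_hexad_dual (S : Fi22Setup D) (hz : z ∈ D) (m : Fin 6 → G) (hm : ∀ j, m j ∈ adj D z)
    (hpat : ∀ j k, Commute (m j) (m k) ↔ pathMat 6 j k = 0) (hg : g ∈ adj D z)
    (hgc : ∀ j, j ≠ 5 → Commute g (m j)) (hg5 : ¬ Commute g (m 5)) :
    IsTriple D (m 0) (m 2) g ∧ ∃ p ∈ hexSet D (m 0) (m 2) g,
      p ∈ adj D z ∧ Commute p (m 1) ∧ ¬ Commute p (m 3) ∧ ¬ Commute p (m 5) := by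
  classical
  have := Fintype.ofFinite G
  obtain ⟨F, _, _, pt, M⟩ := S.exists_model hz
  have hF := M.card
  obtain ⟨v, hv, hvi⟩ := exists_chain M m hm hpat
  have hρd : ∀ k : Fin 6, bform (![1, 0, 1, 0, 1, 0] : Fin 6 → ZMod 2) (Pi.single k 1)
      = if k = 5 then 1 else 0 := by decide +kernel
  have hgv := pt_eq_dual M hv hg hρd (fun j => (hvi j).1) fun j hj => (hvi j).2.symm ▸ hgc j hj
  set t0 := bvec hF v ![1, 0, 1, 0, 1, 0] with ht0
  have hit0 : Iso t0 := bvec_iso hv hasDual_six (by decide)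
  have N : ∀ j k, pathMat 6 j k = 1 → ¬ Commute (m j) (m k) := fun j k h1 hh =>
    one_ne_zero (h1 ▸ (hpat j k).1 hh)
  have C : ∀ j k, pathMat 6 j k = 0 → Commute (m j) (m k) := fun j k h0 => (hpat j k).2 h0
  have c02 := C 0 2 (by decide)
  have n02 : m 0 ≠ m 2 := fun e => N 2 3 (by decide) (e ▸ C 0 3 (by decide))
  have n0g : m 0 ≠ g := fun e => hg5 (e ▸ C 0 5 (by decide))
  have n2g : m 2 ≠ g := fun e => hg5 (e ▸ C 2 5 (by decide))
  have hT : IsTriple D (m 0) (m 2) g :=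
    ⟨(hm 0).1, (hm 2).1, hg.1, n02, n0g, n2g, c02, (hgc 0 (by decide)).symm, (hgc 2 (by decide)).symm⟩
  obtain ⟨h0, h2, hgH⟩ := self_mem_hexSet hT
  set H := hexSet D (m 0) (m 2) g with hH
  have kill : ∀ {p q r s y : G}, p ∈ H → q ∈ H → r ∈ H → s ∈ H → p ≠ q → p ≠ r → q ≠ r → y ∈ D →
      Commute y p → Commute y q → Commute y r → Commute s y := by
    intro p q r s y hp hq hr hs e1 e2 e3 hy yp yq yr
    rw [hH, ← hexSet_eq_of_mem S hT hp hq hr e1 e2 e3] at hs
    exact hs.2.2.2.2 y hy yp yq yr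
  have hzH : z ∉ H := fun hzH => hg5 (kill hzH h0 h2 hgH (Ne.symm (hm 0).2.1) (Ne.symm (hm 2).2.1) n02
    (hm 5).1 (hm 5).2.2.symm (C 5 0 (by decide)) (C 5 2 (by decide)))
  have hadj : ∀ p ∈ H, p ∈ adj D z := fun p hp => ⟨hp.1, fun e => hzH (e ▸ hp),
    (hp.2.2.2.2 z hz (hm 0).2.2 (hm 2).2.2 hg.2.2).symm⟩
  set R := H.toFinset \ {m 0, m 2, g} with hR
  have hRc : R.card = 3 := by
    have hs : ({m 0, m 2, g} : Finset G) ⊆ H.toFinset := by
      intro x hx
      simp only [Finset.mem_insert, Finset.mem_singleton] at hx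
      rw [Set.mem_toFinset]
      rcases hx with rfl | rfl | rfl <;> assumption
    rw [hR, Finset.card_sdiff_of_subset hs, ← Set.ncard_eq_toFinset_card', hH, hexSet_ncard S hT,
      Finset.card_eq_three.2 ⟨_, _, _, n02, n0g, n2g, rfl⟩]
  have hRm : ∀ p ∈ R, p ∈ H ∧ p ≠ m 0 ∧ p ≠ m 2 ∧ p ≠ g := fun p hp => by
    simpa [hR] using hp
  have p5 : ∀ p ∈ R, ¬ Commute p (m 5) := fun p hp hc => by
    obtain ⟨hp, e0, e2, -⟩ := hRm p hp
    exact hg5 (kill h0 h2 hp hgH n02 (Ne.symm e0) (Ne.symm e2) (hm 5).1 (C 5 0 (by decide)) (C 5 2 (by decide))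
      hc.symm)
  have p3 : ∀ p ∈ R, ¬ Commute p (m 3) := fun p hp hc => by
    obtain ⟨hp, e0, -, eg⟩ := hRm p hp
    exact N 2 3 (by decide) (kill h0 hgH hp h2 n0g (Ne.symm e0) (Ne.symm eg) (hm 3).1 (C 3 0 (by decide))
      (hgc 3 (by decide)).symm hc.symm)
  choose U hU hUp using fun p : R => M.surj p.1 (hadj _ (hRm p.1 p.2).1)
  have b1 : ∀ p : R, hf (U p) (v 3) ≠ 0 := fun p e => p3 p.1 p.2 (by
    rw [← hUp p, ← (hvi 3).2]; exact (M.comm _ _ (hU p) (hvi 3).1).2 e)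
  let τ : R → F := fun p => hf (U p) (v 1) / hf (U p) (v 3)
  have t1 : hf t0 (v 1) = 0 := by rw [ht0, hf_bvec_single hv, hρd, if_neg (by decide), map_zero]
  have t3 : hf t0 (v 3) = 0 := by rw [ht0, hf_bvec_single hv, hρd, if_neg (by decide), map_zero]
  have g13 : hf (v 1) (v 3) = 0 := by rw [hv, show pathMat 6 1 3 = 0 by decide, map_zero]
  -- the witness `v 1 + s • v 3`
  have wit : ∀ s : F, Iso (v 1 + s • v 3) ∧ ¬ Commute (pt (v 1 + s • v 3)) (m 0) ∧
      Commute (pt (v 1 + s • v 3)) g := fun s => by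
    have h10 : hf (v 1 + s • v 3) (v 0) = 1 := by
      rw [hf_add_left hF, hf_smul_left hF, hv, hv, show pathMat 6 1 0 = 1 by decide,
        show pathMat 6 3 0 = 0 by decide, map_one, map_zero, mul_zero, add_zero]
    have hi : Iso (v 1 + s • v 3) := ⟨fun e => by rw [e, hf_zero_left hF] at h10; exact zero_ne_one h10, by
      rw [hf_add_left hF, hf_smul_left hF, hf_add_right hF, hf_add_right hF, hf_smul_right hF, hf_smul_right hF,
        (hvi 1).1.2, (hvi 3).1.2, g13, (hf_eq_zero_symm hF).1 g13]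
      ring⟩
    refine ⟨hi, fun hc => ?_, ?_⟩
    · rw [← (hvi 0).2, M.comm _ _ hi (hvi 0).1, h10] at hc
      exact one_ne_zero hc
    · rw [hgv]
      refine (M.comm _ _ hi hit0).2 ((hf_eq_zero_symm hF).1 ?_)
      rw [hf_add_right hF, hf_smul_right hF, t1, t3, mul_zero, add_zero]
  have hcomm : ∀ (p : R) (s : F), s ^ 2 = τ p → Commute (pt (v 1 + s • v 3)) p.1 := fun p s hs => by
    rw [← hUp p, M.comm _ _ (wit s).1 (hU p)]
    refine (hf_eq_zero_symm hF).1 ?_
    rw [hf_add_right hF, hf_smul_right hF, hs, div_mul_cancel₀ _ (b1 p), ← two_mul, two_eq_zero hF, zero_mul]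
  have sq : ∀ x : F, (x ^ 2) ^ 2 = x := fun x => pow_q_pow_q (card_sq hF) x
  have hinj : Function.Injective τ := fun p p' e => by
    by_contra hne
    obtain ⟨hi, nc, cg⟩ := wit (τ p ^ 2)
    exact nc (kill hgH (hRm p.1 p.2).1 (hRm p'.1 p'.2).1 h0 (Ne.symm (hRm p.1 p.2).2.2.2)
      (Ne.symm (hRm p'.1 p'.2).2.2.2) (fun e' => hne (Subtype.ext e')) (M.mem _ hi).1 cg
      (hcomm p _ (sq _)) (hcomm p' _ ((sq _).trans e))).symm
  have hτ1 : ∀ p, τ p ≠ 1 := fun p e => by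
    obtain ⟨hi, nc, cg⟩ := wit 1
    have hc2 : Commute (pt (v 1 + (1 : F) • v 3)) (m 2) := by
      rw [← (hvi 2).2, M.comm _ _ hi (hvi 2).1, one_smul, hf_add_left hF, hv, hv,
        show pathMat 6 1 2 = 1 by decide, show pathMat 6 3 2 = 1 by decide, map_one, ← two_mul, two_eq_zero hF,
        zero_mul]
    exact nc (kill h2 hgH (hRm p.1 p.2).1 h0 n2g (Ne.symm (hRm p.1 p.2).2.2.1) (Ne.symm (hRm p.1 p.2).2.2.2)
      (M.mem _ hi).1 hc2 cg (hcomm p 1 (by rw [e, one_pow]))).symm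
  have himg : Finset.univ.image τ = Finset.univ.erase (1 : F) := by
    refine Finset.eq_of_subset_of_card_le (fun x hx => ?_) ?_
    · obtain ⟨p, -, rfl⟩ := Finset.mem_image.1 hx
      exact Finset.mem_erase.2 ⟨hτ1 p, Finset.mem_univ _⟩
    · rw [Finset.card_image_of_injective _ hinj, Finset.card_erase_of_mem (Finset.mem_univ _), Finset.card_univ,
        hF, Finset.card_univ, Fintype.card_coe, hRc]
  obtain ⟨p, -, hp⟩ := Finset.mem_image.1
    (himg.symm ▸ Finset.mem_erase.2 ⟨zero_ne_one, Finset.mem_univ _⟩ : (0 : F) ∈ Finset.univ.image τ)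
  refine ⟨hT, p.1, (hRm p.1 p.2).1, hadj _ (hRm p.1 p.2).1, ?_, p3 _ p.2, p5 _ p.2⟩
  rw [← hUp p, ← (hvi 1).2, M.comm _ _ (hU p) (hvi 1).1]
  exact (div_eq_zero_iff.1 hp).resolve_right (b1 p)

/-- At most three completions commute with the dual point; the others commute with its conjugate. -/
theorem dual_cover (S : Fi22Setup D) (hz : z ∈ D) (m : Fin 6 → G) (hm : ∀ j, m j ∈ adj D z)
    (hpat : ∀ j k, Commute (m j) (m k) ↔ pathMat 6 j k = 0) (hg : g ∈ adj D z)
    (hgc : ∀ j, j ≠ 5 → Commute g (m j)) :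
    {p | p ∈ adj D z ∧ Commute p (m 0) ∧ Commute p (m 1) ∧ Commute p (m 2) ∧ ¬ Commute p (m 3) ∧
      ¬ Commute p (m 5) ∧ Commute p g}.ncard ≤ 3 ∧
    ∀ p ∈ adj D z, Commute p (m 0) → Commute p (m 1) → Commute p (m 2) → ¬ Commute p (m 3) →
      ¬ Commute p (m 5) → ¬ Commute p g → Commute p (m 5 * g * (m 5)⁻¹) := by
  classical
  obtain ⟨F, _, _, pt, θ, L⟩ := exists_locModel S hz
  have M := L.M
  have hF := M.card
  obtain ⟨v, hv, hvi⟩ := exists_chain M m hm hpat
  have hd := hasDual_six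
  have hρd : ∀ k : Fin 6, bform (![1, 0, 1, 0, 1, 0] : Fin 6 → ZMod 2) (Pi.single k 1)
      = if k = 5 then 1 else 0 := by decide +kernel
  have hgv := pt_eq_dual M hv hg hρd (fun j => (hvi j).1) fun j hj => (hvi j).2.symm ▸ hgc j hj
  set θv := bvec hF v ![1, 0, 1, 0, 1, 0] with hθv
  set θw := bvec hF v ![1, 0, 1, 0, 1, 1] with hθw
  have hiθ : Iso θv := bvec_iso hv hd (by decide)
  have hiw : Iso θw := bvec_iso hv hd (by decide)
  have hg1 : m 5 * g * (m 5)⁻¹ = pt θw := by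
    rw [hgv, ← (hvi 5).2, ← bvec_single hF v 5, conj_bvec S hz L hv hd (by simp) (by decide), hθw]
    congr 2
    decide +kernel
  set d3 := bvec hF v ![1, 0, 1, 0, 0, 0] with hd3
  -- normalised vectors
  have key : ∀ p ∈ adj D z, Commute p (m 0) → Commute p (m 1) → Commute p (m 2) → ¬ Commute p (m 3) →
      ¬ Commute p (m 5) → ∃ l : F, l ≠ 0 ∧ ((Commute p g ∧ p = pt (d3 + l • θv)) ∨
        (¬ Commute p g ∧ Commute p (pt θw))) := by
    intro p hp c0 c1 c2 n3 n5
    obtain ⟨u0, hu0, rfl⟩ := M.surj p hp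
    have h3 : hf u0 (v 3) ≠ 0 := fun e => n3 ((hvi 3).2 ▸ (M.comm _ _ hu0 (hvi 3).1).2 e)
    obtain ⟨u, hu, hpu, hu3⟩ : ∃ u, Iso u ∧ pt u = pt u0 ∧ hf u (v 3) = 1 :=
      ⟨(hf u0 (v 3))⁻¹ • u0, hu0.smul hF (inv_ne_zero h3), M.smul _ _ hu0 (inv_ne_zero h3),
        by rw [hf_smul_left hF, inv_mul_cancel₀ h3]⟩
    rw [← hpu] at c0 c1 c2 n5 ⊢
    have z' : ∀ j, Commute (pt u) (m j) → hf u (v j) = 0 := fun j hc =>
      (M.comm _ _ hu (hvi j).1).1 (by rw [(hvi j).2]; exact hc)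
    have u0' := z' 0 c0
    have u1' := z' 1 c1
    have u2' := z' 2 c2
    set μ := hf u (v 4) with hμ
    set l := hf u (v 5) with hl
    have hl0 : l ≠ 0 := fun e => n5 ((hvi 5).2 ▸ (M.comm _ _ hu (hvi 5).1).2 e)
    have eu : u = d3 + μ • v 5 + l • θv := ext_chain hv fun j => by
      rw [hf_add_left hF, hf_add_left hF, hf_smul_left hF, hf_smul_left hF, hd3, hθv, hf_bvec_single hv,
        hf_bvec_single hv, ← bvec_single hF v 5, hf_bvec_single hv, hρd]
      fin_cases j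
      · simpa [show bform (![1, 0, 1, 0, 0, 0] : Fin 6 → ZMod 2) (Pi.single 0 1) = 0 by decide +kernel,
          show bform (Pi.single 5 1) (Pi.single 0 1 : Fin 6 → ZMod 2) = 0 by decide +kernel] using u0'
      · simpa [show bform (![1, 0, 1, 0, 0, 0] : Fin 6 → ZMod 2) (Pi.single 1 1) = 0 by decide +kernel,
          show bform (Pi.single 5 1) (Pi.single 1 1 : Fin 6 → ZMod 2) = 0 by decide +kernel] using u1'
      · simpa [show bform (![1, 0, 1, 0, 0, 0] : Fin 6 → ZMod 2) (Pi.single 2 1) = 0 by decide +kernel,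
          show bform (Pi.single 5 1) (Pi.single 2 1 : Fin 6 → ZMod 2) = 0 by decide +kernel] using u2'
      · simpa [show bform (![1, 0, 1, 0, 0, 0] : Fin 6 → ZMod 2) (Pi.single 3 1) = 1 by decide +kernel,
          show bform (Pi.single 5 1) (Pi.single 3 1 : Fin 6 → ZMod 2) = 0 by decide +kernel] using hu3
      · simp [show bform (![1, 0, 1, 0, 0, 0] : Fin 6 → ZMod 2) (Pi.single 4 1) = 0 by decide +kernel,
          show bform (Pi.single 5 1) (Pi.single 4 1 : Fin 6 → ZMod 2) = 1 by decide +kernel, hμ]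
      · simp [show bform (![1, 0, 1, 0, 0, 0] : Fin 6 → ZMod 2) (Pi.single 5 1) = 0 by decide +kernel,
          show bform (Pi.single 5 1) (Pi.single 5 1 : Fin 6 → ZMod 2) = 0 by decide +kernel, hl]
    have hd3v : d3 = v 0 + v 2 := by
      rw [hd3, show (![1, 0, 1, 0, 0, 0] : Fin 6 → ZMod 2) = Pi.single 0 1 + Pi.single 2 1 by decide,
        bvec_add, bvec_single, bvec_single]
    have hθvv : θv = v 0 + v 2 + v 4 := by
      rw [hθv, show (![1, 0, 1, 0, 1, 0] : Fin 6 → ZMod 2)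
        = Pi.single 0 1 + Pi.single 2 1 + Pi.single 4 1 by decide, bvec_add, bvec_add,
        bvec_single, bvec_single, bvec_single]
    have uθ : hf u θv = μ := by
      rw [hθvv, hf_add_right hF, hf_add_right hF, u0', u2', zero_add, zero_add]
    have uθw : hf u θw = μ + l := by
      rw [hθw, show (![1, 0, 1, 0, 1, 1] : Fin 6 → ZMod 2)
        = ![1, 0, 1, 0, 1, 0] + Pi.single 5 1 by decide, bvec_add, bvec_single, ← hθv, hf_add_right hF, uθ]
    have hrel : μ ^ 2 * l + l ^ 2 * μ = 0 := by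
      have := hu.2
      nth_rw 2 [eu] at this
      rwa [hf_add_right hF, hf_add_right hF, hf_smul_right hF, hf_smul_right hF, hd3v, hf_add_right hF, u0',
        u2', uθ, add_zero, zero_add, ← hl] at this
    have hcg : Commute (pt u) g ↔ μ = 0 := by rw [hgv, M.comm _ _ hu hiθ, uθ]
    refine ⟨l, hl0, ?_⟩
    by_cases e : μ = 0
    · exact Or.inl ⟨hcg.2 e, by rw [eu, e, zero_smul, add_zero]⟩
    · refine Or.inr ⟨mt hcg.1 e, (M.comm _ _ hu hiw).2 ?_⟩
      rw [uθw]
      have : μ * l * (μ + l) = 0 := by linear_combination hrel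
      simpa [e, hl0] using this
  constructor
  · calc _ ≤ ((Finset.univ.erase (0 : F)).image fun l => pt (d3 + l • θv) : Finset G).card := by
          rw [← Set.ncard_coe_finset]
          refine Set.ncard_le_ncard (fun p ⟨hp, c0, c1, c2, n3, n5, cg⟩ => ?_) (Finset.finite_toSet _)
          obtain ⟨l, hl, ⟨-, e⟩ | ⟨n, -⟩⟩ := key p hp c0 c1 c2 n3 n5
          · exact Finset.mem_coe.2 (Finset.mem_image.2 ⟨l, Finset.mem_erase.2 ⟨hl, Finset.mem_univ _⟩, e.symm⟩)
          · exact absurd cg n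
      _ ≤ (Finset.univ.erase (0 : F)).card := Finset.card_image_le
      _ = 3 := by rw [Finset.card_erase_of_mem (Finset.mem_univ _), Finset.card_univ, hF]
  · intro p hp c0 c1 c2 n3 n5 ng
    obtain ⟨l, -, ⟨c, -⟩ | ⟨-, c⟩⟩ := key p hp c0 c1 c2 n3 n5
    · exact absurd c ng
    · exact hg1.symm ▸ c

end Dual

end Cfsg.Agent.FischerM22
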