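/-
Involutory automorphisms of a group of type M(22).

Main results (namespace `Cfsg.Agent.FischerM22`):
* `common_two` : two noncommuting common neighbours of `a, y` have a neighbour among the common neighbours;
* `FreePair.false` : an involutory automorphism with no fixed member does not exist;
* `involution_fixes` : an involutory automorphism preserving `D` fixes a member.
-/
import Cfsg.Agent.Lib.FischerM22.PairKernel

set_option autoImplicit false

namespace Cfsg.Agent.FischerM22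

open Cfsg.Agent.Unitary Cfsg.Agent.U62Cover Cfsg.Agent.ThreeTrans Cfsg.Agent.ThreeTransSU

section Vectors

variable {F : Type*} [Field F] [Fintype F]

/-- A partner of `y` orthogonal to `w`. -/
theorem exists_partner (hF : Fintype.card F = 4) {y w : Fin 4 → F} (h : OrthPair y w) :
    ∃ z, Iso z ∧ hf y z = 1 ∧ hf w z = 0 := by
  obtain ⟨x, hx⟩ := exists_dual hF h.li ![1, 0]
  have hxy : hf x y = 1 := hx 0
  have hxw : hf x w = 0 := hx 1
  obtain ⟨t, ht⟩ := exists_trace hF ((herm hF).self_fixed x)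
  have e : ∀ u, hf y u = 0 → hf (x + t • y) u = hf x u := fun u hu => by
    rw [hf_add_left hF, hf_smul_left hF, hu, mul_zero, add_zero]
  have h1 : hf (x + t • y) y = 1 := (e y h.1.2).trans hxy
  refine ⟨x + t • y, ⟨fun h0 => ?_, ?_⟩, hf_eq_one_symm hF h1, (hf_eq_zero_symm hF).1 ((e w h.2.2.1).trans hxw)⟩
  · rw [h0, hf_zero_left hF] at h1; exact zero_ne_one h1
  · rw [hf_add_right hF, hf_smul_right hF, h1, hf_add_left hF, hf_smul_left hF, hf_eq_one_symm hF hxy]
    have ht' : t + t ^ 2 = hf x x := ht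
    linear_combination (hf x x) * two_eq_zero hF + ht'

/-- A totally isotropic subspace has dimension at most two. -/
theorem mem_line (hF : Fintype.card F = 4) {u v x : Fin 4 → F} (h : OrthPair u v) (hx : Iso x)
    (hu : hf x u = 0) (hv : hf x v = 0) : ∃ α β : F, x = α • u + β • v := by
  by_cases hsp : x ∈ Submodule.span F (Set.range ![u, v])
  · obtain ⟨c, hc⟩ := (Submodule.mem_span_range_iff_exists_fun F).1 hsp
    rw [Fin.sum_univ_two] at hc
    exact ⟨c 0, c 1, hc.symm⟩
  have hli := linearIndependent_fin_snoc.2 ⟨h.li, hsp⟩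
  have horth : ∀ i j, hf ((Fin.snoc ![u, v] x : Fin 3 → Fin 4 → F) i)
      ((Fin.snoc ![u, v] x : Fin 3 → Fin 4 → F) j) = 0 := fun i j => by
    fin_cases i <;> fin_cases j <;>
      simp [Fin.snoc, h.1.2, h.2.1.2, hx.2, hu, hv, h.2.2.1, (hf_eq_zero_symm hF).1 h.2.2.1,
        (hf_eq_zero_symm hF).1 hu, (hf_eq_zero_symm hF).1 hv]
  have := two_mul_le hF hli horth
  omega

/-- A bijection of the field of four elements multiplicative up to a constant. -/
theorem mult_cases (hF : Fintype.card F = 4) {L : F → F} (hL : Function.Injective L) (h0 : L 0 = 0)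
    (hm : ∀ s x, L (s * x) * L 1 = L s * L x) :
    (∀ x, L x = L 1 * x) ∨ ∀ x, L x = L 1 * x ^ 2 := by
  obtain ⟨ω, hω0, hω⟩ := exists_omega hF
  have hω1 : ω ≠ 1 := fun h => by
    rw [h] at hω; exact one_ne_zero (show (1 : F) = 0 by linear_combination -hω)
  have h1 : L 1 ≠ 0 := fun h => one_ne_zero (hL (h.trans h0.symm))
  have hω4 : (ω ^ 2) ^ 2 = ω := pow_q_pow_q (card_sq hF) ω
  have e2 := hm ω ω
  rw [← pow_two] at e2
  rcases four_cases hF hω (L ω / L 1) with h | h | h | h
  · exact absurd (hL ((((div_eq_zero_iff).1 h).resolve_right h1).trans h0.symm)) hω0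
  · exact absurd (hL ((div_eq_one_iff_eq h1).1 h)) hω1
  · rw [div_eq_iff h1] at h
    left
    intro x
    rcases four_cases hF hω x with rfl | rfl | rfl | rfl
    · rw [h0, mul_zero]
    · rw [mul_one]
    · rw [h, mul_comm]
    · refine mul_right_cancel₀ h1 ?_
      rw [e2, h]; ring
  · rw [div_eq_iff h1] at h
    right
    intro x
    rcases four_cases hF hω x with rfl | rfl | rfl | rfl
    · rw [h0]; ring
    · ring
    · rw [h, mul_comm]
    · refine mul_right_cancel₀ h1 ?_
      rw [e2, h]; ring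

/-- A semilinear involution of the affine line fixes a point. -/
theorem frob_fixed (hF : Fintype.card F = 4) {μ e : F} (hμ : μ ≠ 0)
    (h : μ * (μ * 0 ^ 2 + e) ^ 2 + e = 0) : ∃ t, μ * t ^ 2 + e = t := by
  by_cases he : e = 0
  · exact ⟨0, by rw [he]; ring⟩
  obtain ⟨ω, -, hω⟩ := exists_omega hF
  have h3 : μ ^ 3 = 1 := U62Cover.pow_three hF hμ
  have h1 : μ * e + 1 = 0 := by
    refine (mul_eq_zero.1 (show e * (μ * e + 1) = 0 by linear_combination h)).resolve_left he
  have he2 : e = μ ^ 2 := by linear_combination μ ^ 2 * h1 - e * h3 - μ ^ 2 * two_eq_zero hF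
  exact ⟨ω * μ ^ 2, by rw [he2]; linear_combination μ ^ 2 * ω ^ 2 * h3 + μ ^ 2 * hω + μ ^ 2 * two_eq_zero hF⟩

/-- A hermitian form vanishing on the isotropic vectors, given by a linear map, is a multiple of the form. -/
theorem scalar_of_iso_orth (hF : Fintype.card F = 4) (A : (Fin 4 → F) →ₗ[F] (Fin 4 → F))
    (h : ∀ y, Iso y → hf y (A y) = 0) : ∃ r : F, ∀ y, A y = r • y := by
  obtain ⟨ω, hω0, hω⟩ := exists_omega hF
  let e : Fin 4 → (Fin 4 → F) := fun i => Pi.single i 1
  set m : Fin 4 → Fin 4 → F := fun i j => hf (e i) (A (e j)) with hm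
  have ho := single_orthonormal (F := F) (card_sq hF) 4
  have key : ∀ i j, i ≠ j → ∀ s : F, s ≠ 0 → m i i + m j j + s ^ 2 * m i j + s * m j i = 0 := by
    intro i j hij s hs
    have hI : Iso (e i + s • e j) := by
      refine ⟨fun h0 => ?_, ?_⟩
      · have := congrFun h0 i
        simp [e, hij] at this
      · simp only [hf_add_left hF, hf_add_right hF, hf_smul_left hF, hf_smul_right hF]
        rw [show hf (e i) (e i) = 1 from ho.1 i, show hf (e j) (e j) = 1 from ho.1 j,
          show hf (e i) (e j) = 0 from ho.2 hij, show hf (e j) (e i) = 0 from ho.2 hij.symm]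
        linear_combination mul_sq_self hF hs + two_eq_zero hF
    have := h _ hI
    simp only [map_add, map_smul, hf_add_left hF, hf_add_right hF, hf_smul_left hF, hf_smul_right hF] at this
    simp only [hm]
    linear_combination this - hf (e j) (A (e j)) * mul_sq_self hF hs
  have hω1 : ω - 1 ≠ 0 := fun e' => by
    rw [sub_eq_zero.1 e'] at hω; exact one_ne_zero (show (1 : F) = 0 by linear_combination -hω)
  have hω4 : (ω ^ 2) ^ 2 = ω := pow_q_pow_q (card_sq hF) ω
  have off : ∀ i j, i ≠ j → m i i = m j j ∧ m j i = 0 := by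
    intro i j hij
    have k1 := key i j hij 1 one_ne_zero
    have k2 := key i j hij ω hω0
    have k3 := key i j hij (ω ^ 2) (pow_ne_zero _ hω0)
    rw [hω4] at k3
    refine ⟨?_, ?_⟩
    · linear_combination k1 + k2 + k3 - (m i j + m j i) * (hω + (1 + ω) * two_eq_zero hF)
        - (m i i + 2 * m j j) * two_eq_zero hF
    · linear_combination k1 + ω ^ 2 * k2 + ω * k3
        - (m i i + m j j + m i j) * (hω + (1 + ω) * two_eq_zero hF)
        - m i j * ω * U62Cover.pow_three hF hω0 - m j i * two_eq_zero hF - 2 * m j i * U62Cover.pow_three hF hω0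
  refine ⟨(m 0 0) ^ 2, fun y => ?_⟩
  have hAe : ∀ j, A (e j) = (m 0 0) ^ 2 • e j := fun j => by
    funext i
    have hv : hf (e i) (A (e j)) = (A (e j) i) ^ 2 := by
      rw [hf_symm hF (A (e j)) (e i)]
      exact congrArg (· ^ 2) (hermForm_single_right (card_sq hF) (A (e j)) i)
    have e1 : A (e j) i = m i j ^ 2 := by
      simp only [hm, hv, pow_q_pow_q (card_sq hF)]
    rw [e1, Pi.smul_apply, smul_eq_mul]
    by_cases hij : i = j
    · subst hij
      rw [show e i i = 1 from Pi.single_eq_same _ _, mul_one]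
      by_cases h0 : (0 : Fin 4) = i
      · rw [h0]
      · rw [(off 0 i h0).1]
    · rw [(off j i (Ne.symm hij)).2, show e j i = 0 from Pi.single_eq_of_ne hij _]
      ring
  have : A = (m 0 0) ^ 2 • LinearMap.id := LinearMap.pi_ext' fun j => LinearMap.ext_ring (hAe j)
  rw [this, LinearMap.smul_apply, LinearMap.id_apply]

end Vectors

variable {G : Type*} [Group G] [Finite G] {D : Set G}

/-- Two noncommuting common neighbours have a neighbour among the common neighbours. -/
theorem common_two (S : Fi22Setup D) {a y b x : G} (ha : a ∈ D) (hy : y ∈ D) (hay : ¬ Commute a y)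
    (hb : b ∈ common D a y) (hx : x ∈ common D a y) (hbx : ¬ Commute b x) :
    ∃ q ∈ common D a y, q ∈ adj D b ∧ q ∈ adj D x := by
  by_contra hcon
  have hD := S.cls.1
  set W := common D a y with hW
  have hdis : ∀ q ∈ W, q ∈ adj D b → q ∉ adj D x := fun q h1 h2 h3 => hcon ⟨q, h1, h2, h3⟩
  have hconjW : ∀ q ∈ W, b * q * b⁻¹ ∈ W := fun q hq => by
    have h := common_conj S.grp.2.1 (y := y) (hb.1.2.2.symm : Commute b a)
    rw [show b * y * b⁻¹ = y by rw [← hb.2.2.2.eq, mul_inv_cancel_right]] at h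
    rw [hW, h]; exact ⟨q, hq, rfl⟩
  set x' := b * x * b⁻¹ with hx'
  have hx'W : x' ∈ W := hconjW x hx
  have hbb : b * b = 1 := mul_self hD hb.1.1
  have hbinv : b⁻¹ = b := inv_eq_of_mul_eq_one_left hbb
  have hcb : ∀ q, Commute q b → Commute q x' → Commute q x := fun q h1 h2 => by
    have h3 := h2.map (MulAut.conj b).toMonoidHom
    simp only [MulEquiv.coe_toMonoidHom, MulAut.conj_apply, hbinv] at h3
    rw [hx', hbinv, show b * q * b = q by rw [← h1.eq, mul_assoc, hbb, mul_one],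
      show b * (b * x * b) * b = x by simp only [mul_assoc, hbb, mul_one]; rw [← mul_assoc, hbb, one_mul]] at h3
    exact h3
  have hxx' : ¬ Commute x x' := fun h => by
    rw [hx', hbinv, braid hD hb.1.1 hx.1.1 hbx] at h
    refine hbx ?_
    calc b * x = x * (x * b * x) := by simp only [mul_assoc, mul_self_cancel hD hx.1.1]
      _ = x * b * x * x := h.eq
      _ = x * b := by simp only [mul_assoc, mul_self hD hx.1.1, mul_one]
  have hbx' : ¬ Commute b x' := fun h => hbx (by
    have := h.map (MulAut.conj b).toMonoidHom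
    simp only [MulEquiv.coe_toMonoidHom, MulAut.conj_apply, hbinv] at this
    rwa [hx', hbinv, show b * b * b = b by rw [hbb, one_mul],
      show b * (b * x * b) * b = x by simp only [mul_assoc, hbb, mul_one]; rw [← mul_assoc, hbb, one_mul]] at this)
  set N : G → Set G := fun u => W ∩ adj D u with hN
  have h45 : ∀ u ∈ W, (N u).ncard = 45 := fun u hu => common_deg S ha hy hay hu
  have hnot : ∀ u v, ¬ Commute u v → u ∉ N v := fun u v h hu => h hu.2.2.2.symm
  have hself : ∀ u, u ∉ N u := fun u hu => hu.2.2.1 rfl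
  have d1 : Disjoint (N b) (N x) := Set.disjoint_left.2 fun q h1 h2 => hdis q h1.1 h1.2 h2.2
  have d2 : Disjoint (N b) (N x') := Set.disjoint_left.2 fun q h1 h2 =>
    hdis q h1.1 h1.2 ⟨h1.2.1, fun e => hnot x b (fun c => hbx c.symm) (e ▸ h1),
      (hcb q h1.2.2.2.symm h2.2.2.2.symm).symm⟩
  have d3 : Disjoint (N x) (N x') := Set.disjoint_left.2 fun q h1 h2 => by
    have hcx : Commute q x := h1.2.2.2.symm
    have hcx' : Commute q x' := h2.2.2.2.symm
    have hbq : Commute q b := by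
      have e : b = x * x' * x := by
        rw [hx', hbinv, braid hD hb.1.1 hx.1.1 hbx]
        simp only [mul_assoc, mul_self hD hx.1.1, mul_one, mul_self_cancel hD hx.1.1]
      rw [e]
      exact (hcx.mul_right hcx').mul_right hcx
    exact hdis q h1.1 ⟨h1.2.1, fun e => hnot b x hbx (e ▸ h1), hbq.symm⟩ h1.2
  have hsub : N b ∪ N x ∪ N x' ∪ {b, x, x'} ⊆ W := by
    rintro q (((h | h) | h) | h)
    · exact h.1
    · exact h.1
    · exact h.1
    · rcases h with rfl | rfl | rfl
      exacts [hb, hx, hx'W]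
  have dis : Disjoint (N b ∪ N x ∪ N x') {b, x, x'} := Set.disjoint_right.2 fun q hq => by
    rintro ((h | h) | h) <;> rcases hq with rfl | rfl | rfl <;>
      first
        | exact hself _ h
        | exact hnot _ _ hbx h
        | exact hnot _ _ (fun c => hbx c.symm) h
        | exact hnot _ _ hbx' h
        | exact hnot _ _ (fun c => hbx' c.symm) h
        | exact hnot _ _ hxx' h
        | exact hnot _ _ (fun c => hxx' c.symm) h
  have hcard := Set.ncard_le_ncard hsub (Set.toFinite _)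
  rw [common_card S ha hy hay, Set.ncard_union_eq dis, Set.ncard_union_eq (d2.union_left d3),
    Set.ncard_union_eq d1, h45 b hb, h45 x hx, h45 x' hx'W] at hcard
  omega

/-- An involutory automorphism without fixed members, exchanging `a` and `b`. -/
structure FreePair {F : Type*} [Field F] [Fintype F] (D : Set G) (φ : G ≃* G) (a b : G)
    (pt : (Fin 6 → F) → G) : Prop where
  P : PairModel D a b pt
  invol : ∀ x, φ (φ x) = x
  pres : ∀ x, φ x ∈ D ↔ x ∈ D
  free : ∀ d ∈ D, φ d ≠ d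
  comm : ∀ d ∈ D, Commute d (φ d)
  swap : φ a = b

namespace FreePair

variable {F : Type*} [Field F] [Fintype F] {φ : G ≃* G} {a b : G} {pt : (Fin 6 → F) → G}

omit [Finite G] in
theorem swap' (H : FreePair D φ a b pt) : φ b = a := by rw [← H.swap, H.invol]

theorem map_adj (H : FreePair D φ a b pt) {u v : G} (h : v ∈ adj D u) : φ v ∈ adj D (φ u) :=
  ⟨(H.pres v).2 h.1, fun e => h.2.1 (φ.injective e), h.2.2.map φ.toMonoidHom⟩

theorem map_common (H : FreePair D φ a b pt) {q : G} (hq : q ∈ common D a b) :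
    φ q ∈ common D a b :=
  ⟨H.swap' ▸ H.map_adj hq.2, H.swap ▸ H.map_adj hq.1⟩

theorem map_hex (H : FreePair D φ a b pt) {q p : G} (hp : p ∈ hexSet D a b q) :
    φ p ∈ hexSet D a b (φ q) := by
  have h := hexSet_image φ H.pres a b q
  rw [H.swap, H.swap', hexSet_swap] at h
  rw [h]; exact ⟨p, hp, rfl⟩

theorem map_fix (H : FreePair D φ a b pt) {k : G} (hk : k ∈ pairFix a b) : φ k ∈ pairFix a b := by
  obtain ⟨h1, h2⟩ := mem_pairFix.1 hk
  exact mem_pairFix.2 ⟨H.swap' ▸ h2.map φ.toMonoidHom, H.swap ▸ h1.map φ.toMonoidHom⟩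

theorem map_ker (H : FreePair D φ a b pt) (k : ↥(pairFix a b)) (hk : H.P.rho k = 1) :
    H.P.rho ⟨φ k, H.map_fix k.2⟩ = 1 := by
  refine (H.P.rho_eq_one_iff _).2 fun q hq => ?_
  have h := H.map_hex ((H.P.rho_eq_one_iff k).1 hk _ (H.map_common hq))
  rw [H.invol, map_mul, map_mul, map_inv, H.invol] at h
  exact h

/-- The image of a hexad. -/
theorem exists_image (H : FreePair D φ a b pt) : ∃ (Y : (Fin 4 → F) → (Fin 4 → F)) (π : (Fin 4 → F) → F → F),
    ∀ y, Iso y → Iso (Y y) ∧ ∀ t, φ (Q pt t y) = Q pt (π y t) (Y y) := by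
  have h : ∀ y, Iso y → ∃ (Z : Fin 4 → F) (p : F → F), Iso Z ∧ ∀ t, φ (Q pt t y) = Q pt (p t) Z := by
    intro y hy
    obtain ⟨t0, Z, hZ, e0⟩ := H.P.exists_Q (H.map_common (H.P.Q_mem 0 hy))
    have hall : ∀ t, ∃ s, φ (Q pt t y) = Q pt s Z := fun t => by
      have h1 := H.map_hex (H.P.hexSet_eq 0 t hy)
      rw [e0] at h1
      have hm := H.map_common (H.P.Q_mem t hy)
      exact H.P.exists_Q_of_hex hZ h1 hm.1.2.1 hm.2.2.1
    choose p hp using hall
    exact ⟨Z, p, hZ, hp⟩
  choose! Y π hY using h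
  exact ⟨Y, π, hY⟩

theorem false (H : FreePair D φ a b pt) : False := by
  classical
  have P := H.P
  have hF := P.M.card
  have hD := P.S.cls.1
  obtain ⟨Y, π, hY⟩ := H.exists_image
  obtain ⟨ω, hω0, hω⟩ := exists_omega hF
  -- translations
  let φK : ↥(pairFix a b) → ↥(pairFix a b) := fun k => ⟨φ k, H.map_fix k.2⟩
  let L : (Fin 4 → F) → F → F := fun y x => π y x - π y 0
  have hπinj : ∀ y, Iso y → Function.Injective (π y) := fun y hy t t' e => by
    refine P.Q_inj_left hy (φ.injective ?_)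
    rw [(hY y hy).2, (hY y hy).2, e]
  have hπsurj : ∀ y, Iso y → Function.Surjective (π y) := fun y hy =>
    Finite.injective_iff_surjective.1 (hπinj y hy)
  have key : ∀ k, P.rho k = 1 → ∀ y, Iso y → ∀ t,
      π y (t + P.shift k y) = π y t + P.shift (φK k) (Y y) := by
    intro k hk y hy t
    have h1 := (hY y hy).2 (t + P.shift k y)
    rw [← P.conj_Q' hk t hy, map_mul, map_mul, map_inv, (hY y hy).2] at h1
    rw [show φ (k : G) = (φK k : G) from rfl, P.conj_Q' (H.map_ker k hk) _ (hY y hy).1] at h1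
    exact (P.Q_inj_left (hY y hy).1 h1).symm
  have key0 : ∀ k, P.rho k = 1 → ∀ y, Iso y → P.shift (φK k) (Y y) = L y (P.shift k y) := by
    intro k hk y hy
    have h := key k hk y hy 0
    rw [zero_add] at h
    show _ = π y (P.shift k y) - π y 0
    rw [h, add_sub_cancel_left]
  have hindep : ∀ y u, Iso y → Iso u → ∀ c : F, Y u = c • Y y → ∃ c' : F, u = c' • y := by
    intro y u hy hu c e
    have hc : c ≠ 0 := fun h0 => (hY u hu).1.1 (by rw [e, h0, zero_smul])
    obtain ⟨t, ht⟩ := hπsurj y hy (c⁻¹ * π u 0)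
    have h1 := (hY u hu).2 0
    rw [e, ← mul_inv_cancel_left₀ hc (π u 0), P.Q_smul _ (hY y hy).1 hc, ← ht, ← (hY y hy).2] at h1
    obtain ⟨c', -, -, e'⟩ := P.Q_inj hy hu (φ.injective h1).symm
    exact ⟨c', e'⟩
  -- along a line
  have step : ∀ y w, OrthPair y w → ∀ s : F, s ≠ 0 → ∃ γ : F, γ ≠ 0 ∧ ∀ x, L y (s * x) = γ * L w x := by
    intro y w hP s hs
    obtain ⟨hy, hw, hyw, hne⟩ := hP
    have hwy := (hf_eq_zero_symm hF).1 hyw
    have hu : Iso (y + s • w) := by
      refine ⟨fun h => hne (-s⁻¹) ?_, ?_⟩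
      · rw [neg_smul, eq_neg_iff_add_eq_zero, ← inv_smul_smul₀ hs w, ← smul_add, add_comm, h, smul_zero]
      · simp only [hf_add_left hF, hf_add_right hF, hf_smul_left hF, hf_smul_right hF, hy.2, hw.2, hyw, hwy]
        ring
    have horth : ∀ p q, Iso p → Iso q → hf p q = 0 → hf (Y p) (Y q) = 0 := fun p q hp hq h => by
      have hc : Commute (Q pt 0 p) (Q pt 0 q) :=
        (P.M.comm _ _ (comb_iso hF 0 hp) (comb_iso hF 0 hq)).2 ((hf_comb hF _ _ _ _).trans h)
      have h1 := hc.map φ.toMonoidHom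
      simp only [MulEquiv.coe_toMonoidHom, (hY p hp).2, (hY q hq).2] at h1
      rw [← hf_comb hF (π p 0) (π q 0)]
      exact (P.M.comm _ _ (comb_iso hF _ (hY p hp).1) (comb_iso hF _ (hY q hq).1)).1 h1
    have hP' : OrthPair (Y y) (Y w) := ⟨(hY y hy).1, (hY w hw).1, horth y w hy hw hyw, fun c e => by
      obtain ⟨c', e'⟩ := hindep y w hy hw c e
      exact hne c' e'⟩
    obtain ⟨α, β, e⟩ := mem_line hF hP' (hY _ hu).1
      (horth _ _ hu hy (by rw [hf_add_left hF, hf_smul_left hF, hy.2, hwy]; ring))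
      (horth _ _ hu hw (by rw [hf_add_left hF, hf_smul_left hF, hyw, hw.2]; ring))
    have hα : α ≠ 0 := fun h0 => by
      rw [h0, zero_smul, zero_add] at e
      obtain ⟨c', e'⟩ := hindep w _ hw hu β e
      have hy' : y = (c' - s) • w := by rw [sub_smul, ← e', add_sub_cancel_right]
      have hc' : c' - s ≠ 0 := fun h => hy.1 (by rw [hy', h, zero_smul])
      exact hne (c' - s)⁻¹ (by rw [hy', inv_smul_smul₀ hc'])
    have hβ : β ≠ 0 := fun h0 => by
      rw [h0, zero_smul, add_zero] at e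
      obtain ⟨c', e'⟩ := hindep y _ hy hu α e
      exact hne (s⁻¹ * (c' - 1)) (by
        rw [mul_smul, sub_smul, one_smul, ← e', add_sub_cancel_left, inv_smul_smul₀ hs])
    obtain ⟨z1, hz1, a1, b1⟩ := exists_partner hF ⟨hy, hw, hyw, hne⟩
    obtain ⟨z2, hz2, a2, b2⟩ := exists_partner hF (y := w) (w := y) ⟨hw, hy, hwy, fun c e' => by
      have hc : c ≠ 0 := fun h0 => hy.1 (by rw [e', h0, zero_smul])
      exact hne c⁻¹ (by rw [e', inv_smul_smul₀ hc])⟩
    have h3 : ∀ x1 x2, L (y + s • w) (x1 + s * x2) = α * L y x1 + β * L w x2 := by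
      intro x1 x2
      obtain ⟨k1, -, r1, g1⟩ := P.exists_shift x1 hz1
      obtain ⟨k2, -, r2, g2⟩ := P.exists_shift x2 hz2
      have hk : P.rho (k1 * k2) = 1 := by rw [map_mul, r1, r2, one_mul]
      have v1 : P.shift (k1 * k2) y = x1 := by
        rw [P.shift_mul k1 r2, LinearMap.add_apply, g1, g2, a1, b2]; ring
      have v2 : P.shift (k1 * k2) w = x2 := by
        rw [P.shift_mul k1 r2, LinearMap.add_apply, g1, g2, b1, a2]; ring
      have h := key0 _ hk _ hu
      rw [map_add, map_smul, v1, v2, e, map_add, map_smul, map_smul, key0 _ hk _ hy, key0 _ hk _ hw,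
        v1, v2] at h
      simpa using h.symm
    refine ⟨β / α, div_ne_zero hβ hα, fun x => ?_⟩
    have e1 := h3 (s * x) 0
    have e2 := h3 0 x
    have hL0 : ∀ u, L u 0 = 0 := fun u => sub_self _
    rw [mul_zero, add_zero, hL0, mul_zero, add_zero] at e1
    rw [zero_add, hL0, mul_zero, zero_add, e1] at e2
    field_simp
    linear_combination e2
  have hL0 : ∀ u, L u 0 = 0 := fun u => sub_self _
  have hLinj : ∀ u, Iso u → Function.Injective (L u) := fun u hu t t' e =>
    hπinj u hu (sub_left_injective e)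
  have hmult : ∀ y w, OrthPair y w → ∀ s x, L y (s * x) * L y 1 = L y s * L y x := by
    intro y w hP s x
    by_cases hs : s = 0
    · rw [hs, zero_mul, hL0, zero_mul, zero_mul]
    obtain ⟨γ, hγ, e⟩ := step y w hP s hs
    obtain ⟨γ1, hγ1, e1⟩ := step y w hP 1 one_ne_zero
    have a1 := e1 x
    have a2 := e1 1
    have a3 := e 1
    rw [one_mul] at a1 a2
    rw [mul_one] at a3
    rw [e x, a1, a2, a3]; ring
  let Lin : (Fin 4 → F) → Prop := fun y => ∀ x, L y x = L y 1 * x
  have prop : ∀ y w, OrthPair y w → (Lin y ↔ Lin w) := by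
    intro y w hP
    obtain ⟨γ, hγ, e⟩ := step y w hP 1 one_ne_zero
    simp only [one_mul] at e
    simp only [Lin, e]
    exact ⟨fun h x => mul_left_cancel₀ hγ (by rw [h x, mul_assoc]), fun h x => by rw [h x, mul_assoc]⟩
  -- a frame
  set y1 : Fin 4 → F := ![1, 1, 0, 0] with hy1
  set y2 : Fin 4 → F := ![0, 0, 1, 1] with hy2
  set z1 : Fin 4 → F := ![ω, ω ^ 2, 0, 0] with hz1
  set z2 : Fin 4 → F := ![0, 0, ω, ω ^ 2] with hz2
  have hω3 : (ω ^ 2) ^ 2 = ω := pow_q_pow_q (card_sq hF) ω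
  have i1 : Iso y1 := ⟨fun e => by simpa [hy1] using congrFun e 0, by
    simp [hy1, hf, Cfsg.hermForm, Fin.sum_univ_four]; linear_combination two_eq_zero hF⟩
  have i2 : Iso y2 := ⟨fun e => by simpa [hy2] using congrFun e 2, by
    simp [hy2, hf, Cfsg.hermForm, Fin.sum_univ_four]; linear_combination two_eq_zero hF⟩
  have j1 : Iso z1 := ⟨fun e => hω0 (by simpa [hz1] using congrFun e 0), by
    simp [hz1, hf, Cfsg.hermForm, Fin.sum_univ_four, hω3]; linear_combination ω ^ 3 * two_eq_zero hF⟩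
  have j2 : Iso z2 := ⟨fun e => hω0 (by simpa [hz2] using congrFun e 2), by
    simp [hz2, hf, Cfsg.hermForm, Fin.sum_univ_four, hω3]; linear_combination ω ^ 3 * two_eq_zero hF⟩
  have frame : ∀ u : Fin 4 → F, u = hf u z1 • y1 + hf u y1 • z1 + hf u z2 • y2 + hf u y2 • z2 := fun u => by
    funext i
    fin_cases i <;>
      simp [hy1, hy2, hz1, hz2, hf, Cfsg.hermForm, Fin.sum_univ_four, hω3]
    · linear_combination -u 0 * hω - (u 0 * ω + u 1 * ω) * two_eq_zero hF
    · linear_combination -u 1 * hω - (u 0 * ω ^ 2 + u 1 * ω) * two_eq_zero hF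
    · linear_combination -u 2 * hω - (u 2 * ω + u 3 * ω) * two_eq_zero hF
    · linear_combination -u 3 * hω - (u 2 * ω ^ 2 + u 3 * ω) * two_eq_zero hF
  -- every point is joined to the first
  have hpair : OrthPair y1 y2 := ⟨i1, i2, by simp [hy1, hy2, hf, Cfsg.hermForm, Fin.sum_univ_four],
    fun c e => by simpa [hy1, hy2] using congrFun e 2⟩
  have join : ∀ w, Iso w → (Lin y1 ↔ Lin w) ∧ ∃ u, OrthPair w u := by
    intro w hw
    by_cases h0 : hf y1 w = 0
    · by_cases hdep : ∃ c : F, w = c • y1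
      · obtain ⟨c, rfl⟩ := hdep
        have hc : c ≠ 0 := fun h => hw.1 (by rw [h, zero_smul])
        have hp' : OrthPair (c • y1) y2 := ⟨hw, i2, by rw [hf_smul_left hF, hpair.2.2.1, mul_zero],
          fun d e => hpair.2.2.2 (d * c) (by rw [e, smul_smul])⟩
        exact ⟨(prop _ _ hpair).trans (prop _ _ hp').symm, y2, hp'⟩
      · have hp : OrthPair y1 w := ⟨i1, hw, h0, fun c e => hdep ⟨c, e⟩⟩
        have hp' : OrthPair w y1 := ⟨hw, i1, (hf_eq_zero_symm hF).1 h0, fun c e => by
          have hc : c ≠ 0 := fun h => i1.1 (by rw [e, h, zero_smul])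
          exact hdep ⟨c⁻¹, by rw [e, inv_smul_smul₀ hc]⟩⟩
        exact ⟨prop _ _ hp, y1, hp'⟩
    · set ρ : F := hf y2 w / hf y1 w with hρ
      set u := ρ • y1 + y2 with hudef
      have huw : hf u w = 0 := by
        rw [hudef, hf_add_left hF, hf_smul_left hF, hρ, div_mul_cancel₀ _ h0]
        linear_combination hf y2 w * two_eq_zero hF
      have h21 : hf y2 y1 = 0 := (hf_eq_zero_symm hF).1 hpair.2.2.1
      have hp1 : OrthPair y1 u := by
        refine ⟨i1, ⟨fun h => ?_, ?_⟩, ?_, fun c e => ?_⟩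
        · simpa [hudef, hy1, hy2] using congrFun h 2
        · simp only [hudef, hf_add_left hF, hf_add_right hF, hf_smul_left hF, hf_smul_right hF, i1.2, i2.2,
            hpair.2.2.1, h21]
          ring
        · rw [hudef, hf_add_right hF, hf_smul_right hF, i1.2, hpair.2.2.1]; ring
        · simpa [hudef, hy1, hy2] using congrFun e 2
      have hp2 : OrthPair w u := ⟨hw, hp1.2.1, (hf_eq_zero_symm hF).1 huw, fun c e => by
        have hc : c ≠ 0 := fun h => hp1.2.1.1 (by rw [e, h, zero_smul])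
        refine h0 ((hf_eq_zero_symm hF).1 ?_)
        have := (hf_eq_zero_symm hF).1 hp1.2.2.1
        rw [e, hf_smul_left hF] at this
        exact (mul_eq_zero.1 this).resolve_left hc⟩
      exact ⟨(prop _ _ hp1).trans (prop _ _ hp2).symm, u, hp2⟩
  have hcases : ∀ w, Iso w → Lin w ∨ ∀ x, L w x = L w 1 * x ^ 2 := fun w hw => by
    obtain ⟨u, hu⟩ := (join w hw).2
    exact mult_cases hF (hLinj w hw) (hL0 w) (hmult w u hu)
  -- a fixed hexad
  have hab : a ≠ b := P.hbadj.2.1.symm
  have tri : ∀ q ∈ common D a b, IsTriple D a b q := fun q hq =>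
    ⟨P.ha, P.hbadj.1, hq.1.1, hab, hq.1.2.1.symm, hq.2.2.1.symm, P.hbadj.2.2, hq.1.2.2, hq.2.2.2⟩
  obtain ⟨y0, hy0, c0, hc0, hYy0⟩ : ∃ y0, Iso y0 ∧ ∃ c0 : F, c0 ≠ 0 ∧ Y y0 = c0 • y0 := by
    have := Fintype.ofFinite G
    set Sf : Finset G := (common D a b).toFinset with hSf
    set Hs := Sf.image fun q => hexSet D a b q with hHs
    have hfib : ∀ H' ∈ Hs, (Sf.filter fun q => hexSet D a b q = H').card = 4 := by
      intro H' hH'
      obtain ⟨q, hq, rfl⟩ := Finset.mem_image.1 hH'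
      rw [hSf, Set.mem_toFinset] at hq
      have T := tri q hq
      have e : (↑(Sf.filter fun p => hexSet D a b p = hexSet D a b q) : Set G) = hexSet D a b q \ {a, b} := by
        ext p
        simp only [hSf, Finset.coe_filter, Set.mem_toFinset, Set.mem_ofPred_eq, Set.mem_sdiff, Set.mem_insert_iff,
          Set.mem_singleton_iff, not_or]
        refine ⟨fun ⟨hp, e⟩ => ⟨e ▸ (self_mem_hexSet (tri p hp)).2.2, hp.1.2.1, hp.2.2.1⟩,
          fun ⟨hp, h1, h2⟩ => ?_⟩
        refine ⟨⟨⟨hp.1, h1, hp.2.1.symm⟩, hp.1, h2, hp.2.2.1.symm⟩, ?_⟩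
        exact hexSet_eq_of_mem P.S T (self_mem_hexSet T).1 (self_mem_hexSet T).2.1 hp hab (Ne.symm h1) (Ne.symm h2)
      rw [← Set.ncard_coe_finset, e, Set.ncard_sdiff (Set.insert_subset (self_mem_hexSet T).1
        (Set.singleton_subset_iff.2 (self_mem_hexSet T).2.1)), hexSet_ncard P.S T, Set.ncard_pair hab]
    have hcard : Hs.card = 45 := by
      have h := Finset.card_eq_sum_card_image (fun q => hexSet D a b q) Sf
      rw [← hHs, Finset.sum_congr rfl hfib, Finset.sum_const, hSf, ← Set.ncard_eq_toFinset_card',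
        show (common D a b).ncard = 180 from common_ncard P.S P.ha P.hbadj, smul_eq_mul] at h
      omega
    have hrep : ∀ q, hexSet D a b (φ q) = φ '' hexSet D a b q := fun q => by
      rw [← hexSet_image φ H.pres a b q, H.swap, H.swap', hexSet_swap]
    have hperm : ∀ H' ∈ Hs, φ '' H' ∈ Hs := fun H' hH' => by
      obtain ⟨q, hq, rfl⟩ := Finset.mem_image.1 hH'
      rw [hSf, Set.mem_toFinset] at hq
      exact Finset.mem_image.2 ⟨φ q, Set.mem_toFinset.2 (H.map_common hq), hrep q⟩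
    have hinvo : ∀ H' : Set G, φ '' (φ '' H') = H' := fun H' => by
      rw [Set.image_image]; simp only [H.invol, Set.image_id']
    let σ : Equiv.Perm {H' // H' ∈ Hs} :=
      ⟨fun H' => ⟨_, hperm H'.1 H'.2⟩, fun H' => ⟨_, hperm H'.1 H'.2⟩, fun H' => Subtype.ext (hinvo H'.1),
        fun H' => Subtype.ext (hinvo H'.1)⟩
    have : Fact (Nat.Prime 2) := ⟨Nat.prime_two⟩
    obtain ⟨⟨H', hH'⟩, hHf⟩ := Equiv.Perm.exists_fixed_point_of_prime (p := 2) (n := 1)
      (show ¬ 2 ∣ Fintype.card {H' // H' ∈ Hs} by rw [Fintype.card_coe, hcard]; norm_num) (σ := σ) (by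
        ext H' : 1
        exact Subtype.ext (hinvo H'.1))
    replace hHf : φ '' H' = H' := congrArg Subtype.val hHf
    obtain ⟨q, hq, rfl⟩ := Finset.mem_image.1 hH'
    rw [hSf, Set.mem_toFinset] at hq
    obtain ⟨t, y, hy, rfl⟩ := P.exists_Q hq
    have h1 : φ (Q pt t y) ∈ hexSet D a b (Q pt t y) := hHf.subset ⟨_, (self_mem_hexSet (tri _ hq)).2.2, rfl⟩
    have hm := H.map_common hq
    obtain ⟨s, hs⟩ := P.exists_Q_of_hex hy h1 hm.1.2.1 hm.2.2.1
    rw [(hY y hy).2] at hs
    obtain ⟨c, hc, -, e⟩ := P.Q_inj hy (hY y hy).1 hs.symm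
    exact ⟨y, hy, c, hc, e⟩
  have hlin0 : Lin y0 := by
    refine (hcases y0 hy0).resolve_right fun hfr => ?_
    have g : ∀ t, φ (Q pt t y0) = Q pt (L y0 1 / c0 * t ^ 2 + π y0 0 / c0) y0 := fun t => by
      rw [(hY y0 hy0).2, hYy0, ← mul_div_cancel₀ (π y0 t) hc0, P.Q_smul _ hy0 hc0]
      congr 1
      rw [show π y0 t = L y0 t + π y0 0 from (sub_add_cancel _ _).symm, hfr t]
      ring
    have hμ : L y0 1 / c0 ≠ 0 :=
      div_ne_zero (fun h => one_ne_zero (hLinj y0 hy0 (h.trans (hL0 y0).symm))) hc0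
    have hinv := H.invol (Q pt 0 y0)
    rw [g 0, g] at hinv
    obtain ⟨t, ht⟩ := frob_fixed hF hμ (P.Q_inj_left hy0 hinv)
    exact H.free _ (P.Q_mem t hy0).1.1 (by rw [g, ht])
  have hlin : ∀ w, Iso w → Lin w := fun w hw =>
    (join w hw).1.1 ((join y0 hy0).1.2 hlin0)
  -- all hexads are fixed
  have hLne : ∀ w, Iso w → L w 1 ≠ 0 := fun w hw h => one_ne_zero (hLinj w hw (h.trans (hL0 w).symm))
  have htrans : ∀ z, Iso z → ∃ f : (Fin 4 → F) →ₗ[F] F,
      ∀ y, Iso y → f y = (L y 1)⁻¹ * hf (Y y) z := by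
    intro z hz
    obtain ⟨k, -, hk, hsh⟩ := P.exists_shift 1 hz
    refine ⟨P.shift (φK k), fun y hy => ?_⟩
    have hk' := H.map_ker k hk
    have h := key0 (φK k) hk' y hy
    rw [show φK (φK k) = k from Subtype.ext (H.invol k), hsh, one_mul, hlin y hy] at h
    rw [h, inv_mul_cancel_left₀ (hLne y hy)]
  obtain ⟨f1, hf1⟩ := htrans z1 j1
  obtain ⟨g1, hg1⟩ := htrans y1 i1
  obtain ⟨f2, hf2⟩ := htrans z2 j2
  obtain ⟨g2, hg2⟩ := htrans y2 i2
  let A : (Fin 4 → F) →ₗ[F] (Fin 4 → F) :=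
    f1.smulRight y1 + g1.smulRight z1 + f2.smulRight y2 + g2.smulRight z2
  have hA : ∀ y, Iso y → A y = (L y 1)⁻¹ • Y y := fun y hy => by
    conv_rhs => rw [frame ((L y 1)⁻¹ • Y y)]
    simp only [A, LinearMap.add_apply, LinearMap.smulRight_apply, hf1 y hy, hg1 y hy, hf2 y hy, hg2 y hy,
      hf_smul_left hF]
  obtain ⟨r, hr⟩ := scalar_of_iso_orth hF A fun y hy => by
    have hc := H.comm _ (P.Q_mem 0 hy).1.1
    rw [(hY y hy).2] at hc
    have h := (P.M.comm _ _ (comb_iso hF 0 hy) (comb_iso hF _ (hY y hy).1)).1 hc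
    rw [hf_comb hF] at h
    rw [hA y hy, hf_smul_right hF, h, mul_zero]
  have hfixhex : ∀ q ∈ common D a b, φ q ∈ hexSet D a b q := by
    intro q hq
    obtain ⟨t, y, hy, rfl⟩ := P.exists_Q hq
    have e : Y y = (L y 1 * r) • y := by
      rw [mul_smul, ← hr y, hA y hy, smul_inv_smul₀ (hLne y hy)]
    have hc : L y 1 * r ≠ 0 := fun h => (hY y hy).1.1 (by rw [e, h, zero_smul])
    rw [(hY y hy).2, e, ← mul_inv_cancel_left₀ hc (π y t), P.Q_smul _ hy hc]
    exact P.hexSet_eq _ _ hy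
  -- a member next to a but not to b
  obtain ⟨w, hw, hvw⟩ := exists_iso_not_orth hF (v0_iso hF)
  set x := pt w with hxdef
  have hxa : x ∈ adj D a := P.M.mem w hw
  have hbx : ¬ Commute b x := fun h => by
    rw [← P.hb, hxdef, P.M.comm _ _ (v0_iso hF) hw, hvw] at h
    exact one_ne_zero h
  set y := φ x with hydef
  have hxy : Commute x y := H.comm x hxa.1
  have hyD : y ∈ D := (H.pres x).2 hxa.1
  have hyb : y ∈ adj D b := H.swap ▸ H.map_adj hxa
  have hay : ¬ Commute a y := fun h => hbx (by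
    have := h.map φ.toMonoidHom
    simp only [MulEquiv.coe_toMonoidHom, hydef, H.swap, H.invol] at this
    exact this)
  have hbW : b ∈ common D a y := ⟨P.hbadj, adj_symm P.hbadj.1 hyb⟩
  have hxW : x ∈ common D a y := ⟨hxa, hxa.1, fun e => hay (e ▸ hxa.2.2), hxy.symm⟩
  obtain ⟨q, hqW, hqb, hqx⟩ := common_two P.S P.ha hyD hay hbW hxW hbx
  have hq : q ∈ common D a b := ⟨hqW.1, hqb⟩
  have hr' := hfixhex q hq
  have T := tri q hq
  obtain ⟨ma, mb, mq⟩ := self_mem_hexSet T
  have n1 : φ q ≠ q := H.free q hq.1.1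
  have hb' := hexSet_eq_of_mem P.S T ma mq hr' hq.1.2.1.symm (H.map_common hq).1.2.1.symm n1.symm
  have hcb : b ∈ hexSet D a q (φ q) := hb'.symm ▸ mb
  refine hbx (hcb.2.2.2.2 x hxa.1 hxa.2.2.symm hqx.2.2 ?_)
  -- φ q commutes with x as q commutes with y
  have := hqW.2.2.2.map φ.toMonoidHom
  simp only [MulEquiv.coe_toMonoidHom, hydef, H.invol] at this
  exact this

end FreePair

/-- An involutory automorphism preserving `D` fixes a member. -/
theorem involution_fixes (S : Fi22Setup D) (φ : G ≃* G) (hinv : ∀ x, φ (φ x) = x)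
    (hpres : ∀ x, φ x ∈ D ↔ x ∈ D) : ∃ d ∈ D, φ d = d := by
  by_contra hcon
  have hfree : ∀ d ∈ D, φ d ≠ d := fun d hd h => hcon ⟨d, hd, h⟩
  have hD := S.cls.1
  have hcomm : ∀ d ∈ D, Commute d (φ d) := fun d hd => by
    by_contra hn
    refine hfree _ (Cfsg.Agent.ThreeTrans.conj_mem hD S.grp.2.1 hd ((hpres d).2 hd)) ?_
    rw [map_mul, map_mul, hinv]
    exact (braid hD hd ((hpres d).2 hd) hn).symm
  obtain ⟨a, ha, -⟩ := S.two_members
  obtain ⟨F, iF, iT, pt, P⟩ := exists_pairModel S ha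
    (show φ a ∈ adj D a from ⟨(hpres a).2 ha, hfree a ha, hcomm a ha⟩)
  exact FreePair.false (φ := φ) ⟨P, hinv, hpres, hfree, hcomm, rfl⟩

end Cfsg.Agent.FischerM22
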