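/-
Quadrangles in a group of type M(22).

Main results (namespace `Cfsg.Agent.FischerM22`):
* `quad_trans` : inside the neighbours of `z`, two pairs of non-commuting members commuting
  crosswise form one orbit of the local group;
* `three_ncard`, `four_ncard` : 12, respectively 3, common neighbours;
* `exists_witness` : two non-commuting common neighbours of a non-commuting pair have a common
  neighbour among them;
* `pairs_conj` : the centraliser of a non-commuting pair is transitive on the ordered non-commuting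
  pairs of common neighbours.
-/
import Cfsg.Agent.Lib.FischerM22.Total

set_option autoImplicit false

namespace Cfsg.Agent.FischerM22

open Cfsg.Agent.Unitary Cfsg.Agent.U62Cover Cfsg.Agent.ThreeTrans Cfsg.Agent.ThreeTransSU
open Cfsg.Agent.SU32 Cfsg.Agent.ThreeTransSU.GensCert

theorem cnt_three : cnt [[.o, .o, .z, .z, .z, .z], [.w, .w2, .z, .z, .z, .z],
    [.z, .z, .o, .o, .z, .z]] = 39 := by decide +kernel

theorem cnt_four : cnt [[.o, .o, .z, .z, .z, .z], [.w, .w2, .z, .z, .z, .z],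
    [.z, .z, .o, .o, .z, .z], [.z, .z, .w, .w2, .z, .z]] = 9 := by decide +kernel

/-- The standard quadrangle. -/
def stdQ : Fin 4 → List K4 :=
  ![[.o, .o, .z, .z, .z, .z], [.w, .w2, .z, .z, .z, .z],
    [.z, .z, .o, .o, .z, .z], [.z, .z, .w, .w2, .z, .z]]

/-- A unit vector orthogonal to it. -/
def stdE : List K4 := [.z, .z, .z, .z, .o, .z]

section Vectors

variable {F : Type*} [Field F] [Fintype F]

/-- The gram matrix of a quadrangle. -/
structure QuadV (u : Fin 4 → Fin 6 → F) : Prop where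
  iso : ∀ i, Iso (u i)
  h01 : hf (u 0) (u 1) = 1
  h23 : hf (u 2) (u 3) = 1
  h02 : hf (u 0) (u 2) = 0
  h03 : hf (u 0) (u 3) = 0
  h12 : hf (u 1) (u 2) = 0
  h13 : hf (u 1) (u 3) = 0

theorem QuadV.li (hF : Fintype.card F = 4) {u : Fin 4 → Fin 6 → F} (h : QuadV u) :
    LinearIndependent F u := by
  rw [Fintype.linearIndependent_iff]
  intro g hg
  have z10 := hf_eq_one_symm hF h.h01
  have z32 := hf_eq_one_symm hF h.h23
  have e20 := (hf_eq_zero_symm hF).1 h.h02
  have e30 := (hf_eq_zero_symm hF).1 h.h03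
  have e21 := (hf_eq_zero_symm hF).1 h.h12
  have e31 := (hf_eq_zero_symm hF).1 h.h13
  have key : ∀ j, ∑ i, g i * hf (u i) (u j) = 0 := fun j => by
    have := congrArg (fun x => hf x (u j)) hg
    simp only [Fin.sum_univ_four, hf_add_left hF, hf_smul_left hF, hf_zero_left hF] at this
    simpa [Fin.sum_univ_four] using this
  have k0 := key 0; have k1 := key 1; have k2 := key 2; have k3 := key 3
  simp [Fin.sum_univ_four, (h.iso 0).2, z10, e20, e30] at k0
  simp [Fin.sum_univ_four, (h.iso 1).2, h.h01, e21, e31] at k1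
  simp [Fin.sum_univ_four, (h.iso 2).2, z32, h.h02, h.h12] at k2
  simp [Fin.sum_univ_four, (h.iso 3).2, h.h23, h.h03, h.h13] at k3
  intro i
  fin_cases i <;> assumption

theorem vec_iso (e : K4 ≃+* F) {l : List K4} (h : hk 6 l l = .z) (h0 : vec 6 l ≠ fun _ => .z) :
    Iso fun i => e (vec 6 l i) :=
  ⟨fun h1 => h0 (funext fun i => (map_eq_zero_iff e e.injective).1 (congrFun h1 i)),
    by rw [hf_map e]; exact (map_eq_zero_iff e e.injective).2 h⟩

/-- The standard quadrangle over `F`. -/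
theorem stdQ_quad (e : K4 ≃+* F) : QuadV fun i j => e (vec 6 (stdQ i) j) := by
  refine ⟨fun i => vec_iso e (by fin_cases i <;> decide +kernel) (by fin_cases i <;> decide +kernel),
    ?_, ?_, ?_, ?_, ?_, ?_⟩ <;>
  · rw [hf_map e]
    first
      | (rw [← map_one e]; exact congrArg e (by decide +kernel))
      | (rw [← map_zero e]; exact congrArg e (by decide +kernel))

theorem QuadV.gram_eq (hF : Fintype.card F = 4) {u w : Fin 4 → Fin 6 → F} (h : QuadV u) (h' : QuadV w)
    (i j : Fin 4) : hf (w i) (w j) = hf (u i) (u j) := by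
  fin_cases i <;> fin_cases j <;>
    simp [(h.iso _).2, (h'.iso _).2, h.h01, h.h23, h.h02, h.h03, h.h12, h.h13, h'.h01, h'.h23, h'.h02,
      h'.h03, h'.h12, h'.h13, hf_eq_one_symm hF h.h01, hf_eq_one_symm hF h.h23,
      hf_eq_one_symm hF h'.h01, hf_eq_one_symm hF h'.h23, (hf_eq_zero_symm hF).1 h.h02,
      (hf_eq_zero_symm hF).1 h.h03, (hf_eq_zero_symm hF).1 h.h12, (hf_eq_zero_symm hF).1 h.h13,
      (hf_eq_zero_symm hF).1 h'.h02, (hf_eq_zero_symm hF).1 h'.h03, (hf_eq_zero_symm hF).1 h'.h12,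
      (hf_eq_zero_symm hF).1 h'.h13]

/-- Any quadrangle is moved to the standard one. -/
theorem QuadV.exists_std (hF : Fintype.card F = 4) (e : K4 ≃+* F) {u : Fin 4 → Fin 6 → F}
    (h : QuadV u) : ∃ g : Cfsg.SU 6 F 2, ∀ i, act g (u i) = fun j => e (vec 6 (stdQ i) j) := by
  obtain ⟨g, hg⟩ := exists_su_witt (card_sq hF) (h.li hF) ((stdQ_quad e).li hF)
    (h.gram_eq hF (stdQ_quad e)) (e := fun j => e (vec 6 stdE j))
    ((hf_map e _ _).trans ((congrArg e (by decide +kernel)).trans (map_one e)))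
    (fun i => (hf_map e _ _).trans ((congrArg e (by fin_cases i <;> decide +kernel)).trans (map_zero e)))
  exact ⟨g, hg⟩

/-- Three isotropic vectors: a hyperbolic pair and a vector orthogonal to both. -/
theorem count_three (hF : Fintype.card F = 4) {u w r : Fin 6 → F} (hu : Iso u) (hw : Iso w) (hr : Iso r)
    (h1 : hf u w = 1) (h2 : hf u r = 0) (h3 : hf w r = 0) :
    Nat.card {x : Fin 6 → F // Iso x ∧ ∀ c ∈ [u, w, r], hf x c = 0} = 39 := by
  let e : K4 ≃+* F := FiniteField.ringEquivOfCardEq (hF ▸ K4.card_eq)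
  have hS := stdQ_quad e
  have li : ∀ {u w r : Fin 6 → F}, Iso u → Iso w → Iso r → hf u w = 1 → hf u r = 0 → hf w r = 0 →
      LinearIndependent F ![u, w, r] := by
    intro u w r hu hw hr h1 h2 h3
    rw [Fintype.linearIndependent_iff]
    intro g hg
    rw [Fin.sum_univ_three] at hg
    simp only [Matrix.cons_val_zero, Matrix.cons_val_one, Matrix.cons_val_two, Matrix.head_cons,
      Matrix.tail_cons] at hg
    have k0 := congrArg (fun x => hf x w) hg
    have k1 := congrArg (fun x => hf x u) hg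
    simp [hf_add_left hF, hf_smul_left hF, hf_zero_left hF, h1, hw.2, (hf_eq_zero_symm hF).1 h3] at k0
    simp [hf_add_left hF, hf_smul_left hF, hf_zero_left hF, hu.2, hf_eq_one_symm hF h1,
      (hf_eq_zero_symm hF).1 h2] at k1
    simp [k0, k1, hr.1] at hg
    intro i
    fin_cases i <;> assumption
  obtain ⟨g, hg⟩ := exists_su_witt (card_sq hF) (li hu hw hr h1 h2 h3)
    (li (hS.iso 0) (hS.iso 1) (hS.iso 2) hS.h01 hS.h02 hS.h12)
    (fun i j => by
      fin_cases i <;> fin_cases j <;>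
        simp [hu.2, hw.2, hr.2, (hS.iso _).2, h1, h2, h3, hS.h01, hS.h02, hS.h12, hf_eq_one_symm hF h1,
          hf_eq_one_symm hF hS.h01, (hf_eq_zero_symm hF).1 h2, (hf_eq_zero_symm hF).1 h3,
          (hf_eq_zero_symm hF).1 hS.h02, (hf_eq_zero_symm hF).1 hS.h12])
    (e := fun j => e (vec 6 stdE j))
    ((hf_map e _ _).trans ((congrArg e (by decide +kernel)).trans (map_one e)))
    (fun i => by
      fin_cases i <;> exact (hf_map e _ _).trans ((congrArg e (by decide +kernel)).trans (map_zero e)))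
  have g0 : act g u = _ := hg 0
  have g1 : act g w = _ := hg 1
  have g2 : act g r = _ := hg 2
  rw [← cnt_three, ← card_eq_cnt hF e, card_act g [u, w, r]]
  simp [g0, g1, g2, stdQ]

theorem QuadV.count_four (hF : Fintype.card F = 4) {u : Fin 4 → Fin 6 → F} (h : QuadV u) :
    Nat.card {x : Fin 6 → F // Iso x ∧ ∀ c ∈ [u 0, u 1, u 2, u 3], hf x c = 0} = 9 := by
  let e : K4 ≃+* F := FiniteField.ringEquivOfCardEq (hF ▸ K4.card_eq)
  obtain ⟨g, hg⟩ := h.exists_std hF e
  rw [← cnt_four, ← card_eq_cnt hF e, card_act g [u 0, u 1, u 2, u 3]]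
  simp [hg, stdQ]

end Vectors

variable {G : Type*} [Group G] [Finite G] {D : Set G}

/-- A quadrangle among the neighbours of `z`. -/
structure QuadG (D : Set G) (z a d q y : G) : Prop where
  za : a ∈ adj D z
  zd : d ∈ adj D z
  zq : q ∈ adj D z
  zy : y ∈ adj D z
  nad : ¬ Commute a d
  nqy : ¬ Commute q y
  aq : Commute a q
  ay : Commute a y
  dq : Commute d q
  dy : Commute d y

theorem QuadG.exists_quadV {F : Type*} [Field F] [Fintype F] {z a d q y : G} {pt : (Fin 6 → F) → G}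
    (M : PointModel D z pt) (h : QuadG D z a d q y) :
    ∃ u : Fin 4 → Fin 6 → F, QuadV u ∧ pt (u 0) = a ∧ pt (u 1) = d ∧ pt (u 2) = q ∧ pt (u 3) = y := by
  have hF := M.card
  obtain ⟨hza, hzd, hzq, hzy, nad, nqy, aq, ay, dq, dy⟩ := h
  have norm : ∀ {p q : G}, p ∈ adj D z → q ∈ adj D z → ¬ Commute p q →
      ∃ u w, Iso u ∧ Iso w ∧ pt u = p ∧ pt w = q ∧ hf u w = 1 := by
    intro p q hp hq hpq
    obtain ⟨u, hu, rfl⟩ := M.surj p hp
    obtain ⟨w, hw, rfl⟩ := M.surj q hq
    have h0 : hf u w ≠ 0 := fun e => hpq ((M.comm u w hu hw).2 e)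
    have hc0 : ((hf u w)⁻¹) ^ 2 ≠ 0 := pow_ne_zero _ (inv_ne_zero h0)
    refine ⟨u, _, hu, hw.smul hF hc0, rfl, M.smul w _ hw hc0, ?_⟩
    rw [hf_smul_right hF, show (((hf u w)⁻¹) ^ 2) ^ 2 = (hf u w)⁻¹ from pow_q_pow_q (card_sq hF) _,
      inv_mul_cancel₀ h0]
  obtain ⟨u, w, hu, hw, rfl, rfl, h1⟩ := norm hza hzd nad
  obtain ⟨r, s, hr, hs, rfl, rfl, h2⟩ := norm hzq hzy nqy
  exact ⟨![u, w, r, s], ⟨fun i => by fin_cases i <;> assumption, h1, h2, (M.comm u r hu hr).1 aq,
    (M.comm u s hu hs).1 ay, (M.comm w r hw hr).1 dq, (M.comm w s hw hs).1 dy⟩, rfl, rfl, rfl, rfl⟩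

/-- Quadrangles among the neighbours of `z` form one orbit. -/
theorem quad_trans (S : Fi22Setup D) {z a d q y a' d' q' y' : G} (hz : z ∈ D)
    (h : QuadG D z a d q y) (h' : QuadG D z a' d' q' y') :
    ∃ g ∈ Loc D z, g * a * g⁻¹ = a' ∧ g * d * g⁻¹ = d' ∧ g * q * g⁻¹ = q' ∧ g * y * g⁻¹ = y' := by
  obtain ⟨F, _, _, pt, θ, L⟩ := exists_locModel S hz
  have hF := L.M.card
  let e : K4 ≃+* F := FiniteField.ringEquivOfCardEq (hF ▸ K4.card_eq)
  obtain ⟨u, hu, rfl, rfl, rfl, rfl⟩ := h.exists_quadV L.M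
  obtain ⟨w, hw, rfl, rfl, rfl, rfl⟩ := h'.exists_quadV L.M
  obtain ⟨g, hg⟩ := hu.exists_std hF e
  obtain ⟨g', hg'⟩ := hw.exists_std hF e
  have hm : ∀ i, act (g'⁻¹ * g) (u i) = w i := fun i => by
    rw [show act (g'⁻¹ * g) (u i) = act g'⁻¹ (act g (u i)) from suAct_mul _ _ _, hg, ← hg', act_inv_act]
  obtain ⟨k, hk⟩ := L.realise S hz (g'⁻¹ * g)
  exact ⟨k, k.2, by rw [hk _ (hu.iso 0), hm], by rw [hk _ (hu.iso 1), hm], by rw [hk _ (hu.iso 2), hm],
    by rw [hk _ (hu.iso 3), hm]⟩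

/-- A non-commuting pair and a common neighbour, all next to `z`, have 12 common neighbours there. -/
theorem three_ncard (S : Fi22Setup D) {z a d q : G} (hz : z ∈ D) (hza : a ∈ adj D z) (hzd : d ∈ adj D z)
    (hzq : q ∈ adj D z) (had : ¬ Commute a d) (haq : Commute a q) (hdq : Commute d q) :
    (adj D z ∩ common D a d ∩ adj D q).ncard = 12 := by
  obtain ⟨F, _, _, pt, M⟩ := S.exists_model hz
  have hF := M.card
  obtain ⟨u, hu, rfl⟩ := M.surj a hza
  obtain ⟨w, hw, rfl⟩ := M.surj d hzd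
  obtain ⟨r, hr, rfl⟩ := M.surj q hzq
  have h0 : hf u w ≠ 0 := fun e => had ((M.comm u w hu hw).2 e)
  have hc0 : ((hf u w)⁻¹) ^ 2 ≠ 0 := pow_ne_zero _ (inv_ne_zero h0)
  have h1 : hf u (((hf u w)⁻¹) ^ 2 • w) = 1 := by
    rw [hf_smul_right hF, show (((hf u w)⁻¹) ^ 2) ^ 2 = (hf u w)⁻¹ from pow_q_pow_q (card_sq hF) _,
      inv_mul_cancel₀ h0]
  rw [← M.smul w _ hw hc0] at hzd had hdq ⊢
  have hw' := hw.smul hF hc0
  generalize ((hf u w)⁻¹) ^ 2 • w = w' at hzd had hdq h1 hw' ⊢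
  have hc := card_pts M fun x => Commute x (pt u) ∧ Commute x (pt w') ∧ Commute x (pt r)
  rw [show Nat.card {v : Fin 6 → F // Iso v ∧ Commute (pt v) (pt u) ∧ Commute (pt v) (pt w') ∧
      Commute (pt v) (pt r)} = Nat.card {v : Fin 6 → F // Iso v ∧ ∀ c ∈ [u, w', r], hf v c = 0}
    from Nat.card_congr (Equiv.subtypeEquivRight fun v => and_congr_right fun hv => by
      simp [M.comm _ _ hv hu, M.comm _ _ hv hw', M.comm _ _ hv hr]),
    count_three hF hu hw' hr h1 ((M.comm u r hu hr).1 haq) ((M.comm w' r hw' hr).1 hdq)] at hc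
  have e : {x | x ∈ adj D z ∧ Commute x (pt u) ∧ Commute x (pt w') ∧ Commute x (pt r)}
      = insert (pt r) (adj D z ∩ common D (pt u) (pt w') ∩ adj D (pt r)) := by
    ext x
    constructor
    · rintro ⟨hx, h0, h1, h2⟩
      by_cases e : x = pt r
      · exact Or.inl e
      · exact Or.inr ⟨⟨hx, ⟨hx.1, fun e => had (e ▸ h1), h0.symm⟩,
          hx.1, fun e => had (e ▸ h0).symm, h1.symm⟩, hx.1, e, h2.symm⟩
    · rintro (rfl | ⟨⟨hx, h0, h1⟩, h2⟩)
      exacts [⟨hzq, haq.symm, hdq.symm, Commute.refl _⟩,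
        ⟨hx, h0.2.2.symm, h1.2.2.symm, h2.2.2.symm⟩]
  rw [e, Set.ncard_insert_of_notMem fun h => h.2.2.1 rfl] at hc
  omega

theorem QuadG.four_ncard (S : Fi22Setup D) {z a d q y : G} (hz : z ∈ D) (h : QuadG D z a d q y) :
    (adj D z ∩ common D a d ∩ adj D q ∩ adj D y).ncard = 3 := by
  obtain ⟨F, _, _, pt, M⟩ := S.exists_model hz
  obtain ⟨u, hu, rfl, rfl, rfl, rfl⟩ := h.exists_quadV M
  have hc := card_pts M fun x => Commute x (pt (u 0)) ∧ Commute x (pt (u 1)) ∧ Commute x (pt (u 2)) ∧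
    Commute x (pt (u 3))
  rw [show Nat.card {v : Fin 6 → F // Iso v ∧ Commute (pt v) (pt (u 0)) ∧ Commute (pt v) (pt (u 1)) ∧
      Commute (pt v) (pt (u 2)) ∧ Commute (pt v) (pt (u 3))}
      = Nat.card {v : Fin 6 → F // Iso v ∧ ∀ c ∈ [u 0, u 1, u 2, u 3], hf v c = 0}
    from Nat.card_congr (Equiv.subtypeEquivRight fun v => and_congr_right fun hv => by
      simp [M.comm _ _ hv (hu.iso _)]), hu.count_four M.card] at hc
  have e : {x | x ∈ adj D z ∧ Commute x (pt (u 0)) ∧ Commute x (pt (u 1)) ∧ Commute x (pt (u 2)) ∧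
      Commute x (pt (u 3))}
      = adj D z ∩ common D (pt (u 0)) (pt (u 1)) ∩ adj D (pt (u 2)) ∩ adj D (pt (u 3)) := by
    ext x
    constructor
    · rintro ⟨hx, h0, h1, h2, h3⟩
      exact ⟨⟨⟨hx, ⟨hx.1, fun e => h.nad (e ▸ h1), h0.symm⟩,
          hx.1, fun e => h.nad (e ▸ h0).symm, h1.symm⟩, hx.1, fun e => h.nqy (e ▸ h3), h2.symm⟩,
        hx.1, fun e => h.nqy (e ▸ h2).symm, h3.symm⟩
    · rintro ⟨⟨⟨hx, h0, h1⟩, h2⟩, h3⟩
      exact ⟨hx, h0.2.2.symm, h1.2.2.symm, h2.2.2.symm, h3.2.2.symm⟩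
  rw [e] at hc
  omega

theorem commute_conj {g x y : G} (h : Commute x y) : Commute (g * x * g⁻¹) (g * y * g⁻¹) :=
  h.map (MulAut.conj g).toMonoidHom

theorem commute_of_conj {g x y : G} (h : Commute (g * x * g⁻¹) (g * y * g⁻¹)) : Commute x y :=
  Commute.of_map (f := (MulAut.conj g).toMonoidHom) (MulAut.conj g).injective h

theorem mem_common_conj (S : Fi22Setup D) (g : G) {a d q : G} (h : q ∈ common D a d) :
    g * q * g⁻¹ ∈ common D (g * a * g⁻¹) (g * d * g⁻¹) :=
  ⟨⟨S.conj_mem g h.1.1, fun e => h.1.2.1 ((MulAut.conj g).injective e), commute_conj h.1.2.2⟩,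
    S.conj_mem g h.2.1, fun e => h.2.2.1 ((MulAut.conj g).injective e), commute_conj h.2.2.2⟩

/-- The quadrangle given by two crossing pairs and a witness. -/
theorem quadG_of_common (_S : Fi22Setup D) {a d q y z : G} (ha : a ∈ D) (hd : d ∈ D) (had : ¬ Commute a d)
    (hq : q ∈ common D a d) (hy : y ∈ common D a d) (hqy : ¬ Commute q y) (hz : z ∈ common D a d)
    (hzq : z ∈ adj D q) (hzy : z ∈ adj D y) : QuadG D z a d q y :=
  ⟨adj_symm ha hz.1, adj_symm hd hz.2, adj_symm hq.1.1 hzq, adj_symm hy.1.1 hzy, had, hqy,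
    hq.1.2.2, hy.1.2.2, hq.2.2.2, hy.2.2.2⟩

open scoped Classical in
/-- Two non-commuting common neighbours have a common neighbour among the common neighbours. -/
theorem exists_witness (S : Fi22Setup D) {a d q y : G} (ha : a ∈ D) (hd : d ∈ D) (had : ¬ Commute a d)
    (hq : q ∈ common D a d) (hy : y ∈ common D a d) (hqy : ¬ Commute q y) :
    ∃ z ∈ common D a d, z ∈ adj D q ∧ z ∈ adj D y := by
  by_contra hno
  set N := (common D a d ∩ adj D q).toFinite.toFinset with hN
  set Y := {v | v ∈ common D a d ∧ ¬ Commute q v}.toFinite.toFinset with hY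
  have mN : ∀ z, z ∈ N ↔ z ∈ common D a d ∧ z ∈ adj D q := fun z => by simp [hN]
  have mY : ∀ v, v ∈ Y ↔ v ∈ common D a d ∧ ¬ Commute q v := fun v => by simp [hY]
  have ncardN : N.card = 45 := by
    rw [hN, ← Set.ncard_eq_toFinset_card _ _]; exact common_deg S ha hd had hq
  have ncardY : Y.card = 80 := by
    have e : common D a d = insert q ((common D a d ∩ adj D q) ∪ {v | v ∈ common D a d ∧ ¬ Commute q v}) := by
      ext v
      constructor
      · intro hv
        by_cases h1 : v = q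
        · exact Or.inl h1
        by_cases h2 : Commute q v
        · exact Or.inr (Or.inl ⟨hv, hv.1.1, h1, h2⟩)
        · exact Or.inr (Or.inr ⟨hv, h2⟩)
      · rintro (rfl | h | h)
        exacts [hq, h.1, h.1]
    have h := congrArg Set.ncard e
    rw [common_card S ha hd had, Set.ncard_insert_of_notMem (by
      rintro (h | h)
      exacts [h.2.2.1 rfl, h.2 (Commute.refl q)]),
      Set.ncard_union_eq (Set.disjoint_left.2 fun v h h' => h'.2 h.2.2.2) (Set.toFinite _) (Set.toFinite _),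
      common_deg S ha hd had hq] at h
    rw [hY, ← Set.ncard_eq_toFinset_card _ _]
    omega
  set R : G → G → Prop := fun z v => v ∈ adj D z with hR
  have nsplit : ∀ z ∈ N, ∀ v ∈ Y, R z v →
      (N.filter fun w => R z w).card = 12 ∧ ((N.filter fun w => R w v).filter fun w => R z w).card = 3 := by
    intro z hz v hv hzv
    obtain ⟨hz1, hz2⟩ := (mN z).1 hz
    obtain ⟨hv1, hv2⟩ := (mY v).1 hv
    have hQ := quadG_of_common S ha hd had hq hv1 hv2 hz1 hz2 (adj_symm hz1.1.1 hzv)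
    refine ⟨?_, ?_⟩
    · rw [← three_ncard S hz1.1.1 hQ.za hQ.zd hQ.zq had hq.1.2.2 hq.2.2.2, ← Set.ncard_coe_finset]
      congr 1
      ext w
      simp [mN, hR]
      tauto
    · rw [← hQ.four_ncard S hz1.1.1, ← Set.ncard_coe_finset]
      congr 1
      ext w
      simp only [Finset.coe_filter, Finset.mem_filter, mN, hR, Set.mem_ofPred_eq, Set.mem_inter_iff]
      constructor
      · rintro ⟨⟨⟨h1, h2⟩, h3⟩, h4⟩
        exact ⟨⟨⟨h4, h1⟩, h2⟩, adj_symm h1.1.1 h3⟩
      · rintro ⟨⟨⟨h4, h1⟩, h2⟩, h3⟩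
        exact ⟨⟨⟨h1, h2⟩, adj_symm hv1.1.1 h3⟩, h4⟩
  -- each member of `N` has 32 neighbours in `Y`
  have deg : ∀ z ∈ N, (Y.filter fun v => R z v).card = 32 := by
    intro z hz
    obtain ⟨hz1, hz2⟩ := (mN z).1 hz
    have h12 : (adj D z ∩ common D a d ∩ adj D q).ncard = 12 :=
      three_ncard S hz1.1.1 (adj_symm ha hz1.1) (adj_symm hd hz1.2) (adj_symm hq.1.1 hz2) had hq.1.2.2
        hq.2.2.2
    have hall := common_deg S ha hd had hz1
    have e : common D a d ∩ adj D z
        = insert q ((adj D z ∩ common D a d ∩ adj D q) ∪ ↑(Y.filter fun v => R z v)) := by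
      ext w
      simp only [Finset.coe_filter, mY, hR, Set.mem_insert_iff, Set.mem_union, Set.mem_ofPred_eq,
        Set.mem_inter_iff]
      constructor
      · rintro ⟨h1, h2⟩
        by_cases e1 : w = q
        · exact Or.inl e1
        by_cases e2 : Commute q w
        · exact Or.inr (Or.inl ⟨⟨h2, h1⟩, h1.1.1, e1, e2⟩)
        · exact Or.inr (Or.inr ⟨⟨h1, e2⟩, h2⟩)
      · rintro (rfl | ⟨⟨h1, h2⟩, -⟩ | ⟨⟨h1, -⟩, h2⟩)
        exacts [⟨hq, adj_symm hq.1.1 hz2⟩, ⟨h2, h1⟩, ⟨h1, h2⟩]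
    rw [e, Set.ncard_insert_of_notMem (by
        rintro (h | h)
        · exact h.2.2.1 rfl
        · exact ((mY q).1 (Finset.mem_filter.1 h).1).2 (Commute.refl q)),
      Set.ncard_union_eq (Set.disjoint_left.2 fun w h h' =>
        ((mY w).1 (Finset.mem_filter.1 (Finset.mem_coe.1 h')).1).2 h.2.2.2) (Set.toFinite _) (Set.toFinite _), h12,
      Set.ncard_coe_finset] at hall
    omega
  -- a member of `Y` has at most 36 neighbours in `N`
  have bound : ∀ v ∈ Y, (N.filter fun z => R z v).card ≤ 36 := by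
    intro v hv
    rcases (N.filter fun z => R z v).eq_empty_or_nonempty with h | ⟨z, hz⟩
    · simp [h]
    obtain ⟨hzN, hzv⟩ := Finset.mem_filter.1 hz
    obtain ⟨h12, h3⟩ := nsplit z hzN v hv hzv
    have h := Finset.card_filter_add_card_filter_not (s := N.filter fun w => R z w) (fun w => R w v)
    have hc : (N.filter fun w => R z w).filter (fun w => R w v)
        = (N.filter fun w => R w v).filter fun w => R z w := Finset.filter_comm ..
    have hsub : (N.filter fun w => R z w).filter (fun w => ¬ R w v) ⊆ N.filter fun w => ¬ R w v :=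
      Finset.filter_subset_filter _ (Finset.filter_subset _ _)
    have := Finset.card_le_card hsub
    have h' := Finset.card_filter_add_card_filter_not (s := N) (fun w => R w v)
    rw [hc, h3, h12] at h
    omega
  -- at least 46 members of `Y` have no neighbour in `N`
  have hy0 : y ∈ Y.filter fun v => (N.filter fun z => R z v) = ∅ := by
    refine Finset.mem_filter.2 ⟨(mY y).2 ⟨hy, hqy⟩, Finset.filter_eq_empty_iff.2 fun z hz hzy => hno ?_⟩
    exact ⟨z, ((mN z).1 hz).1, ((mN z).1 hz).2, adj_symm ((mN z).1 hz).1.1.1 hzy⟩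
  set R0 := Y.filter fun v => (N.filter fun z => R z v) = ∅ with hR0
  have hD := S.cls.1
  have conjN : ∀ z ∈ N, ∀ v ∈ common D a d, z * v * z⁻¹ ∈ common D a d ∧ z * q * z⁻¹ = q := by
    intro z hz v hv
    obtain ⟨hz1, hz2⟩ := (mN z).1 hz
    have h := mem_common_conj S z hv
    rw [show z * a * z⁻¹ = a by rw [hz1.1.2.2.symm.eq, mul_inv_cancel_right],
      show z * d * z⁻¹ = d by rw [hz1.2.2.2.symm.eq, mul_inv_cancel_right]] at h
    exact ⟨h, by rw [hz2.2.2.symm.eq, mul_inv_cancel_right]⟩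
  have hyn : ∀ z ∈ N, ¬ Commute z y := fun z hz h =>
    hno ⟨z, ((mN z).1 hz).1, ((mN z).1 hz).2, ((mN z).1 hz).1.1.1,
      fun e => hqy (e ▸ ((mN z).1 hz).2.2.2), h.symm⟩
  have h46 : 46 ≤ R0.card := by
    have hsub : insert y (N.image fun z => z * y * z⁻¹) ⊆ R0 := by
      intro v hv
      rcases Finset.mem_insert.1 hv with rfl | hv
      · exact hy0
      obtain ⟨z, hz, rfl⟩ := Finset.mem_image.1 hv
      obtain ⟨h1, h2⟩ := conjN z hz y hy
      refine Finset.mem_filter.2 ⟨(mY _).2 ⟨h1, fun h => hqy (commute_of_conj (g := z) (by rwa [h2]))⟩,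
        Finset.filter_eq_empty_iff.2 fun w hw hwy => ?_⟩
      obtain ⟨hw1, hw2⟩ := (mN w).1 hw
      obtain ⟨h3, -⟩ := conjN z hz w hw1
      have hmem : z * w * z⁻¹ ∈ N := by
        refine (mN _).2 ⟨h3, S.conj_mem z hw1.1.1, fun e => hw2.2.1 ((MulAut.conj z).injective (e.trans h2.symm)),
          ?_⟩
        have := commute_conj (g := z) hw2.2.2
        rwa [h2] at this
      apply hyn _ hmem
      have h4 := commute_conj (g := z) hwy.2.2
      rw [inv_eq hD ((mN z).1 hz).1.1.1] at h4 ⊢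
      simpa only [mul_assoc, mul_self_cancel hD ((mN z).1 hz).1.1.1, mul_self hD ((mN z).1 hz).1.1.1,
        mul_one] using h4
    have hinj : (N.image fun z => z * y * z⁻¹).card = 45 := by
      rw [Finset.card_image_of_injOn, ncardN]
      intro z hz z' hz' e
      have hzD := ((mN z).1 hz).1.1.1
      have hzD' := ((mN z').1 hz').1.1.1
      simp only [inv_eq hD hzD, inv_eq hD hzD'] at e
      rw [braid hD hzD hy.1.1 (hyn z hz), braid hD hzD' hy.1.1 (hyn z' hz')] at e
      exact mul_left_cancel (mul_right_cancel e)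
    have hni : y ∉ N.image fun z => z * y * z⁻¹ := by
      intro h
      obtain ⟨z, hz, e⟩ := Finset.mem_image.1 h
      exact hyn z hz (mul_inv_eq_iff_eq_mul.1 e)
    have := Finset.card_le_card hsub
    rw [Finset.card_insert_of_notMem hni, hinj] at this
    exact this
  -- double counting
  have hsum := sum_card_filter N Y R
  rw [Finset.sum_congr rfl deg, Finset.sum_const, ncardN, smul_eq_mul] at hsum
  have hle : ∑ v ∈ Y, (N.filter fun z => R z v).card ≤ 36 * (Y.card - R0.card) := by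
    rw [← Finset.sum_filter_add_sum_filter_not Y (fun v => (N.filter fun z => R z v) = ∅)]
    rw [Finset.sum_eq_zero fun v hv => by rw [(Finset.mem_filter.1 hv).2]; rfl, zero_add]
    refine (Finset.sum_le_card_nsmul _ _ 36 fun v hv => bound v (Finset.mem_filter.1 hv).1).trans ?_
    have := Finset.card_filter_add_card_filter_not (s := Y) (fun v => (N.filter fun z => R z v) = ∅)
    rw [smul_eq_mul, hR0]
    omega
  omega

/-- The centraliser of a non-commuting pair is transitive on ordered non-commuting pairs of common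
neighbours. -/
theorem pairs_conj (S : Fi22Setup D) {a d q y q' y' : G} (ha : a ∈ D) (hd : d ∈ D) (had : ¬ Commute a d)
    (hq : q ∈ common D a d) (hy : y ∈ common D a d) (hqy : ¬ Commute q y)
    (hq' : q' ∈ common D a d) (hy' : y' ∈ common D a d) (hqy' : ¬ Commute q' y') :
    ∃ g : G, Commute g a ∧ Commute g d ∧ g * q * g⁻¹ = q' ∧ g * y * g⁻¹ = y' := by
  obtain ⟨z, hz, hzq, hzy⟩ := exists_witness S ha hd had hq hy hqy
  obtain ⟨z', hz', hzq', hzy'⟩ := exists_witness S ha hd had hq' hy' hqy'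
  obtain ⟨g, hg⟩ := class_conj S.cls hz.1.1 hz'.1.1
  have h1 := mem_common_conj S g hq
  have h2 := mem_common_conj S g hy
  have h3 := mem_common_conj S g hz
  have hQ : QuadG D z' (g * a * g⁻¹) (g * d * g⁻¹) (g * q * g⁻¹) (g * y * g⁻¹) := by
    have hq2 : g * z * g⁻¹ ∈ adj D (g * q * g⁻¹) :=
      ⟨S.conj_mem g hzq.1, fun e => hzq.2.1 ((MulAut.conj g).injective e), commute_conj hzq.2.2⟩
    have hy2 : g * z * g⁻¹ ∈ adj D (g * y * g⁻¹) :=
      ⟨S.conj_mem g hzy.1, fun e => hzy.2.1 ((MulAut.conj g).injective e), commute_conj hzy.2.2⟩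
    rw [← hg]
    exact quadG_of_common S (S.conj_mem g ha) (S.conj_mem g hd) (fun h => had (commute_of_conj h))
      h1 h2 (fun h => hqy (commute_of_conj h)) h3 hq2 hy2
  obtain ⟨k, -, ka, kd, kq, ky⟩ := quad_trans S hz'.1.1 hQ
    (quadG_of_common S ha hd had hq' hy' hqy' hz' hzq' hzy')
  have e : ∀ x : G, k * g * x * (k * g)⁻¹ = k * (g * x * g⁻¹) * k⁻¹ := fun x => by group
  refine ⟨k * g, ?_, ?_, (e q).trans kq, (e y).trans ky⟩
  · exact mul_inv_eq_iff_eq_mul.1 ((e a).trans ka)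
  · exact mul_inv_eq_iff_eq_mul.1 ((e d).trans kd)

end Cfsg.Agent.FischerM22
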