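/-
The normaliser of the product of two non-commuting members in a group of type M(22).

Main results (namespace `Cfsg.Agent.FischerM22`):
* `commute_of_line` : a member commuting with `a * d` commutes with `a` and `d`;
* `inverting_mem` : a member inverting `a * d` is one of `a, d, a * d * a`;
* `closure_common_eq` : the common neighbours generate the centraliser of the pair;
* `closure_common_refl` : that group is a projective reflection group;
* `mem_normalizer_line` : the normaliser is `Sym(3)` times that centraliser;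
* `width_common` : at most 6 common neighbours commute pairwise, and 6 occur.
-/
import Cfsg.Agent.Lib.FischerM22.Width
import Cfsg.Agent.Lib.FischerM22.Quads
import Cfsg.Agent.Lib.ThreeTrans.SymmPresentation

set_option autoImplicit false

namespace Cfsg.Agent.FischerM22

open Cfsg.Agent.Unitary Cfsg.Agent.U62Cover Cfsg.Agent.ThreeTrans Cfsg.Agent.ThreeTransSU

/-- The order bound for projective reflection groups in dimension six, minus type. -/
theorem proj_refl_ge {X : Type*} [Group X] {μ c : ZMod 3} (hc : c ≠ 0)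
    (h : Cfsg.IsProjReflectionGroupModThree X 6 μ c) (h13 : ¬ 13 ∣ Nat.card X) :
    6531840 ≤ Nat.card X := by
  rcases proj_refl_dvd hc h with h' | h'
  · exact absurd ((Dvd.intro_left _ rfl).trans h') h13
  obtain ⟨Q, hQ, -, ⟨e⟩⟩ := h
  have hn : 5 ≤ Fintype.card (Fin 6) := by simp
  have hG := good_three hQ
  rw [Nat.card_congr e.toEquiv]
  rw [Nat.card_congr e.toEquiv] at h13
  set R := Cfsg.reflectionSubgroup (⇑Q) c with hR
  have hscal : ∀ z : ↥(Subgroup.center ↥R), ∃ a : ZMod 3, a * a = 1 ∧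
      ∀ x, Orth.ap ((z : ↥R) : Orth.IsoGrp Q) x = a • x := by
    intro z
    obtain ⟨e, f, hp⟩ := Orth.exists_hpair hQ (by simp)
    refine hp.scalar_of_fix hQ (by simp) fun v h0 hv => ?_
    obtain ⟨y, hpv⟩ := Orth.exists_hpair_left hQ hv h0
    obtain ⟨w, hw, hQw⟩ := hpv.exists_nonsing_perp hQ (by simp)
    refine Orth.fix_of_commute_eich hQ hv h0 (Orth.mem_perp.1 hw).1 hQw ?_
    have hm : Orth.eich Q v w ∈ R := omega_le_reflSub hQ hn hc
      ((Orth.omega_eq_eichGen hG (by simp) (.inr hn)).ge (Orth.eich_mem_eichGen v w))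
    exact (congrArg Subtype.val (Subgroup.mem_center_iff.1 z.2 ⟨_, hm⟩)).symm
  have hZ : Nat.card ↥(Subgroup.center ↥R) ≤ 2 := by
    choose a ha hax using hscal
    refine (Nat.card_le_card_of_injective (fun z => (⟨a z, ha z⟩ : {t : ZMod 3 // t * t = 1}))
      fun z z' h => Subtype.ext (Subtype.ext (Orth.ext_ap fun x => ?_))).trans (le_of_eq ?_)
    · rw [hax, hax, show a z = a z' from congrArg Subtype.val h]
    · rw [Nat.card_eq_fintype_card]; decide +kernel
  have hO : Nat.card (Orth.IsoGrp Q)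
      = 2 * (Nat.card (↥R ⧸ Subgroup.center ↥R) * Nat.card ↥(Subgroup.center ↥R)) := by
    rw [← Subgroup.card_mul_index R, hR, reflSub_index hQ hn hc, ← hR,
      Subgroup.card_eq_card_quotient_mul_card_subgroup (Subgroup.center ↥R), mul_comm]
  have hab : ∀ x y : ZMod 3, x ^ 2 + 0 * x * y + 1 * y ^ 2 = 0 → x = 0 ∧ y = 0 := by decide
  have : Fact (Nat.Prime 3) := ⟨Nat.prime_three⟩
  rcases Forms.classify_even Q hQ (m := 3) (by simp) hab with ⟨f, hf⟩ | ⟨-, f, hf⟩
  · exfalso
    have h1 : 13 ∣ Nat.card (Orth.IsoGrp Q) := by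
      rw [← Nat.card_congr ((Forms.isometryGroupEquiv (Cfsg.quadFormPlus 3 (ZMod 3))).trans
        ((Forms.preservingFunCongr (Cfsg.quadFormPlus 3 (ZMod 3)) (⇑Q) f 1 one_ne_zero fun v => by
          rw [hf, Forms.qfPlus_apply, one_mul]).trans (Forms.isometryGroupEquiv (⇑Q)).symm)).toEquiv,
        S0287.result (ZMod.card 3) 3 (by norm_num)]
      simp [Finset.prod_range_succ]
    have hpos : 0 < Nat.card ↥(Subgroup.center ↥R) := Nat.card_pos
    rw [hO] at h1
    have h2 : Nat.Coprime 13 2 := by norm_num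
    have h3 : Nat.Coprime 13 (Nat.card ↥(Subgroup.center ↥R)) := by
      rcases (show Nat.card ↥(Subgroup.center ↥R) = 1 ∨ Nat.card ↥(Subgroup.center ↥R) = 2 by omega)
        with h | h <;> rw [h] <;> norm_num
    exact h13 (h3.dvd_of_dvd_mul_right (h2.dvd_of_dvd_mul_left h1))
  · have h1 : Nat.card (Orth.IsoGrp Q) = 26127360 := by
      rw [← Nat.card_congr ((Forms.isometryGroupEquiv (Cfsg.quadFormMinus (3 - 1) (ZMod 3) 0 1)).trans
        ((Forms.preservingFunCongr (Cfsg.quadFormMinus (3 - 1) (ZMod 3) 0 1) (⇑Q) f 1 one_ne_zero fun v => by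
          rw [hf, Forms.qfMinus_apply, one_mul]).trans (Forms.isometryGroupEquiv (⇑Q)).symm)).toEquiv,
        S0288.result (ZMod.card 3) 3 (by norm_num) 0 1 hab]
      simp [Finset.prod_range_succ]
    rw [hO] at h1
    have := Nat.mul_le_mul_left (Nat.card (↥R ⧸ Subgroup.center ↥R)) hZ
    omega

variable {G : Type*} [Group G] [Finite G] {D : Set G}

/-- The joint centraliser of two non-commuting members. -/
theorem pair_centralizer_ncard (S : Fi22Setup D) {a d : G} (ha : a ∈ D) (hd : d ∈ D) (had : ¬ Commute a d) :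
    Nat.card ↥(Subgroup.centralizer ({a} : Set G) ⊓ Subgroup.centralizer {d}) = 6531840 := by
  have h := card_orbit_mul (Subgroup.centralizer ({a} : Set G)) d d
  have e : {p : G × G | ∃ g ∈ Subgroup.centralizer ({a} : Set G), g * d * g⁻¹ = p.1 ∧ g * d * g⁻¹ = p.2}
      = (fun x : G => (x, x)) '' {y | y ∈ D ∧ ¬ Commute a y} := by
    ext ⟨u, w⟩
    constructor
    · rintro ⟨g, hg, rfl, rfl⟩
      refine ⟨_, ⟨S.conj_mem g hd, fun hc => had ?_⟩, rfl⟩
      have hga : g * a * g⁻¹ = a := by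
        rw [Subgroup.mem_centralizer_singleton_iff.1 hg, mul_inv_cancel_right]
      exact commute_of_conj (g := g) (hga.symm ▸ hc)
    · rintro ⟨x, ⟨hx, hax⟩, e'⟩
      obtain ⟨rfl, rfl⟩ := Prod.ext_iff.1 e'
      obtain ⟨g, hg, rfl⟩ := centralizer_transitive S ha hd hx had hax
      exact ⟨g, Subgroup.mem_centralizer_singleton_iff.2 hg, rfl, rfl⟩
  rw [e, Set.ncard_image_of_injective _ fun x y h => congrArg Prod.fst h, far_ncard S ha, inf_assoc,
    inf_idem] at h
  have h2 : Nat.card ↥(Subgroup.centralizer ({a} : Set G)) = 18393661440 := by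
    rw [centralizer_eq_loc S ha, loc_card S ha]
  omega

theorem closure_common_le {a d : G} :
    Subgroup.closure (common D a d) ≤ Subgroup.centralizer ({a} : Set G) ⊓ Subgroup.centralizer {d} :=
  (Subgroup.closure_le _).2 fun _ hx => ⟨Subgroup.mem_centralizer_singleton_iff.2 hx.1.2.2.symm,
    Subgroup.mem_centralizer_singleton_iff.2 hx.2.2.2.symm⟩

theorem closure_common_map (S : Fi22Setup D) (g a d : G) :
    (Subgroup.closure (common D a d)).map (MulAut.conj g).toMonoidHom
      = Subgroup.closure (common D (g * a * g⁻¹) (g * d * g⁻¹)) := by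
  rw [MonoidHom.map_closure, common, common, adj_conj_image S.grp.2.1 g a, adj_conj_image S.grp.2.1 g d,
    ← Set.image_inter (fun u v h => mul_left_cancel (mul_right_cancel h))]
  rfl

/-- The common neighbours of two non-commuting members generate their joint centraliser, which is a
projective reflection group. -/
theorem closure_common_refl (S : Fi22Setup D) {a d : G} (ha : a ∈ D) (hd : d ∈ D) (had : ¬ Commute a d) :
    Subgroup.closure (common D a d) = Subgroup.centralizer ({a} : Set G) ⊓ Subgroup.centralizer {d} ∧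
      ∃ c : ZMod 3, c ≠ 0 ∧ Cfsg.IsProjReflectionGroupModThree ↥(Subgroup.closure (common D a d)) 6 1 c := by
  obtain ⟨-, d₁, hd₁, c₁, hc₁, hdc, -, c3, hc3, hR⟩ := S.type22
  change Cfsg.IsProjReflectionGroupModThree (↥(Subgroup.closure (common D d₁ c₁)) ⧸
    Subgroup.center ↥(Subgroup.closure (common D d₁ c₁))) 6 1 c3 at hR
  obtain ⟨g₁, hg₁⟩ := class_conj S.cls hd₁ ha
  obtain ⟨k, hk, hk'⟩ := centralizer_transitive S ha (S.conj_mem g₁ hc₁) hd
    (fun h => hdc (commute_of_conj (hg₁.symm ▸ h))) had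
  have e1 : k * g₁ * d₁ * (k * g₁)⁻¹ = a := by
    rw [show k * g₁ * d₁ * (k * g₁)⁻¹ = k * (g₁ * d₁ * g₁⁻¹) * k⁻¹ by group, hg₁, hk.eq, mul_inv_cancel_right]
  have e2 : k * g₁ * c₁ * (k * g₁)⁻¹ = d := by
    rw [show k * g₁ * c₁ * (k * g₁)⁻¹ = k * (g₁ * c₁ * g₁⁻¹) * k⁻¹ by group, hk']
  set L := Subgroup.closure (common D d₁ c₁) with hL
  have hdvd : Nat.card ↥L ∣ 6531840 := by
    have := closure_common_dvd S hd₁ hc₁ hdc
    rwa [common_card S hd₁ hc₁ hdc] at this
  have hq : Nat.card (↥L ⧸ Subgroup.center ↥L) ∣ 6531840 := (Subgroup.card_quotient_dvd_card _).trans hdvd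
  have hge := proj_refl_ge hc3 hR (fun h => by
    have := h.trans hq; norm_num at this)
  have hmul := Subgroup.card_eq_card_quotient_mul_card_subgroup (Subgroup.center ↥L)
  have hLle := Nat.le_of_dvd (by norm_num) hdvd
  have hZ1 : 0 < Nat.card ↥(Subgroup.center ↥L) := Nat.card_pos
  have hLge : 6531840 ≤ Nat.card ↥L := hmul ▸ hge.trans (Nat.le_mul_of_pos_right _ hZ1)
  have hLc : Nat.card ↥L = 6531840 := le_antisymm hLle hLge
  have hqc : Nat.card (↥L ⧸ Subgroup.center ↥L) = 6531840 :=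
    le_antisymm (Nat.le_of_dvd (by norm_num) hq) hge
  have hZ : Subgroup.center ↥L = ⊥ := by
    rw [hLc, hqc] at hmul
    exact Subgroup.card_eq_one.1 (by omega)
  have eK : L.map (MulAut.conj (k * g₁)).toMonoidHom = Subgroup.closure (common D a d) := by
    rw [hL, closure_common_map S, e1, e2]
  let iso : ↥L ≃* ↥(Subgroup.closure (common D a d)) :=
    ((MulAut.conj (k * g₁)).subgroupMap L).trans (MulEquiv.subgroupCongr eK)
  refine ⟨Subgroup.eq_of_le_of_card_ge closure_common_le ?_, c3, hc3, ?_⟩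
  · rw [pair_centralizer_ncard S ha hd had, ← Nat.card_congr iso.toEquiv, hLc]
  · obtain ⟨Q, hQ, hdet, ⟨f⟩⟩ := hR
    exact ⟨Q, hQ, hdet,
      ⟨((iso.symm.trans (QuotientGroup.quotientBot).symm).trans (QuotientGroup.quotientMulEquivOfEq hZ.symm)).trans f⟩⟩

theorem line_pow_three (S : Fi22Setup D) {a d : G} (ha : a ∈ D) (hd : d ∈ D) (had : ¬ Commute a d) :
    (a * d) ^ 3 = 1 :=
  pow_three_of_not_commute S.cls.1 ha hd had

theorem line_ne_one (S : Fi22Setup D) {a d : G} (_ha : a ∈ D) (hd : d ∈ D) (had : ¬ Commute a d) :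
    a * d ≠ 1 := fun h => had (by
  rw [eq_inv_of_mul_eq_one_left h, inv_eq S.cls.1 hd])

/-- Not both centralised and inverted. -/
theorem line_not_both (S : Fi22Setup D) {a d g : G} (ha : a ∈ D) (hd : d ∈ D) (had : ¬ Commute a d)
    (h1 : Commute g (a * d)) (h2 : g * (a * d) * g⁻¹ = (a * d)⁻¹) : False := by
  rw [h1.eq, mul_inv_cancel_right] at h2
  have h3 := line_pow_three S ha hd had
  have : (a * d) * (a * d) = 1 := by
    conv_lhs => arg 2; rw [h2]
    exact mul_inv_cancel _
  exact line_ne_one S ha hd had (by rw [pow_succ, pow_two, this, one_mul] at h3; exact h3)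

theorem conj_line_left (S : Fi22Setup D) {a d : G} (ha : a ∈ D) (hd : d ∈ D) :
    a * (a * d) * a⁻¹ = (a * d)⁻¹ := by
  rw [mul_inv_rev, inv_eq S.cls.1 ha, inv_eq S.cls.1 hd, mul_self_cancel S.cls.1 ha]

theorem conj_line_right (S : Fi22Setup D) {a d : G} (ha : a ∈ D) (hd : d ∈ D) :
    d * (a * d) * d⁻¹ = (a * d)⁻¹ := by
  rw [mul_inv_rev, inv_eq S.cls.1 ha, inv_eq S.cls.1 hd, ← mul_assoc, mul_assoc (d * a), mul_self S.cls.1 hd,
    mul_one]

/-- A member commuting with `a * d` commutes with `a` and with `d`. -/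
theorem commute_of_line (S : Fi22Setup D) {a d q : G} (ha : a ∈ D) (hd : d ∈ D) (had : ¬ Commute a d)
    (hq : q ∈ D) (h : Commute q (a * d)) : Commute q a ∧ Commute q d := by
  by_cases hqa : Commute q a
  · refine ⟨hqa, ?_⟩
    have := hqa.mul_right h
    rwa [← mul_assoc, mul_self S.cls.1 ha, one_mul] at this
  exfalso
  set x := a * d with hx
  have hc : (q * a) * x * (q * a)⁻¹ = x⁻¹ := by
    rw [show (q * a) * x * (q * a)⁻¹ = q * (a * x * a⁻¹) * q⁻¹ by group, hx, conj_line_left S ha hd, ← hx,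
      h.inv_right.eq, mul_inv_cancel_right]
  have h3 : (q * a) ^ 3 = 1 := pow_three_of_not_commute S.cls.1 hq ha hqa
  have hinv : (q * a) * x⁻¹ * (q * a)⁻¹ = x := by
    rw [← conj_inv, hc, inv_inv]
  have : (q * a) ^ 3 * x * ((q * a) ^ 3)⁻¹ = x⁻¹ := by
    rw [show (q * a) ^ 3 * x * ((q * a) ^ 3)⁻¹
      = (q * a) * ((q * a) * ((q * a) * x * (q * a)⁻¹) * (q * a)⁻¹) * (q * a)⁻¹ by
        simp only [pow_succ, pow_zero, one_mul, mul_inv_rev, mul_assoc], hc, hinv, hc]
  rw [h3, one_mul, inv_one, mul_one] at this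
  exact line_not_both S ha hd had (Commute.one_left _) (by rw [one_mul, inv_one, mul_one]; exact this)

/-- The members inverting `a * d` are the three members of the line. -/
theorem inverting_mem (S : Fi22Setup D) {a d e : G} (ha : a ∈ D) (hd : d ∈ D) (had : ¬ Commute a d)
    (he : e ∈ D) (h : e * (a * d) * e⁻¹ = (a * d)⁻¹) : e = a ∨ e = d ∨ e = a * d * a := by
  obtain ⟨q, hq⟩ := common_nonempty S ha hd had
  have hD := S.cls.1
  have H : ∀ y ∈ D, Commute y a → Commute y d → Commute y e := by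
    intro y hy hya hyd
    by_contra hye
    have hyx : Commute y (a * d) := hya.mul_right hyd
    have hxy : Commute (e * y * e⁻¹) (a * d) := by
      have h1 := (commute_conj (g := e) hyx)
      rw [h] at h1
      simpa using h1.inv_right
    have heq : e = y * (e * y * e⁻¹) * y := by
      rw [inv_eq hD he, ← braid hD hy he hye]
      simp only [mul_assoc, mul_self_cancel hD hy, mul_self hD hy, mul_one]
    refine line_not_both S ha hd had ?_ h
    rw [heq]
    exact (hyx.mul_left hxy).mul_left hyx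
  have hqe : e ∈ adj D q := by
    refine ⟨he, fun e' => ?_, (H q hq.1.1 hq.1.2.2.symm hq.2.2.2.symm)⟩
    rw [e'] at h
    exact line_not_both S ha hd had (hq.1.2.2.symm.mul_right hq.2.2.2.symm) h
  exact line_three S hq.1.1 (adj_symm ha hq.1) (adj_symm hd hq.2) had hqe fun y hy => H y hy.1

/-- The members centralising `a * d`. -/
theorem inter_centralizer_line (S : Fi22Setup D) {a d : G} (ha : a ∈ D) (hd : d ∈ D) (had : ¬ Commute a d) :
    D ∩ (Subgroup.centralizer ((Subgroup.zpowers (a * d) : Subgroup G) : Set G) : Set G) = common D a d := by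
  ext q
  constructor
  · rintro ⟨hq, hc⟩
    obtain ⟨h1, h2⟩ := commute_of_line S ha hd had hq
      ((Subgroup.mem_centralizer_iff.1 hc (a * d) (Subgroup.mem_zpowers _)).symm)
    exact ⟨⟨hq, fun e => had (e ▸ h2), h1.symm⟩, hq, fun e => had (e ▸ h1).symm, h2.symm⟩
  · intro hq
    refine ⟨hq.1.1, Subgroup.mem_centralizer_iff.2 fun x hx => ?_⟩
    obtain ⟨i, rfl⟩ := Subgroup.mem_zpowers_iff.1 hx
    exact (((hq.1.2.2.symm.mul_right hq.2.2.2.symm).zpow_right i).symm)

theorem mem_normalizer_of_conj {g x : G} (h : g * x * g⁻¹ = x ∨ g * x * g⁻¹ = x⁻¹) :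
    g ∈ Subgroup.normalizer ((Subgroup.zpowers x : Subgroup G) : Set G) := by
  have hm : (Subgroup.zpowers x).map (MulAut.conj g).toMonoidHom = Subgroup.zpowers x := by
    rw [MonoidHom.map_zpowers]
    rcases h with h | h
    · exact congrArg _ h
    · exact (congrArg _ h).trans Subgroup.zpowers_inv
  rw [Subgroup.mem_normalizer_iff]
  intro y
  constructor
  · intro hy
    rw [← hm]
    exact ⟨y, hy, rfl⟩
  · intro hy
    rw [← hm] at hy
    obtain ⟨z, hz, e⟩ := hy
    rwa [← (MulAut.conj g).injective e]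

/-- The normaliser of the line. -/
theorem normalizer_line (S : Fi22Setup D) {a d : G} (ha : a ∈ D) (hd : d ∈ D) (had : ¬ Commute a d) :
    Subgroup.closure ({a, d} : Set G) ⊔ (Subgroup.centralizer ({a} : Set G) ⊓ Subgroup.centralizer {d})
      = Subgroup.normalizer ((Subgroup.zpowers (a * d) : Subgroup G) : Set G) := by
  have hD := S.cls.1
  refine le_antisymm (sup_le ((Subgroup.closure_le _).2 ?_) ?_) fun g hg => ?_
  · rintro _ (rfl | rfl)
    exacts [mem_normalizer_of_conj (Or.inr (conj_line_left S ha hd)),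
      mem_normalizer_of_conj (Or.inr (conj_line_right S ha hd))]
  · rintro g ⟨h1, h2⟩
    refine mem_normalizer_of_conj (Or.inl ?_)
    have c1 : Commute g a := Subgroup.mem_centralizer_singleton_iff.1 h1
    have c2 : Commute g d := Subgroup.mem_centralizer_singleton_iff.1 h2
    have h : Commute g (a * d) := c1.mul_right c2
    rw [h.eq, mul_inv_cancel_right]
  -- the images of `a` and `d` invert the line
  have inv : ∀ e, e ∈ D → e * (a * d) * e⁻¹ = (a * d)⁻¹ →
      g * e * g⁻¹ = a ∨ g * e * g⁻¹ = d ∨ g * e * g⁻¹ = a * d * a := by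
    intro e he h
    refine inverting_mem S ha hd had (S.conj_mem g he) ?_
    obtain ⟨i, hi⟩ := Subgroup.mem_zpowers_iff.1
      ((Subgroup.mem_normalizer_iff.1 (inv_mem hg) (a * d)).1 (Subgroup.mem_zpowers _))
    rw [inv_inv] at hi
    have e1 : a * d = g * (a * d) ^ i * g⁻¹ := by rw [hi]; group
    calc g * e * g⁻¹ * (a * d) * (g * e * g⁻¹)⁻¹ = g * (e * (g⁻¹ * (a * d) * g) * e⁻¹) * g⁻¹ := by group
      _ = g * ((a * d) ^ i)⁻¹ * g⁻¹ := by rw [← hi, ← conj_zpow, h, inv_zpow]
      _ = (a * d)⁻¹ := by rw [← conj_inv, ← e1]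
  have ca := inv a ha (conj_line_left S ha hd)
  have cd := inv d hd (conj_line_right S ha hd)
  have hne : g * a * g⁻¹ ≠ g * d * g⁻¹ := fun e => had ((MulAut.conj g).injective e ▸ Commute.refl a)
  have hb : a * d * a = d * a * d := braid hD ha hd had
  suffices h : ∃ s ∈ Subgroup.closure ({a, d} : Set G), s * a * s⁻¹ = g * a * g⁻¹ ∧ s * d * s⁻¹ = g * d * g⁻¹ by
    obtain ⟨s, hs, h1, h2⟩ := h
    rw [← mul_inv_cancel_left s g]
    refine Subgroup.mul_mem_sup hs ⟨Subgroup.mem_centralizer_singleton_iff.2 ?_,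
      Subgroup.mem_centralizer_singleton_iff.2 ?_⟩ <;> apply mul_inv_eq_iff_eq_mul.1
    · rw [show s⁻¹ * g * a * (s⁻¹ * g)⁻¹ = s⁻¹ * (g * a * g⁻¹) * s by group, ← h1]; group
    · rw [show s⁻¹ * g * d * (s⁻¹ * g)⁻¹ = s⁻¹ * (g * d * g⁻¹) * s by group, ← h2]; group
  have ma : a ∈ Subgroup.closure ({a, d} : Set G) := Subgroup.subset_closure (Set.mem_insert _ _)
  have md : d ∈ Subgroup.closure ({a, d} : Set G) := Subgroup.subset_closure (Set.mem_insert_of_mem _ rfl)
  have ia := inv_eq hD ha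
  have idd := inv_eq hD hd
  have hb' : ∀ x, a * (d * (a * x)) = d * (a * (d * x)) := fun x => by
    rw [← mul_assoc, ← mul_assoc, hb, mul_assoc, mul_assoc]
  have hb'' : a * (d * a) = d * (a * d) := by rw [← mul_assoc, hb, mul_assoc]
  have norm : ∀ s ∈ Subgroup.closure ({a, d} : Set G), ∀ u w, s * a * s⁻¹ = u → s * d * s⁻¹ = w →
      g * a * g⁻¹ = u → g * d * g⁻¹ = w →
      ∃ s ∈ Subgroup.closure ({a, d} : Set G), s * a * s⁻¹ = g * a * g⁻¹ ∧ s * d * s⁻¹ = g * d * g⁻¹ :=
    fun s hs u w h1 h2 h3 h4 => ⟨s, hs, h1.trans h3.symm, h2.trans h4.symm⟩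
  rcases ca with e1 | e1 | e1 <;> rcases cd with e2 | e2 | e2
  all_goals first | exact absurd (e1.trans e2.symm) hne | skip
  case inl.inr.inl => exact norm 1 (one_mem _) a d (by group) (by group) e1 e2
  case inl.inr.inr => exact norm a ma a _ (by group) (by rw [ia]) e1 e2
  case inr.inl.inl =>
    refine norm _ (mul_mem (mul_mem ma md) ma) d a ?_ ?_ e1 e2 <;>
      simp only [mul_inv_rev, ia, idd, mul_assoc, mul_self_cancel hD ha, mul_self_cancel hD hd, mul_self hD ha,
        mul_self hD hd, hb', hb'', mul_one, one_mul]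
  case inr.inl.inr.inr =>
    refine norm _ (mul_mem ma md) d _ ?_ ?_ e1 e2 <;>
      simp only [mul_inv_rev, ia, idd, mul_assoc, mul_self_cancel hD ha, mul_self_cancel hD hd, mul_self hD ha,
        mul_self hD hd, hb', hb'', mul_one, one_mul]
  case inr.inr.inl =>
    refine norm _ (mul_mem md ma) _ a ?_ ?_ e1 e2 <;>
      simp only [mul_inv_rev, ia, idd, mul_assoc, mul_self_cancel hD ha, mul_self_cancel hD hd, mul_self hD ha,
        mul_self hD hd, hb', hb'', mul_one, one_mul]
  case inr.inr.inr.inl =>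
    refine norm d md _ d ?_ ?_ e1 e2 <;>
      simp only [mul_inv_rev, ia, idd, mul_assoc, mul_self_cancel hD ha, mul_self_cancel hD hd, mul_self hD ha,
        mul_self hD hd, hb', hb'', mul_one, one_mul]

/-- `Sym(3)`. -/
theorem closure_pair_sym (S : Fi22Setup D) {a d : G} (ha : a ∈ D) (hd : d ∈ D) (had : ¬ Commute a d) :
    Nonempty (↥(Subgroup.closure ({a, d} : Set G)) ≃* Equiv.Perm (Fin 3)) ∧
      Subgroup.closure ({a, d} : Set G) ⊓ (Subgroup.centralizer ({a} : Set G) ⊓ Subgroup.centralizer {d}) = ⊥ := by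
  have hD := S.cls.1
  set t : ℕ → G := fun i => if i = 0 then a else d with ht
  obtain ⟨φ, hφ⟩ := exists_hom_perm (t := t) (n := 2) ⟨fun i _ => by
      rw [ht]; dsimp only; split <;> [exact mul_self hD ha; exact mul_self hD hd],
    fun i hi => by
      obtain rfl : i = 0 := by omega
      simpa [ht] using braid hD ha hd had,
    fun i j h1 h2 => by omega⟩
  have hr : φ.range = Subgroup.closure ({a, d} : Set G) := by
    rw [range_hom_perm hφ]
    congr 1
    ext x
    simp only [Set.mem_image, Set.mem_Iio, Set.mem_insert_iff, Set.mem_singleton_iff, ht]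
    constructor
    · rintro ⟨i, -, rfl⟩
      split <;> simp
    · rintro (rfl | rfl)
      exacts [⟨0, by norm_num, by simp⟩, ⟨1, by norm_num, by simp⟩]
  have h0 : φ (Equiv.swap 0 1) = a := by simpa [ht] using hφ 0
  have h1 : φ (Equiv.swap 1 2) = d := by simpa [ht] using hφ 1
  have hinj : Function.Injective φ := injective_perm_three (by rw [map_mul, h0, h1]; exact line_ne_one S ha hd had)
  refine ⟨⟨((MonoidHom.ofInjective hinj).trans (MulEquiv.subgroupCongr hr)).symm⟩, ?_⟩
  rw [eq_bot_iff]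
  rintro x ⟨hx, hxa, hxd⟩
  rw [SetLike.mem_coe, ← hr] at hx
  obtain ⟨σ, rfl⟩ := hx
  have c0 : σ * Equiv.swap 0 1 = Equiv.swap 0 1 * σ := hinj (by
    rw [map_mul, map_mul, h0]; exact Subgroup.mem_centralizer_singleton_iff.1 hxa)
  have c1 : σ * Equiv.swap 1 2 = Equiv.swap 1 2 * σ := hinj (by
    rw [map_mul, map_mul, h1]; exact Subgroup.mem_centralizer_singleton_iff.1 hxd)
  have key : ∀ τ : Equiv.Perm (Fin 3), τ * Equiv.swap 0 1 = Equiv.swap 0 1 * τ →
      τ * Equiv.swap 1 2 = Equiv.swap 1 2 * τ → τ = 1 := by decide +kernel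
  rw [key σ c0 c1, map_one]
  exact one_mem _

/-- Six common neighbours commute pairwise, and no more. -/
theorem width_common (S : Fi22Setup D) {a d : G} (ha : a ∈ D) (hd : d ∈ D) (had : ¬ Commute a d) :
    Cfsg.commutingWidth (common D a d) = 6 := by
  have up : ∀ E ⊆ common D a d, (∀ x ∈ E, ∀ y ∈ E, Commute x y) → E.ncard ≤ 6 := by
    intro E hE hc
    rcases E.eq_empty_or_nonempty with rfl | ⟨q, hqE⟩
    · simp
    have hq := hE hqE
    obtain ⟨F, _, _, pt, M⟩ := S.exists_model hq.1.1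
    have hF := M.card
    obtain ⟨v, hv, rfl⟩ := M.surj a (adj_symm ha hq.1)
    obtain ⟨w, hw, rfl⟩ := M.surj d (adj_symm hd hq.2)
    set T := {x : Fin 6 → F | Iso x ∧ pt x ∈ E} with hT
    have hvT : ∀ x ∈ T, hf x v = 0 ∧ hf x w = 0 := fun x hx =>
      ⟨(M.comm x v hx.1 hv).1 (hE hx.2).1.2.2.symm, (M.comm x w hx.1 hw).1 (hE hx.2).2.2.2.symm⟩
    have hW := hf_span_zero hF (T := insert v T) fun p hp q hq => by
      rcases hp with rfl | hp <;> rcases hq with rfl | hq
      exacts [hv.2, (hf_eq_zero_symm hF).1 (hvT q hq).1, (hvT p hp).1,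
        (M.comm p q hp.1 hq.1).1 (hc _ hp.2 _ hq.2)]
    have hb := two_mul_le hF
      (u := fun i => ((Module.finBasis F (Submodule.span F (insert v T)) i : Submodule.span F (insert v T)) :
        Fin 6 → F))
      ((Module.finBasis F (Submodule.span F (insert v T))).linearIndependent.map'
        (Submodule.span F (insert v T)).subtype (Submodule.span F (insert v T)).ker_subtype)
      fun i j => hW _ (Module.finBasis F _ i).2 _ (Module.finBasis F _ j).2
    have hlt : Submodule.span F T < Submodule.span F (insert v T) := by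
      refine lt_of_le_of_ne (Submodule.span_mono (Set.subset_insert _ _)) fun e => ?_
      have hvm : v ∈ Submodule.span F T := e ▸ Submodule.subset_span (Set.mem_insert _ _)
      have hz : ∀ x ∈ Submodule.span F T, hf x w = 0 := fun x hx => by
        induction hx using Submodule.span_induction with
        | mem x hx => exact (hvT x hx).2
        | zero => exact hf_zero_left hF w
        | add x y _ _ hx hy => rw [hf_add_left hF, hx, hy, add_zero]
        | smul c x _ hx => rw [hf_smul_left hF, hx, mul_zero]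
      have : hf v w = 0 := hz v hvm
      exact had ((M.comm v w hv hw).2 this)
    have hlt' := Submodule.finrank_lt_finrank_of_lt hlt
    have h15 : T.ncard ≤ 15 := by
      refine (Set.ncard_le_ncard (show T ⊆ (Submodule.span F T : Set (Fin 6 → F)) \ {0} from
        fun x hx => ⟨Submodule.subset_span hx, hx.1.1⟩) (Set.toFinite _)).trans ?_
      rw [submodule_nonzero_card hF]
      have : 4 ^ Module.finrank F (Submodule.span F T) ≤ 4 ^ 2 := Nat.pow_le_pow_right (by norm_num) (by omega)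
      omega
    have h3 : T.ncard = 3 * {y | y ∈ adj D q ∧ y ∈ E}.ncard := by
      rw [← card_pts M (· ∈ E)]; rfl
    have h4 : E ⊆ insert q {y | y ∈ adj D q ∧ y ∈ E} := fun y hy => by
      by_cases e : y = q
      · exact Or.inl e
      · exact Or.inr ⟨⟨(hE hy).1.1, e, hc q hqE y hy⟩, hy⟩
    have h5 := (Set.ncard_le_ncard h4 (Set.toFinite _)).trans (Set.ncard_insert_le _ _)
    omega
  have low : ∃ E : Set G, E ⊆ common D a d ∧ E.Finite ∧ (∀ x ∈ E, ∀ y ∈ E, Commute x y) ∧ E.ncard = 6 := by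
    obtain ⟨q, hq⟩ := common_nonempty S ha hd had
    obtain ⟨F, _, _, pt, M⟩ := S.exists_model hq.1.1
    have hF := M.card
    obtain ⟨v, hv, rfl⟩ := M.surj a (adj_symm ha hq.1)
    obtain ⟨w, hw, rfl⟩ := M.surj d (adj_symm hd hq.2)
    have h0 : hf v w ≠ 0 := fun e => had ((M.comm v w hv hw).2 e)
    let e : SU32.K4 ≃+* F := FiniteField.ringEquivOfCardEq (hF ▸ SU32.K4.card_eq)
    obtain ⟨r₁, r₂, hr₁, hr₂, hli, hperp⟩ : ∃ r₁ r₂ : Fin 6 → F, Iso r₁ ∧ Iso r₂ ∧
        LinearIndependent F ![r₁, r₂] ∧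
        (hf r₁ r₂ = 0 ∧ (hf r₁ v = 0 ∧ hf r₁ w = 0) ∧ hf r₂ v = 0 ∧ hf r₂ w = 0) := by
      have hc0 : ((hf v w)⁻¹) ^ 2 ≠ 0 := pow_ne_zero _ (inv_ne_zero h0)
      have h1 : hf v (((hf v w)⁻¹) ^ 2 • w) = 1 := by
        rw [hf_smul_right hF, show (((hf v w)⁻¹) ^ 2) ^ 2 = (hf v w)⁻¹ from pow_q_pow_q (card_sq hF) _,
          inv_mul_cancel₀ h0]
      have hS := stdQ_quad e
      have hw' := hw.smul hF hc0
      generalize hwe : ((hf v w)⁻¹) ^ 2 • w = w' at h1 hw'
      obtain ⟨g, hg⟩ := exists_act_family hF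
        (li_of_not_orth hF (hS.iso 0) (by rw [hS.h01]; exact one_ne_zero))
        (li_of_not_orth hF hv (by rw [h1]; exact one_ne_zero))
        (fun i j => by
          fin_cases i <;> fin_cases j <;>
            simp [hv.2, hw'.2, (hS.iso _).2, h1, hS.h01, hf_eq_one_symm hF h1,
              hf_eq_one_symm hF hS.h01])
        (by norm_num)
      let l1 : List SU32.K4 := [.z, .z, .o, .o, .z, .z]
      let l2 : List SU32.K4 := [.z, .z, .z, .z, .o, .o]
      let p : List SU32.K4 → Fin 6 → F := fun l => act g fun j => e (GensCert.vec 6 l j)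
      have hp : ∀ l m : List SU32.K4, Cfsg.hermForm 6 SU32.K4 2 (GensCert.vec 6 l) (GensCert.vec 6 m) = 0 →
          hf (p l) (p m) = 0 := fun l m h => by
        show hf (act g _) (act g _) = 0
        rw [act_hf, GensCert.hf_map e, h, map_zero]
      have hg0 : p (stdQ 0) = v := hg 0
      have hg1 : p (stdQ 1) = ((hf v w)⁻¹) ^ 2 • w := (hg 1).trans hwe.symm
      have hiso : ∀ l : List SU32.K4, GensCert.hk 6 l l = .z → GensCert.vec 6 l ≠ (fun _ => .z) → Iso (p l) :=
        fun l h h' => (vec_iso e h h').act g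
      have hw0 : ∀ x, hf x (p (stdQ 1)) = 0 → hf x w = 0 := fun x hx => by
        rw [hg1, hf_smul_right hF] at hx
        exact (mul_eq_zero.1 hx).resolve_left (pow_ne_zero _ hc0)
      refine ⟨p l1, p l2, hiso l1 (by decide +kernel) (by decide +kernel),
        hiso l2 (by decide +kernel) (by decide +kernel),
        OrthPair.li ⟨hiso l1 (by decide +kernel) (by decide +kernel),
          hiso l2 (by decide +kernel) (by decide +kernel), hp l1 l2 (by decide +kernel), fun c hc => ?_⟩,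
        hp l1 l2 (by decide +kernel), ⟨hg0 ▸ hp l1 (stdQ 0) (by decide +kernel), hw0 _ (hp l1 (stdQ 1) (by decide +kernel))⟩,
        hg0 ▸ hp l2 (stdQ 0) (by decide +kernel), hw0 _ (hp l2 (stdQ 1) (by decide +kernel))⟩
      have h2 : (fun j => e (GensCert.vec 6 l2 j)) = c • fun j => e (GensCert.vec 6 l1 j) := by
        have := congrArg (act g⁻¹) hc
        simp only [p, act_inv_act] at this
        rw [this]
        exact (suAct_smul g⁻¹ c _).trans (congrArg _ (act_inv_act g _))
      have h4 := congrFun h2 4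
      have e1 : GensCert.vec 6 l1 4 = 0 := by decide +kernel
      have e2 : GensCert.vec 6 l2 4 = 1 := by decide +kernel
      simp [e1, e2] at h4
    obtain ⟨h12, ⟨h1v, h1w⟩, h2v, h2w⟩ := hperp
    set W := Submodule.span F (Set.range ![r₁, r₂]) with hW'
    have hWv : ∀ x ∈ W, hf x v = 0 ∧ hf x w = 0 := by
      intro x hx
      induction hx using Submodule.span_induction with
      | mem x hx =>
        obtain ⟨i, rfl⟩ := hx
        fin_cases i
        exacts [⟨h1v, h1w⟩, ⟨h2v, h2w⟩]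
      | zero => exact ⟨hf_zero_left hF v, hf_zero_left hF w⟩
      | add x y _ _ hx hy => exact ⟨by rw [hf_add_left hF, hx.1, hy.1, add_zero],
          by rw [hf_add_left hF, hx.2, hy.2, add_zero]⟩
      | smul c x _ hx => exact ⟨by rw [hf_smul_left hF, hx.1, mul_zero], by rw [hf_smul_left hF, hx.2, mul_zero]⟩
    have hW : ∀ p ∈ W, ∀ q ∈ W, hf p q = 0 := hf_span_zero hF fun p hp q hq => by
      obtain ⟨i, rfl⟩ := hp
      obtain ⟨j, rfl⟩ := hq
      fin_cases i <;> fin_cases j
      exacts [hr₁.2, h12, (hf_eq_zero_symm hF).1 h12, hr₂.2]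
    set T := (W : Set (Fin 6 → F)) \ {0} with hT
    have hTc : T.ncard = 15 := by
      rw [hT, submodule_nonzero_card hF, hW', finrank_span_eq_card hli]; rfl
    have hTI : ∀ p ∈ T, Iso p := fun p hp => ⟨hp.2, hW p hp.1 p hp.1⟩
    set E' := pt '' T with hE'
    have h3 : {x : Fin 6 → F | Iso x ∧ pt x ∈ E'} = T := by
      ext x
      refine ⟨fun ⟨hx, p, hp, e⟩ => ?_, fun hx => ⟨hTI x hx, x, hx, rfl⟩⟩
      obtain ⟨c, hc, rfl⟩ := M.inj p x (hTI p hp) hx e
      exact ⟨W.smul_mem c hp.1, hx.1⟩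
    have h4 := card_pts M (· ∈ E')
    have h5 : {y | y ∈ adj D q ∧ y ∈ E'} = E' := by
      ext y
      refine ⟨fun h => h.2, ?_⟩
      rintro ⟨p, hp, rfl⟩
      exact ⟨M.mem p (hTI p hp), p, hp, rfl⟩
    rw [h5] at h4
    have h6 : Nat.card {x : Fin 6 → F // Iso x ∧ pt x ∈ E'} = T.ncard := by rw [← h3]; rfl
    refine ⟨insert q E', ?_, Set.toFinite _, ?_, ?_⟩
    · rintro _ (rfl | ⟨p, hp, rfl⟩)
      · exact hq
      · have h1 := (M.comm p v (hTI p hp) hv).2 (hWv p hp.1).1
        have h2 := (M.comm p w (hTI p hp) hw).2 (hWv p hp.1).2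
        exact ⟨⟨(M.mem p (hTI p hp)).1, fun e => had (e ▸ h2), h1.symm⟩,
          (M.mem p (hTI p hp)).1, fun e => had (e ▸ h1).symm, h2.symm⟩
    · rintro x (rfl | ⟨p, hp, rfl⟩) y (rfl | ⟨p', hp', rfl⟩)
      exacts [Commute.refl _, (M.mem p' (hTI p' hp')).2.2, (M.mem p (hTI p hp)).2.2.symm,
        (M.comm p p' (hTI p hp) (hTI p' hp')).2 (hW p hp.1 p' hp'.1)]
    · rw [Set.ncard_insert_of_notMem (by
        rintro ⟨p, hp, e⟩
        exact (M.mem p (hTI p hp)).2.1 e)]
      omega
  refine le_antisymm (csSup_le ⟨6, low⟩ ?_) (le_csSup ⟨6, ?_⟩ low)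
  · rintro n ⟨E, hE, -, hc, rfl⟩
    exact up E hE hc
  · rintro n ⟨E, hE, -, hc, rfl⟩
    exact up E hE hc

/-- The conjugates of the line inside the joint centraliser form one class there. -/
theorem line_conjugates (S : Fi22Setup D) {a d : G} (ha : a ∈ D) (hd : d ∈ D) (had : ¬ Commute a d) :
    (∃ g : G, g * (a * d) * g⁻¹ ∈ Subgroup.closure (common D a d)) ∧
    ∀ g h : G, g * (a * d) * g⁻¹ ∈ Subgroup.closure (common D a d) →
      h * (a * d) * h⁻¹ ∈ Subgroup.closure (common D a d) →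
      ∃ k ∈ Subgroup.closure (common D a d), k * (g * (a * d) * g⁻¹) * k⁻¹ = h * (a * d) * h⁻¹ := by
  have hK := (closure_common_refl S ha hd had).1
  refine ⟨?_, fun g h hg hh => ?_⟩
  · obtain ⟨q, hq⟩ := common_nonempty S ha hd had
    obtain ⟨y, hy, hqy⟩ : ∃ y ∈ common D a d, ¬ Commute q y := by
      by_contra hcon
      have hsub : common D a d ⊆ insert q (common D a d ∩ adj D q) := fun y hy => by
        by_cases e : y = q
        · exact Or.inl e
        · exact Or.inr ⟨hy, hy.1.1, e, by_contra fun h => hcon ⟨y, hy, h⟩⟩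
      have := (Set.ncard_le_ncard hsub (Set.toFinite _)).trans (Set.ncard_insert_le _ _)
      rw [common_card S ha hd had, common_deg S ha hd had hq] at this
      omega
    obtain ⟨g₁, hg₁⟩ := class_conj S.cls ha hq.1.1
    obtain ⟨k, hk, hk'⟩ := centralizer_transitive S hq.1.1 (S.conj_mem g₁ hd) hy.1.1
      (fun h => had (commute_of_conj (hg₁.symm ▸ h))) hqy
    refine ⟨k * g₁, ?_⟩
    rw [show k * g₁ * (a * d) * (k * g₁)⁻¹ = (k * (g₁ * a * g₁⁻¹) * k⁻¹) * (k * (g₁ * d * g₁⁻¹) * k⁻¹) by group,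
      hg₁, hk', hk.eq, mul_inv_cancel_right]
    exact mul_mem (Subgroup.subset_closure hq) (Subgroup.subset_closure hy)
  have mem : ∀ g : G, g * (a * d) * g⁻¹ ∈ Subgroup.closure (common D a d) →
      g * a * g⁻¹ ∈ common D a d ∧ g * d * g⁻¹ ∈ common D a d := by
    intro g hg
    obtain ⟨h1, h2⟩ := closure_common_le hg
    have n1 : ¬ Commute (g * a * g⁻¹) (g * d * g⁻¹) := fun h => had (commute_of_conj h)
    have e : g * (a * d) * g⁻¹ = g * a * g⁻¹ * (g * d * g⁻¹) := by group
    rw [e] at h1 h2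
    obtain ⟨c1, c2⟩ := commute_of_line S (S.conj_mem g ha) (S.conj_mem g hd) n1 ha
      ((Subgroup.mem_centralizer_singleton_iff.1 h1 : Commute _ a).symm)
    obtain ⟨c3, c4⟩ := commute_of_line S (S.conj_mem g ha) (S.conj_mem g hd) n1 hd
      ((Subgroup.mem_centralizer_singleton_iff.1 h2 : Commute _ d).symm)
    exact ⟨⟨⟨S.conj_mem g ha, fun e => n1 (e.symm ▸ c2), c1⟩, S.conj_mem g ha, fun e => n1 (e.symm ▸ c4), c3⟩,
      ⟨S.conj_mem g hd, fun e => n1 (e.symm ▸ c1.symm), c2⟩, S.conj_mem g hd, fun e => n1 (e.symm ▸ c3.symm), c4⟩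
  obtain ⟨g1, g2⟩ := mem g hg
  obtain ⟨h1, h2⟩ := mem h hh
  obtain ⟨k, ka, kd, k1, k2⟩ := pairs_conj S ha hd had g1 g2 (fun e => had (commute_of_conj e))
    h1 h2 (fun e => had (commute_of_conj e))
  refine ⟨k, ?_, ?_⟩
  · rw [hK]
    exact ⟨Subgroup.mem_centralizer_singleton_iff.2 ka, Subgroup.mem_centralizer_singleton_iff.2 kd⟩
  · rw [show k * (g * (a * d) * g⁻¹) * k⁻¹ = k * (g * a * g⁻¹) * k⁻¹ * (k * (g * d * g⁻¹) * k⁻¹) by group,
      k1, k2]
    group

end Cfsg.Agent.FischerM22
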