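/-
The centraliser of two commuting members of a group of type M(22), read in the point model of the first.

Main results (namespace `Cfsg.Agent.FischerM22`):
* `PairModel`, `exists_pairModel` : a point model of `a` in which `b` is the standard isotropic point;
* `Acts`, `PairModel.exists_acts`, `acts_unique` : the action on the 693 neighbours of `a`;
* `blockOf_exists`, `rho`, `rho_surjective` : the map of `C(a) ∩ C(b)` onto SU(4,2);
* `rho_eq_one_iff` : its kernel is the stabiliser of all hexads through `a` and `b`.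
-/
import Cfsg.Agent.Lib.FischerM22.Involutions

set_option autoImplicit false

namespace Cfsg.Agent.FischerM22

open scoped Matrix
open Cfsg.Agent.Unitary Cfsg.Agent.U62Cover Cfsg.Agent.ThreeTrans Cfsg.Agent.ThreeTransSU

section Vectors

variable {F : Type*} [Field F] [Fintype F]

/-- The standard isotropic vector. -/
def v0 : Fin 6 → F := Fin.append (![(1 : F), 1] : Fin 2 → F) (0 : Fin 4 → F)

/-- The last four coordinates. -/
def low (y : Fin 4 → F) : Fin 6 → F := Fin.append (0 : Fin 2 → F) y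

omit [Fintype F] in
theorem v0_zero : (v0 : Fin 6 → F) 0 = 1 := rfl

omit [Fintype F] in
theorem v0_one : (v0 : Fin 6 → F) 1 = 1 := rfl

omit [Fintype F] in
theorem v0_nat (i : Fin 4) : (v0 : Fin 6 → F) (Fin.natAdd 2 i) = 0 :=
  Fin.append_right (![(1 : F), 1] : Fin 2 → F) (0 : Fin 4 → F) i

omit [Fintype F] in
theorem low_zero_apply (y : Fin 4 → F) : low y 0 = 0 := rfl

omit [Fintype F] in
theorem low_one_apply (y : Fin 4 → F) : low y 1 = 0 := rfl

omit [Fintype F] in
theorem low_nat (y : Fin 4 → F) (i : Fin 4) : low y (Fin.natAdd 2 i) = y i :=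
  Fin.append_right (0 : Fin 2 → F) y i

omit [Field F] [Fintype F] in
theorem ext6 {x x' : Fin 6 → F} (h0 : x 0 = x' 0) (h1 : x 1 = x' 1)
    (h : ∀ i : Fin 4, x (Fin.natAdd 2 i) = x' (Fin.natAdd 2 i)) : x = x' := by
  funext i
  refine Fin.addCases (m := 2) (n := 4) (fun j => ?_) h i
  fin_cases j
  exacts [h0, h1]

omit [Fintype F] in
theorem low_add (y y' : Fin 4 → F) : low (y + y') = low y + low y' :=
  ext6 (by simp [low_zero_apply]) (by simp [low_one_apply]) fun i => by simp [low_nat]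

omit [Fintype F] in
theorem low_smul (c : F) (y : Fin 4 → F) : low (c • y) = c • low y :=
  ext6 (by simp [low_zero_apply]) (by simp [low_one_apply]) fun i => by simp [low_nat]

omit [Fintype F] in
theorem low_zero : low (0 : Fin 4 → F) = 0 :=
  ext6 (by simp [low_zero_apply]) (by simp [low_one_apply]) fun i => by simp [low_nat]

omit [Fintype F] in
theorem comb_inj {t t' : F} {y y' : Fin 4 → F} (h : t • v0 + low y = t' • v0 + low y') :
    t = t' ∧ y = y' := by
  refine ⟨?_, funext fun i => ?_⟩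
  · simpa [v0_zero, low_zero_apply] using congrFun h 0
  · simpa [v0_nat, low_nat] using congrFun h (Fin.natAdd 2 i)

theorem hf_low_low (y y' : Fin 4 → F) : hf (low y) (low y') = hf y y' := by
  refine (hf_append _ _ _ _).trans ?_
  simp [hf, Cfsg.hermForm]

theorem hf_low_v0 (y : Fin 4 → F) : hf (low y) (v0 : Fin 6 → F) = 0 := by
  refine (hf_append _ _ _ _).trans ?_
  simp [hf, Cfsg.hermForm]

theorem hf_v0_low (y : Fin 4 → F) : hf (v0 : Fin 6 → F) (low y) = 0 := by
  refine (hf_append _ _ _ _).trans ?_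
  simp [hf, Cfsg.hermForm]

theorem hf_v0_v0 (hF : Fintype.card F = 4) : hf (v0 : Fin 6 → F) v0 = 0 := by
  refine (hf_append _ _ _ _).trans ?_
  simp [hf, Cfsg.hermForm, Fin.sum_univ_two]
  linear_combination two_eq_zero hF

theorem v0_iso (hF : Fintype.card F = 4) : Iso (v0 : Fin 6 → F) :=
  ⟨fun h => one_ne_zero ((congrFun h 0).symm.trans rfl).symm, hf_v0_v0 hF⟩

theorem hf_comb (hF : Fintype.card F = 4) (t t' : F) (y y' : Fin 4 → F) :
    hf (t • v0 + low y) (t' • v0 + low y') = hf y y' := by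
  simp only [hf_add_left hF, hf_add_right hF, hf_smul_left hF, hf_smul_right hF, hf_v0_v0 hF, hf_v0_low,
    hf_low_v0, hf_low_low, mul_zero, zero_add, add_zero]

theorem hf_comb_v0 (hF : Fintype.card F = 4) (t : F) (y : Fin 4 → F) :
    hf (t • v0 + low y) (v0 : Fin 6 → F) = 0 := by
  rw [hf_add_left hF, hf_smul_left hF, hf_v0_v0 hF, hf_low_v0, mul_zero, add_zero]

theorem comb_iso (hF : Fintype.card F = 4) (t : F) {y : Fin 4 → F} (hy : Iso y) :
    Iso (t • v0 + low y) :=
  ⟨fun h => hy.1 (comb_inj (t' := 0) (y' := 0) (by rw [h, zero_smul, low_zero, add_zero])).2,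
    (hf_comb hF t t y y).trans hy.2⟩

theorem perp_decomp (hF : Fintype.card F = 4) {x : Fin 6 → F} (h : hf x (v0 : Fin 6 → F) = 0) :
    x = x 0 • v0 + low fun i => x (Fin.natAdd 2 i) := by
  have h' : hf x (v0 : Fin 6 → F) = x 0 + x 1 := by
    conv_lhs => rw [← append_split (k := 2) (m := 4) x]
    refine (hf_append _ _ _ _).trans ?_
    simp [hf, Cfsg.hermForm, Fin.sum_univ_two]
  refine ext6 (by simp [v0_zero, low_zero_apply]) ?_ fun i => by simp [v0_nat, low_nat]
  simp only [Pi.add_apply, Pi.smul_apply, v0_one, low_one_apply, smul_eq_mul, mul_one, add_zero]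
  exact ((eq_iff_add_eq_zero hF).2 (h' ▸ h)).symm

/-- `A` induces `B` on the orthogonal of `v0` modulo `v0`. -/
def BlockOf (A : Cfsg.SU 6 F 2) (B : Cfsg.SU 4 F 2) : Prop :=
  ∀ y : Fin 4 → F, ∃ c : F, act A (low y) = c • v0 + low (act B y)

theorem blockOf_unique {A : Cfsg.SU 6 F 2} {B B' : Cfsg.SU 4 F 2} (h : BlockOf A B) (h' : BlockOf A B') :
    B = B' := act_ext fun y => by
  obtain ⟨c, hc⟩ := h y
  obtain ⟨c', hc'⟩ := h' y
  exact (comb_inj (hc.symm.trans hc')).2

theorem blockOf_mul {A A' : Cfsg.SU 6 F 2} {B B' : Cfsg.SU 4 F 2} (hv : act A v0 = v0) (h : BlockOf A B)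
    (h' : BlockOf A' B') : BlockOf (A * A') (B * B') := fun y => by
  obtain ⟨c', hc'⟩ := h' y
  obtain ⟨c, hc⟩ := h (act B' y)
  exact ⟨c' + c, by rw [act_mul, hc', act_add, act_smul, hv, hc, act_mul, add_smul, add_assoc]⟩

theorem blockOf_one : BlockOf (1 : Cfsg.SU 6 F 2) 1 := fun y =>
  ⟨0, by rw [act_one, act_one, zero_smul, zero_add]⟩

theorem blockOf_inv {A : Cfsg.SU 6 F 2} {B : Cfsg.SU 4 F 2} (hv : act A v0 = v0) (h : BlockOf A B) :
    BlockOf A⁻¹ B⁻¹ := fun y => by
  obtain ⟨c, hc⟩ := h (act B⁻¹ y)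
  rw [act_act_inv] at hc
  refine ⟨-c, ?_⟩
  have := congrArg (act A⁻¹) hc
  have e : act A⁻¹ (v0 : Fin 6 → F) = v0 := by conv_lhs => rw [← hv]; rw [act_inv_act]
  rw [act_inv_act, act_add, act_smul, e] at this
  rw [this, neg_smul, neg_add_cancel_left]

theorem blockOf_lowerHom (B : Cfsg.SU 4 F 2) :
    act (lowerHom B) (v0 : Fin 6 → F) = v0 ∧ BlockOf (lowerHom B) B := by
  refine ⟨?_, fun y => ⟨0, ?_⟩⟩
  · refine (act_lowerHom B _ _).trans ?_
    rw [act_zero]; rfl
  · rw [zero_smul, zero_add]; exact act_lowerHom B _ _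

/-- A transvection orthogonal to `v0`. -/
theorem blockOf_tv (hF : Fintype.card F = 4) {y : Fin 4 → F} (hy : Iso y) (t : F) :
    act (tv hF (t • v0 + low y)) v0 = v0 ∧ BlockOf (tv hF (t • v0 + low y)) (tv hF y) := by
  have hw := comb_iso hF t hy
  refine ⟨act_tv_of_orth hF hw.2 ((hf_eq_zero_symm hF).1 (hf_comb_v0 hF t y)), fun z => ⟨hf z y * t, ?_⟩⟩
  have e : hf (low z) (t • v0 + low y) = hf z y := by
    have := hf_comb hF 0 t z y
    rwa [zero_smul, zero_add] at this
  rw [act_tv hF hw.2, e, act_tv hF hy.2, low_add, low_smul, smul_add, smul_smul]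
  abel

theorem blockOf_exists (hF : Fintype.card F = 4) {A : Cfsg.SU 6 F 2} (hv : act A v0 = v0) :
    ∃ B, BlockOf A B := by
  obtain ⟨r, hr, hvr⟩ := exists_iso_not_orth hF (v0_iso hF)
  have hr' : hf (act A r) (act A r) = 0 := by rw [act_hf]; exact hr.2
  have hvr' : hf (v0 : Fin 6 → F) (act A r) = 1 := by
    rw [← hvr, ← act_hf A v0 r, hv]
  obtain ⟨t, ht, htr⟩ := exists_move hF (v0_iso hF) hr.2 hr' hvr hvr'
  have h2 := stab_pair hF (v0_iso hF) hr.2 hvr (t * A) (by rw [act_mul, hv, tvPerp_fix hF ht])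
    (by rw [act_mul, htr])
  have hA : A ∈ tvPerp F hF v0 := by
    have := mul_mem (inv_mem ht) h2
    rwa [inv_mul_cancel_left] at this
  clear hv h2 hr' hvr' htr ht
  have key : act A v0 = v0 ∧ ∃ B, BlockOf A B := by
    induction hA using Subgroup.closure_induction with
    | mem x hx =>
      obtain ⟨w, hw, hwv, rfl⟩ := hx
      refine ⟨act_tv_of_orth hF hw.2 ((hf_eq_zero_symm hF).1 hwv), ?_⟩
      have e := perp_decomp hF hwv
      set y : Fin 4 → F := fun i => w (Fin.natAdd 2 i) with hy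
      by_cases hy0 : y = 0
      · refine ⟨1, fun z => ⟨0, ?_⟩⟩
        rw [act_tv_of_orth hF hw.2 (by rw [e, hy0, low_zero, add_zero, hf_smul_right hF, hf_low_v0, mul_zero]),
          act_one, zero_smul, zero_add]
      · have hyI : Iso y := ⟨hy0, by rw [← hf_comb hF (w 0) (w 0) y y, ← e]; exact hw.2⟩
        exact ⟨tv hF y, by rw [e]; exact (blockOf_tv hF hyI _).2⟩
    | one => exact ⟨act_one _, 1, blockOf_one⟩
    | mul x y _ _ hx hy =>
      obtain ⟨hx0, B, hB⟩ := hx
      obtain ⟨hy0, B', hB'⟩ := hy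
      exact ⟨by rw [act_mul, hy0, hx0], B * B', blockOf_mul hx0 hB hB'⟩
    | inv x _ hx =>
      obtain ⟨hx0, B, hB⟩ := hx
      refine ⟨?_, B⁻¹, blockOf_inv hx0 hB⟩
      conv_lhs => rw [← hx0]
      rw [act_inv_act]
  exact key.2

/-- An element fixing every isotropic point is central. -/
theorem central_of_fix {n : ℕ} (hF : Fintype.card F = 4) (hn : 4 ≤ n) {g : Cfsg.SU n F 2}
    (h : ∀ y, Iso y → ∃ c : F, c ≠ 0 ∧ act g y = c • y) : g ∈ Subgroup.center (Cfsg.SU n F 2) := by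
  refine Subgroup.mem_center_iff.2 fun x => ?_
  have hle : (⊤ : Subgroup (Cfsg.SU n F 2)) ≤ Subgroup.centralizer {g} := by
    rw [← closure_tv hF hn, Subgroup.closure_le]
    rintro _ ⟨v, hv, rfl⟩
    refine Subgroup.mem_centralizer_singleton_iff.2 ?_
    obtain ⟨c, hc, e⟩ := h v hv
    have e' := tv_conj_inv hF g hv.2
    rw [e, tv_smul hF hv hc, mul_inv_eq_iff_eq_mul] at e'
    exact e'.symm
  exact Subgroup.mem_centralizer_singleton_iff.1 (hle (Subgroup.mem_top x))

theorem card_SU4 (hF : Fintype.card F = 4) : Nat.card (Cfsg.SU 4 F 2) = 25920 := by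
  have h := card_SU (q := 2) (card_sq hF) 4 (by norm_num)
  simp [Finset.prod_range_succ, Nat.even_iff] at h
  omega

theorem center_SU4 (hF : Fintype.card F = 4) : Subgroup.center (Cfsg.SU 4 F 2) = ⊥ := by
  refine Subgroup.eq_bot_of_card_eq _ ?_
  rw [card_center_SU (card_sq hF) (by norm_num)]
  rfl

end Vectors

variable {G : Type*} [Group G] {D : Set G} {F : Type*} [Field F] [Fintype F]

/-- A point model of `a` in which `b` is the standard point. -/
structure PairModel (D : Set G) (a b : G) (pt : (Fin 6 → F) → G) : Prop where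
  S : Fi22Setup D
  ha : a ∈ D
  M : PointModel D a pt
  hb : pt v0 = b
  rep : ∀ k, Commute k a → ∃ A : Cfsg.SU 6 F 2, ∀ x, Iso x → k * pt x * k⁻¹ = pt (act A x)
  realise : ∀ A : Cfsg.SU 6 F 2, ∃ k, Commute k a ∧ ∀ x, Iso x → k * pt x * k⁻¹ = pt (act A x)
  self : ∀ w, Iso w → ∀ x, Iso x → pt w * pt x * (pt w)⁻¹ = pt (act (tv M.card w) x)

theorem exists_pairModel [Finite G] (S : Fi22Setup D) {a b : G} (ha : a ∈ D) (hb : b ∈ adj D a) :
    ∃ (F : Type) (_ : Field F) (_ : Fintype F) (pt : (Fin 6 → F) → G), PairModel D a b pt := by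
  obtain ⟨F, iF, iT, pt, θ, L⟩ := exists_locModel S ha
  have M := L.M
  have hF := M.card
  obtain ⟨v, hv, rfl⟩ := M.surj b hb
  obtain ⟨s, hs⟩ := exists_act hF (by norm_num) (v0_iso hF) hv
  have rep : ∀ k, Commute k a → ∃ A : Cfsg.SU 6 F 2, ∀ x, Iso x → k * pt x * k⁻¹ = pt (act A x) := by
    intro k hk
    have hkL : k ∈ Loc D a := by
      rw [← centralizer_eq_loc S ha]; exact Subgroup.mem_centralizer_singleton_iff.2 hk
    obtain ⟨A, hA⟩ := QuotientGroup.mk'_surjective _ (θ ⟨k, hkL⟩)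
    exact ⟨A, fun x hx => L.conj_pt S ha hA.symm hx⟩
  refine ⟨F, iF, iT, fun x => pt (act s x), S, ha, ?_, by rw [hs], fun k hk => ?_, fun A => ?_,
    fun w hw x hx => ?_⟩
  · refine ⟨hF, fun x hx => M.mem _ (hx.act s), fun y hy => ?_, fun x c hx hc => ?_, fun x y hx hy h => ?_,
      fun x y hx hy => ?_, fun l hl hprod y hy => ?_⟩
    · obtain ⟨x, hx, rfl⟩ := M.surj y hy
      exact ⟨act s⁻¹ x, hx.act _, by rw [act_act_inv]⟩
    · show pt (act s (c • x)) = _
      rw [act_smul, M.smul _ c (hx.act s) hc]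
    · obtain ⟨c, hc, e⟩ := M.inj _ _ (hx.act s) (hy.act s) h
      rw [← act_smul, act_eq_iff] at e
      exact ⟨c, hc, e⟩
    · rw [← act_hf s x y]; exact M.comm _ _ (hx.act s) (hy.act s)
    · have e : ((l.map (act s)).map (tv hF)).prod = 1 := by
        have : ∀ l : List (Fin 6 → F), (∀ p ∈ l, Iso p) →
            ((l.map (act s)).map (tv hF)).prod = s * (l.map (tv hF)).prod * s⁻¹ := by
          intro l
          induction l with
          | nil => intro; simp
          | cons p l ih =>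
            intro h
            simp only [List.map_cons, List.prod_cons]
            rw [ih fun q hq => h q (List.mem_cons_of_mem _ hq),
              ← tv_conj_inv hF s (h p List.mem_cons_self).2]
            group
        rw [this l hl, hprod, mul_one, mul_inv_cancel]
      have := M.rel (l.map (act s)) (fun p hp => by
        obtain ⟨q, hq, rfl⟩ := List.mem_map.1 hp
        exact (hl q hq).act s) e y hy
      rwa [List.map_map] at this
  · obtain ⟨A, hA⟩ := rep k hk
    exact ⟨s⁻¹ * A * s, fun x hx => by rw [hA _ (hx.act s), act_mul, act_mul, act_act_inv]⟩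
  · obtain ⟨h, hh⟩ := L.realise S ha (s * A * s⁻¹)
    exact ⟨h, commute_of_mem_Loc h.2, fun x hx => by
      rw [hh _ (hx.act s), act_mul, act_mul, act_inv_act]⟩
  · have hw' := M.mem _ (hw.act s)
    have h := L.conj_pt S ha (h := ⟨pt (act s w), Subgroup.subset_closure hw'⟩)
      (L.image _ (hw.act s) _) (hx.act s)
    rw [h, ← tv_conj_inv hF s hw.2, act_mul, act_mul, act_inv_act]

/-- `k` acts on the neighbours as `A`, which fixes the standard vector. -/
def Acts (pt : (Fin 6 → F) → G) (k : G) (A : Cfsg.SU 6 F 2) : Prop :=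
  act A v0 = v0 ∧ ∀ x, Iso x → k * pt x * k⁻¹ = pt (act A x)

theorem acts_mul {pt : (Fin 6 → F) → G} {k l : G} {A A' : Cfsg.SU 6 F 2} (h : Acts pt k A)
    (h' : Acts pt l A') : Acts pt (k * l) (A * A') :=
  ⟨by rw [act_mul, h'.1, h.1], fun x hx => by
    rw [show k * l * pt x * (k * l)⁻¹ = k * (l * pt x * l⁻¹) * k⁻¹ by group, h'.2 x hx, h.2 _ (hx.act A'),
      act_mul]⟩

theorem acts_one {pt : (Fin 6 → F) → G} : Acts pt (1 : G) (1 : Cfsg.SU 6 F 2) :=
  ⟨act_one _, fun x _ => by rw [act_one]; group⟩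

theorem acts_inv {pt : (Fin 6 → F) → G} {k : G} {A : Cfsg.SU 6 F 2} (h : Acts pt k A) :
    Acts pt k⁻¹ A⁻¹ := by
  refine ⟨?_, fun x hx => ?_⟩
  · conv_lhs => rw [← h.1]
    rw [act_inv_act]
  · have := h.2 _ (hx.act A⁻¹)
    rw [act_act_inv] at this
    rw [← this]; group

/-- The element acting as the transvection of `t • v0 + low y`. -/
def Q (pt : (Fin 6 → F) → G) (t : F) (y : Fin 4 → F) : G := pt (t • v0 + low y)

namespace PairModel

variable {a b : G} {pt : (Fin 6 → F) → G}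

theorem hbadj (P : PairModel D a b pt) : b ∈ adj D a := P.hb ▸ P.M.mem _ (v0_iso P.M.card)

theorem acts_unique (P : PairModel D a b pt) {k : G} {A A' : Cfsg.SU 6 F 2} (h : Acts pt k A)
    (h' : Acts pt k A') : A = A' := by
  have hF := P.M.card
  have hz : A'⁻¹ * A ∈ Subgroup.center (Cfsg.SU 6 F 2) := by
    refine central_of_fix hF (by norm_num) fun x hx => ?_
    obtain ⟨c, hc, e⟩ := P.M.inj _ _ (hx.act A') (hx.act A) ((h'.2 x hx).symm.trans (h.2 x hx))
    exact ⟨c, hc, by rw [act_mul, e, act_smul, act_inv_act]⟩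
  obtain ⟨ζ, hζ⟩ := (mem_center_SU_iff (card_sq hF) (by norm_num) _).1 hz
  have hsc : ∀ x, act (A'⁻¹ * A) x = ζ • x := fun x => by
    show ((A'⁻¹ * A : Cfsg.SU 6 F 2) : Matrix.SpecialLinearGroup (Fin 6) F).1 *ᵥ x = _
    rw [hζ]
    ext i
    simp [Matrix.scalar_apply, Matrix.mulVec_diagonal]
  have e : act (A'⁻¹ * A) v0 = (v0 : Fin 6 → F) := by
    rw [act_mul, h.1]
    conv_lhs => rw [← h'.1]
    rw [act_inv_act]
  have h1 : ζ = 1 := by
    have := congrFun ((hsc v0).symm.trans e) 0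
    simpa [v0_zero] using this
  exact (inv_mul_eq_one.1 (act_ext fun x => by rw [hsc, h1, one_smul, act_one])).symm

theorem exists_acts (P : PairModel D a b pt) {k : G} (ka : Commute k a) (kb : Commute k b) :
    ∃ A, Acts pt k A := by
  have hF := P.M.card
  obtain ⟨A, hA⟩ := P.rep k ka
  have h := hA _ (v0_iso hF)
  rw [P.hb, kb.eq, mul_inv_cancel_right, ← P.hb] at h
  obtain ⟨c, hc, e⟩ := P.M.inj _ _ (v0_iso hF) ((v0_iso hF).act A) h
  obtain ⟨z, -, hz⟩ := exists_scalar hF (inv_ne_zero hc)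
  refine ⟨z * A, by rw [act_mul, hz, e, inv_smul_smul₀ hc], fun x hx => ?_⟩
  rw [hA x hx, act_mul, hz, P.M.smul _ _ (hx.act A) (inv_ne_zero hc)]

theorem exists_elem (P : PairModel D a b pt) {A : Cfsg.SU 6 F 2} (hA : act A v0 = v0) :
    ∃ k, Commute k a ∧ Commute k b ∧ Acts pt k A := by
  obtain ⟨k, ka, hk⟩ := P.realise A
  refine ⟨k, ka, ?_, hA, hk⟩
  have := hk _ (v0_iso P.M.card)
  rw [hA, P.hb] at this
  exact mul_inv_eq_iff_eq_mul.1 this

/-- The kernel of the action. -/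
theorem acts_one_iff [Finite G] (P : PairModel D a b pt) {k : G} (ka : Commute k a) :
    Acts pt k 1 ↔ k = 1 ∨ k = a := by
  constructor
  · intro h
    refine eq_one_or_self P.S P.ha ka fun y hy => ?_
    obtain ⟨x, hx, rfl⟩ := P.M.surj y hy
    have := h.2 x hx
    rw [act_one] at this
    exact mul_inv_eq_iff_eq_mul.1 this
  · rintro (rfl | rfl)
    · exact acts_one
    · exact ⟨act_one _, fun x hx => by rw [act_one, (P.M.mem x hx).2.2.eq, mul_inv_cancel_right]⟩

theorem acts_b (P : PairModel D a b pt) : Acts pt b (tv P.M.card v0) :=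
  ⟨act_tv_self P.M.card (hf_v0_v0 P.M.card), fun x hx => by
    have := P.self _ (v0_iso P.M.card) x hx
    rwa [P.hb] at this⟩

theorem Q_mem (P : PairModel D a b pt) (t : F) {y : Fin 4 → F} (hy : Iso y) :
    Q pt t y ∈ common D a b := by
  have hw := comb_iso P.M.card t hy
  refine ⟨P.M.mem _ hw, (P.M.mem _ hw).1, fun h => ?_, ?_⟩
  · obtain ⟨c, -, e⟩ := P.M.inj _ _ (v0_iso P.M.card) hw (P.hb.trans h.symm)
    exact hy.1 (comb_inj (t' := c) (y' := 0) (by rw [e, low_zero, add_zero])).2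
  · rw [← P.hb]
    exact ((P.M.comm _ _ hw (v0_iso P.M.card)).2 (hf_comb_v0 P.M.card t y)).symm

theorem exists_Q (P : PairModel D a b pt) {q : G} (hq : q ∈ common D a b) :
    ∃ t y, Iso y ∧ q = Q pt t y := by
  have hF := P.M.card
  obtain ⟨w, hw, rfl⟩ := P.M.surj q hq.1
  have h0 : hf w (v0 : Fin 6 → F) = 0 :=
    (P.M.comm _ _ hw (v0_iso hF)).1 (by rw [P.hb]; exact hq.2.2.2.symm)
  have e := perp_decomp hF h0
  refine ⟨w 0, fun i => w (Fin.natAdd 2 i), ⟨fun h => ?_, ?_⟩, by rw [Q, ← e]⟩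
  · rw [h, low_zero, add_zero] at e
    refine hq.2.2.1 ?_
    rw [e, P.M.smul _ _ (v0_iso hF) (fun hc => hw.1 (by rw [e, hc, zero_smul])), P.hb]
  · rw [← hf_comb hF (w 0) (w 0), ← e]; exact hw.2

theorem Q_inj (P : PairModel D a b pt) {t t' : F} {y y' : Fin 4 → F} (hy : Iso y) (hy' : Iso y')
    (h : Q pt t y = Q pt t' y') : ∃ c : F, c ≠ 0 ∧ t' = c * t ∧ y' = c • y := by
  obtain ⟨c, hc, e⟩ := P.M.inj _ _ (comb_iso P.M.card t hy) (comb_iso P.M.card t' hy') h
  rw [smul_add, smul_smul, ← low_smul] at e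
  exact ⟨c, hc, comb_inj e⟩

theorem Q_inj_left (P : PairModel D a b pt) {t t' : F} {y : Fin 4 → F} (hy : Iso y)
    (h : Q pt t y = Q pt t' y) : t = t' := by
  obtain ⟨c, -, e1, e2⟩ := P.Q_inj hy hy h
  have : c = 1 := smul_left_injective F hy.1 (show c • y = (1 : F) • y by rw [one_smul, ← e2])
  rw [e1, this, one_mul]

theorem Q_smul (P : PairModel D a b pt) (t : F) {y : Fin 4 → F} (hy : Iso y) {c : F} (hc : c ≠ 0) :
    Q pt (c * t) (c • y) = Q pt t y := by
  rw [Q, Q, low_smul, ← smul_smul, ← smul_add, P.M.smul _ _ (comb_iso P.M.card t hy) hc]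

theorem hexSet_eq (P : PairModel D a b pt) [Finite G] (t s : F) {y : Fin 4 → F} (hy : Iso y) :
    Q pt s y ∈ hexSet D a b (Q pt t y) := by
  have hF := P.M.card
  have hw := comb_iso hF t hy
  have hs := comb_iso hF s hy
  have hq := P.Q_mem s hy
  refine ⟨hq.1.1, hq.1.2.2.symm, hq.2.2.2.symm, (P.M.comm _ _ hs hw).2 ((hf_comb hF _ _ _ _).trans hy.2),
    fun z hz za zb zq => ?_⟩
  by_cases hne : z = a
  · rw [hne]; exact hq.1.2.2.symm
  obtain ⟨x, hx, rfl⟩ := P.M.surj z ⟨hz, hne, za.symm⟩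
  rw [← P.hb] at zb
  have h1 := (P.M.comm _ _ hx (v0_iso hF)).1 zb
  have h2 := (P.M.comm _ _ hx hw).1 zq
  rw [hf_add_right hF, hf_smul_right hF, h1, mul_zero, zero_add] at h2
  refine ((P.M.comm _ _ hx hs).2 ?_).symm
  rw [hf_add_right hF, hf_smul_right hF, h1, mul_zero, zero_add, h2]

theorem exists_Q_of_hex (P : PairModel D a b pt) [Finite G] {t : F} {y : Fin 4 → F} (hy : Iso y) {p : G}
    (hp : p ∈ hexSet D a b (Q pt t y)) (hpa : p ≠ a) (hpb : p ≠ b) : ∃ s, p = Q pt s y := by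
  have hF := P.M.card
  by_cases hq : p = Q pt t y
  · exact ⟨t, hq⟩
  have hw := comb_iso hF t hy
  rw [← P.hb] at hp hpb
  obtain ⟨τ, hτ, -, e⟩ := hexad_vectors P.M (u := v0) (w := t • v0 + low y)
    ⟨v0_iso hF, hw, (hf_eq_zero_symm hF).1 (hf_comb_v0 hF t y), fun c h =>
      hy.1 (comb_inj (t' := c) (y' := 0) (by rw [h, low_zero, add_zero])).2⟩ hp hpa hpb hq
  refine ⟨τ⁻¹ + t, ?_⟩
  rw [e, ← P.Q_smul _ hy hτ, Q, low_smul, smul_add, smul_smul, mul_add, mul_inv_cancel₀ hτ, add_smul,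
    one_smul]
  congr 1
  abel

end PairModel

/-- The pointwise stabiliser of `a` and `b`. -/
def pairFix (a b : G) : Subgroup G := Subgroup.centralizer ({a, b} : Set G)

theorem mem_pairFix {a b k : G} : k ∈ pairFix a b ↔ Commute k a ∧ Commute k b := by
  rw [pairFix, Subgroup.mem_centralizer_iff]
  simp only [Set.mem_insert_iff, Set.mem_singleton_iff, forall_eq_or_imp, forall_eq]
  exact ⟨fun h => ⟨h.1.symm, h.2.symm⟩, fun h => ⟨h.1.symm, h.2.symm⟩⟩

theorem pairFix_eq_inf (a b : G) :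
    pairFix a b = Subgroup.centralizer ({a} : Set G) ⊓ Subgroup.centralizer {b} := by
  ext k
  rw [mem_pairFix, Subgroup.mem_inf, Subgroup.mem_centralizer_singleton_iff,
    Subgroup.mem_centralizer_singleton_iff]
  rfl

namespace PairModel

variable {a b : G} {pt : (Fin 6 → F) → G}

/-- The action as a matrix. -/
noncomputable def psi (P : PairModel D a b pt) : ↥(pairFix a b) →* Cfsg.SU 6 F 2 where
  toFun k := (P.exists_acts (mem_pairFix.1 k.2).1 (mem_pairFix.1 k.2).2).choose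
  map_one' := P.acts_unique (Exists.choose_spec _) acts_one
  map_mul' k l := P.acts_unique (Exists.choose_spec (P.exists_acts (mem_pairFix.1 (k * l).2).1
      (mem_pairFix.1 (k * l).2).2))
    (acts_mul (Exists.choose_spec (P.exists_acts (mem_pairFix.1 k.2).1 (mem_pairFix.1 k.2).2))
      (Exists.choose_spec (P.exists_acts (mem_pairFix.1 l.2).1 (mem_pairFix.1 l.2).2)))

theorem psi_spec (P : PairModel D a b pt) (k : ↥(pairFix a b)) : Acts pt (k : G) (P.psi k) :=
  Exists.choose_spec (P.exists_acts (mem_pairFix.1 k.2).1 (mem_pairFix.1 k.2).2)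

theorem psi_eq (P : PairModel D a b pt) {k : ↥(pairFix a b)} {A : Cfsg.SU 6 F 2} (h : Acts pt (k : G) A) :
    P.psi k = A := P.acts_unique (P.psi_spec k) h

/-- The map onto SU(4,2). -/
noncomputable def rho (P : PairModel D a b pt) : ↥(pairFix a b) →* Cfsg.SU 4 F 2 where
  toFun k := (blockOf_exists P.M.card (P.psi_spec k).1).choose
  map_one' := blockOf_unique (Exists.choose_spec _) (by rw [map_one]; exact blockOf_one)
  map_mul' k l := blockOf_unique (Exists.choose_spec (blockOf_exists P.M.card (P.psi_spec (k * l)).1)) (by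
    rw [map_mul]
    exact blockOf_mul (P.psi_spec k).1 (Exists.choose_spec (blockOf_exists P.M.card (P.psi_spec k).1))
      (Exists.choose_spec (blockOf_exists P.M.card (P.psi_spec l).1)))

theorem rho_spec (P : PairModel D a b pt) (k : ↥(pairFix a b)) : BlockOf (P.psi k) (P.rho k) :=
  Exists.choose_spec (blockOf_exists P.M.card (P.psi_spec k).1)

theorem rho_eq (P : PairModel D a b pt) {k : ↥(pairFix a b)} {A : Cfsg.SU 6 F 2} {B : Cfsg.SU 4 F 2}
    (h : Acts pt (k : G) A) (h' : BlockOf A B) : P.rho k = B :=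
  blockOf_unique (P.rho_spec k) (by rw [P.psi_eq h]; exact h')

theorem rho_surjective (P : PairModel D a b pt) : Function.Surjective P.rho := fun B => by
  obtain ⟨k, ka, kb, hk⟩ := P.exists_elem (blockOf_lowerHom B).1
  exact ⟨⟨k, mem_pairFix.2 ⟨ka, kb⟩⟩, P.rho_eq hk (blockOf_lowerHom B).2⟩

theorem Q_fix (P : PairModel D a b pt) (t : F) {y : Fin 4 → F} (hy : Iso y) :
    Q pt t y ∈ pairFix a b :=
  mem_pairFix.2 ⟨(P.Q_mem t hy).1.2.2.symm, (P.Q_mem t hy).2.2.2.symm⟩

theorem rho_Q (P : PairModel D a b pt) (t : F) {y : Fin 4 → F} (hy : Iso y) :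
    P.rho ⟨Q pt t y, P.Q_fix t hy⟩ = tv P.M.card y :=
  P.rho_eq ⟨(blockOf_tv P.M.card hy t).1, fun x hx => P.self _ (comb_iso P.M.card t hy) x hx⟩
    (blockOf_tv P.M.card hy t).2

/-- Conjugation of the members of the hexads through `a` and `b`. -/
theorem conj_Q (P : PairModel D a b pt) (k : ↥(pairFix a b)) (t : F) {y : Fin 4 → F} (hy : Iso y) :
    (k : G) * Q pt t y * (k : G)⁻¹ = Q pt (t + act (P.psi k) (low y) 0) (act (P.rho k) y) := by
  obtain ⟨c, hc⟩ := P.rho_spec k y
  have e : act (P.psi k) (low y) 0 = c := by simp [hc, v0_zero, low_zero_apply]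
  rw [e, Q, (P.psi_spec k).2 _ (comb_iso P.M.card t hy), Q, act_add, act_smul, (P.psi_spec k).1, hc,
    add_smul, add_assoc]

/-- The kernel of the map onto SU(4,2) fixes every hexad through `a` and `b`. -/
theorem rho_eq_one_iff [Finite G] (P : PairModel D a b pt) (k : ↥(pairFix a b)) :
    P.rho k = 1 ↔ ∀ q ∈ common D a b, (k : G) * q * (k : G)⁻¹ ∈ hexSet D a b q := by
  have hF := P.M.card
  constructor
  · intro h q hq
    obtain ⟨t, y, hy, rfl⟩ := P.exists_Q hq
    rw [P.conj_Q k t hy, h, act_one]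
    exact P.hexSet_eq _ _ hy
  · intro h
    have hc : P.rho k ∈ Subgroup.center (Cfsg.SU 4 F 2) := by
      refine central_of_fix hF le_rfl fun y hy => ?_
      have h' := h _ (P.Q_mem 0 hy)
      rw [P.conj_Q k 0 hy] at h'
      have hm := P.Q_mem (0 + act (P.psi k) (low y) 0) (hy.act (P.rho k))
      obtain ⟨s, hs⟩ := P.exists_Q_of_hex hy h' hm.1.2.1 hm.2.2.1
      obtain ⟨c, hc, -, e⟩ := P.Q_inj hy (hy.act (P.rho k)) hs.symm
      exact ⟨c, hc, e⟩
    rwa [center_SU4 hF, Subgroup.mem_bot] at hc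

end PairModel

end Cfsg.Agent.FischerM22
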