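/-
A group of type M(22) has a subgroup Ω(7,3) generated by members and of index prime to three.

Main results (namespace `Cfsg.Agent.FischerM22`):
* `frameHom_bijective` : the map given by a frame is bijective;
* `exists_omega_seven` : the image of ⟨b, …, i⟩ is a member-generated Ω(7,3) of index 14080;
* `sylow_of_index` : a subgroup of index prime to `p` contains Sylow `p`-subgroups as Sylow subgroups.
-/
import Cfsg.Agent.Lib.FischerM22.Iso
import Cfsg.Agent.S1685
import Cfsg.Agent.S1686

set_option autoImplicit false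

namespace Cfsg.Agent.FischerM22

variable {G : Type*} [Group G] [Finite G] {D : Set G} {a b c d e f g h i : G}

theorem frameHom_bijective (S : Fi22Setup D) (Q : YFrame D a b c d e f g h i) :
    Function.Bijective (frameHom S Q) := by
  obtain ⟨hs, hcard⟩ := Cfsg.Agent.S1696.result
  haveI := hs
  have : Finite Cfsg.Spor.Fi22 := Nat.finite_of_card_ne_zero (by rw [hcard]; norm_num)
  refine (Nat.bijective_iff_injective_and_card _).2 ⟨?_, by rw [hcard, group_card S]⟩
  rw [← MonoidHom.ker_eq_bot_iff]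
  refine (hs.eq_bot_or_eq_top_of_normal (frameHom S Q).ker inferInstance).resolve_right fun htop => ?_
  have h1 : frameHom S Q (PresentedGroup.of Cfsg.Spor.Fi22.Gen.a) = 1 := by
    rw [← MonoidHom.mem_ker, htop]; exact Subgroup.mem_top _
  rw [frameHom, PresentedGroup.toGroup.of] at h1
  exact Cfsg.Agent.ThreeTrans.ne_one S.cls.1 Q.far.left h1

/-- The image of ⟨b, …, i⟩ in a group of type M(22). -/
theorem exists_omega_seven (S : Fi22Setup D) : ∃ L : Subgroup G, Cfsg.IsDSubgroup D L ∧
    Nonempty (↥L ≃* Cfsg.POmega (ZMod 3) (Cfsg.quadFormOdd 3 (ZMod 3))) ∧ L.index = 14080 := by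
  obtain ⟨a, b, c, d, e, f, g, h, i, Q⟩ := exists_frame S
  have hbij := frameHom_bijective S Q
  obtain ⟨iso⟩ := Cfsg.Agent.S1686.result
  have hidx := Cfsg.Agent.S1685.result
  set mk := PresentedGroup.mk (Cfsg.Spor.coxRelators Cfsg.Spor.Fi22.edges ∪ {r | r ∈ Cfsg.Spor.Fi22.extra})
  set s : Set (FreeGroup Cfsg.Spor.Fi22.Gen) := {Cfsg.Spor.Fi22.b, Cfsg.Spor.Fi22.c, Cfsg.Spor.Fi22.d,
    Cfsg.Spor.Fi22.e, Cfsg.Spor.Fi22.f, Cfsg.Spor.Fi22.g, Cfsg.Spor.Fi22.h, Cfsg.Spor.Fi22.i} with hs
  set H := (Subgroup.closure s).map mk with hH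
  refine ⟨H.map (frameHom S Q), ?_,
    ⟨(H.equivMapOfInjective _ hbij.1).symm.trans iso⟩, ?_⟩
  · refine le_antisymm ((Subgroup.closure_le _).2 fun x hx => hx.2) ?_
    rw [hH, Subgroup.map_map, MonoidHom.map_closure, Subgroup.closure_le]
    rintro _ ⟨w, hw, rfl⟩
    refine Subgroup.subset_closure ⟨?_, ?_⟩
    · obtain ⟨aD, bD, cD, dD, eD, fD, gD, hD, iD⟩ := Q.memD
      simp only [hs, Set.mem_insert_iff, Set.mem_singleton_iff] at hw
      rcases hw with rfl | rfl | rfl | rfl | rfl | rfl | rfl | rfl <;>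
        simp only [MonoidHom.comp_apply] <;>
        (show frameHom S Q (PresentedGroup.of _) ∈ D) <;>
        rw [frameHom, PresentedGroup.toGroup.of] <;> assumption
    · exact Subgroup.subset_closure ⟨w, hw, rfl⟩
  · rw [Subgroup.index_map_of_bijective hbij, hidx]

omit [Finite G] in
/-- A Sylow subgroup of a subgroup of index prime to `p` is a Sylow subgroup of the whole group. -/
theorem sylow_of_index [Finite G] {p : ℕ} [Fact p.Prime] (L : Subgroup G) (h : ¬ p ∣ L.index) (P : Sylow p ↥L) :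
    ∃ P' : Sylow p G, (P : Subgroup ↥L).map L.subtype = (P' : Subgroup G) := by
  have h1 : IsPGroup p ↥((P : Subgroup ↥L).map L.subtype) := P.2.map _
  have h2 : ¬ p ∣ ((P : Subgroup ↥L).map L.subtype).index := by
    rw [Subgroup.index_map_subtype]
    exact fun hd => ((Fact.out : p.Prime).dvd_mul.1 hd).elim P.not_dvd_index h
  exact ⟨h1.toSylow h2, rfl⟩

end Cfsg.Agent.FischerM22
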